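import Cfsg.Agent.S2119

/-!
# Automorphisms of an alternating group preserving the three-cycles come from permutations
-/

set_option autoImplicit false

namespace Cfsg.Lib.Recog.NineSC

open Equiv Equiv.Perm Cfsg.Agent.S2119

theorem exists_conj_of_preserves (n : ℕ) (hn : 4 ≤ n) (φ : MulAut (alternatingGroup (Fin n)))
    (h3 : ∀ y : alternatingGroup (Fin n), IsThreeCycle (y : Perm (Fin n)) → IsThreeCycle (φ y : Perm (Fin n))) :
    ∃ σ : Perm (Fin n), MulAut.conjNormal σ = φ := by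
  obtain ⟨o, e, u, hoe, hou, heu⟩ : ∃ o e u : Fin n, o ≠ e ∧ o ≠ u ∧ e ≠ u :=
    ⟨⟨0, by omega⟩, ⟨1, by omega⟩, ⟨2, by omega⟩, by simp, by simp, by simp⟩
  let c : ∀ i : Fin n, alternatingGroup (Fin n) := fun i =>
    if h : i ≠ o ∧ i ≠ e then ⟨cyc o e i, (cyc_three hoe h.1.symm h.2.symm).mem_alternatingGroup⟩ else 1
  have hc : ∀ i, i ≠ o → i ≠ e → (c i : Perm (Fin n)) = cyc o e i := fun i h1 h2 => by simp [c, h1, h2]
  have hd : ∀ i, i ≠ o → i ≠ e → IsThreeCycle (φ (c i) : Perm (Fin n)) := fun i h1 h2 =>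
    h3 _ (by rw [hc i h1 h2]; exact cyc_three hoe h1.symm h2.symm)
  have hgen : ∀ g : alternatingGroup (Fin n), g ∈ Subgroup.closure (c '' {i | i ≠ o ∧ i ≠ e}) := by
    set K := (Subgroup.closure (c '' {i | i ≠ o ∧ i ≠ e})).map (alternatingGroup (Fin n)).subtype with hK
    have hle : alternatingGroup (Fin n) ≤ K := by
      rw [← closure_three_cycles_eq_alternating, Subgroup.closure_le]
      intro g hg
      obtain ⟨a, b, d, hab, had, hbd, rfl⟩ := exists_cyc hg
      exact cyc_mem K o e hoe (fun i h1 h2 => ⟨c i, Subgroup.subset_closure ⟨i, ⟨h1, h2⟩, rfl⟩, hc i h1 h2⟩)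
        a b d hab had hbd
    intro g
    obtain ⟨g', hg', he'⟩ := hle g.2
    exact (Subtype.ext he' : g' = g) ▸ hg'
  obtain ⟨P, Q, R, hPQ, hPR, hQR, hu⟩ := exists_cyc (hd u hou.symm heu.symm)
  have hrel : ∀ i j, i ≠ o → i ≠ e → j ≠ o → j ≠ e → i ≠ j →
      (φ (c i) : Perm (Fin n)) * φ (c j) * (φ (c i) * φ (c j)) = 1 ∧
      (φ (c i) : Perm (Fin n)) * φ (c j) ≠ 1 ∧ (φ (c j) : Perm (Fin n)) ≠ φ (c i) := by
    intro i j hi1 hi2 hj1 hj2 hij
    have hpt : ∀ z, z = cyc o e i (cyc o e j z) → z ≠ o := by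
      intro z hz ho
      subst ho
      rw [cyc_fst hoe hj1.symm, cyc_snd hi1.symm hi2.symm] at hz
      exact hi1 hz.symm
    have hsq : c i * c j * (c i * c j) = 1 := by
      refine Subtype.ext (Equiv.ext fun z => ?_)
      simp only [Subgroup.coe_mul, hc i hi1 hi2, hc j hj1 hj2, Perm.mul_apply, Subgroup.coe_one, Perm.one_apply]
      by_cases z1 : z = o
      · subst z1
        rw [cyc_fst hoe hj1.symm, cyc_snd hi1.symm hi2.symm, cyc_out hi1 hi2 hij, cyc_thd]
      by_cases z2 : z = e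
      · subst z2
        rw [cyc_snd hj1.symm hj2.symm, cyc_out hj1 hj2 hij.symm, cyc_thd, cyc_fst hoe hi1.symm]
      by_cases z3 : z = i
      · subst z3
        rw [cyc_out hi1 hi2 hij, cyc_thd, cyc_fst hoe hj1.symm, cyc_snd hi1.symm hi2.symm]
      by_cases z4 : z = j
      · subst z4
        rw [cyc_thd, cyc_fst hoe hi1.symm, cyc_snd hj1.symm hj2.symm, cyc_out hj1 hj2 hij.symm]
      rw [cyc_out z1 z2 z4, cyc_out z1 z2 z3, cyc_out z1 z2 z4, cyc_out z1 z2 z3]
    refine ⟨?_, ?_, ?_⟩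
    · have h := congrArg (fun g => (φ g : Perm (Fin n))) hsq
      simpa using h
    · intro h
      have h' : c i * c j = 1 := φ.injective (Subtype.ext (by simpa using h))
      refine hpt o ?_ rfl
      have := congrArg (fun g : alternatingGroup (Fin n) => (g : Perm (Fin n)) o) h'
      simpa [hc i hi1 hi2, hc j hj1 hj2] using this.symm
    · intro h
      have h' : c j = c i := φ.injective (Subtype.ext h)
      have := congrArg (fun g : alternatingGroup (Fin n) => (g : Perm (Fin n)) e) h'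
      simp only [hc i hi1 hi2, hc j hj1 hj2, cyc_snd hi1.symm hi2.symm, cyc_snd hj1.symm hj2.symm] at this
      exact hij this.symm
  have hform : ∀ i, i ≠ o → i ≠ e → i ≠ u → ∃ x, x ≠ P ∧ x ≠ Q ∧ x ≠ R ∧
      ((φ (c i) : Perm (Fin n)) = cyc P Q x ∨ (φ (c i) : Perm (Fin n)) = cyc Q R x ∨
        (φ (c i) : Perm (Fin n)) = cyc R P x) := by
    intro i hi1 hi2 hiu
    obtain ⟨a, b, d, hab, had, hbd, he⟩ := exists_cyc (hd i hi1 hi2)
    obtain ⟨r1, r2, r3⟩ := hrel u i hou.symm heu.symm hi1 hi2 (Ne.symm hiu)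
    rw [hu, he] at r1 r2 r3
    rw [he]
    exact edge hPQ hPR hQR hab had hbd r1 r2 r3
  choose! x hxP hxQ hxR hx using hform
  obtain ⟨A, B, C', hAB, hAC, hBC, hu', hall⟩ : ∃ A B C', A ≠ B ∧ A ≠ C' ∧ B ≠ C' ∧
      (φ (c u) : Perm (Fin n)) = cyc A B C' ∧
      ∀ i, i ≠ o → i ≠ e → i ≠ u → x i ≠ A ∧ x i ≠ B ∧ (φ (c i) : Perm (Fin n)) = cyc A B (x i) := by
    have r1 : cyc P Q R = cyc Q R P := cyc_rot hPQ hPR hQR
    have r2 : cyc P Q R = cyc R P Q := by rw [r1, cyc_rot hQR hPQ.symm hPR.symm]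
    have hdiff : ∀ i j, i ≠ o → i ≠ e → i ≠ u → j ≠ o → j ≠ e → j ≠ u →
        (((φ (c i) : Perm (Fin n)) = cyc P Q (x i) ∧ (φ (c j) : Perm (Fin n)) = cyc Q R (x j)) ∨
        ((φ (c i) : Perm (Fin n)) = cyc Q R (x i) ∧ (φ (c j) : Perm (Fin n)) = cyc R P (x j)) ∨
        ((φ (c i) : Perm (Fin n)) = cyc R P (x i) ∧ (φ (c j) : Perm (Fin n)) = cyc P Q (x j))) → x i = x j := by
      intro i j hi1 hi2 hi3 hj1 hj2 hj3 hh
      by_contra hne
      have hij : i ≠ j := fun e => hne (e ▸ rfl)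
      have hr := (hrel i j hi1 hi2 hj1 hj2 hij).1
      rcases hh with ⟨ei, ej⟩ | ⟨ei, ej⟩ | ⟨ei, ej⟩ <;> rw [ei, ej] at hr
      · exact pair_ne hPQ hPR hQR (hxP i hi1 hi2 hi3) (hxQ i hi1 hi2 hi3) (hxR i hi1 hi2 hi3)
          (hxP j hj1 hj2 hj3) hne hr
      · exact pair_ne hQR hPQ.symm hPR.symm (hxQ i hi1 hi2 hi3) (hxR i hi1 hi2 hi3) (hxP i hi1 hi2 hi3)
          (hxQ j hj1 hj2 hj3) hne hr
      · exact pair_ne hPR.symm hQR.symm hPQ (hxR i hi1 hi2 hi3) (hxP i hi1 hi2 hi3) (hxQ i hi1 hi2 hi3)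
          (hxR j hj1 hj2 hj3) hne hr
    by_cases hw : ∃ y, ∀ i, i ≠ o → i ≠ e → i ≠ u → x i = y
    · obtain ⟨y, hy⟩ := hw
      by_cases hone : ∀ i j, i ≠ o → i ≠ e → i ≠ u → j ≠ o → j ≠ e → j ≠ u → i = j
      · by_cases hex : ∃ i, i ≠ o ∧ i ≠ e ∧ i ≠ u
        · obtain ⟨i, hi1, hi2, hi3⟩ := hex
          rcases hx i hi1 hi2 hi3 with h | h | h
          · exact ⟨P, Q, R, hPQ, hPR, hQR, hu, fun j a b d => by
              obtain rfl := hone j i a b d hi1 hi2 hi3; exact ⟨hxP j a b d, hxQ j a b d, h⟩⟩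
          · exact ⟨Q, R, P, hQR, hPQ.symm, hPR.symm, hu.trans r1, fun j a b d => by
              obtain rfl := hone j i a b d hi1 hi2 hi3; exact ⟨hxQ j a b d, hxR j a b d, h⟩⟩
          · exact ⟨R, P, Q, hPR.symm, hQR.symm, hPQ, hu.trans r2, fun j a b d => by
              obtain rfl := hone j i a b d hi1 hi2 hi3; exact ⟨hxR j a b d, hxP j a b d, h⟩⟩
        · push Not at hex
          exact ⟨P, Q, R, hPQ, hPR, hQR, hu, fun j a b d => absurd (hex j a b) d⟩
      · exfalso
        push Not at hone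
        obtain ⟨i, j, hi1, hi2, hi3, hj1, hj2, hj3, hij⟩ := hone
        have hn5 : 5 ≤ n := by
          have : ({o, e, u, i, j} : Finset (Fin n)).card = 5 := by
            simp [hoe, hou, heu, Ne.symm hi1, Ne.symm hi2, Ne.symm hi3, Ne.symm hj1, Ne.symm hj2, Ne.symm hj3, hij]
          have := Finset.card_le_univ ({o, e, u, i, j} : Finset (Fin n))
          rw [Fintype.card_fin] at this
          omega
        obtain ⟨z, hz⟩ := Finset.card_pos.mp (show 0 < (({P, Q, R, y} : Finset (Fin n))ᶜ).card by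
          rw [Finset.card_compl, Fintype.card_fin]
          have := Finset.card_le_four (a := P) (b := Q) (c := R) (d := y)
          omega)
        simp only [Finset.mem_compl, Finset.mem_insert, Finset.mem_singleton, not_or] at hz
        have hfix : ∀ g : alternatingGroup (Fin n), (φ g : Perm (Fin n)) z = z := by
          intro g
          induction hgen g using Subgroup.closure_induction with
          | mem w hw =>
            obtain ⟨k, ⟨hk1, hk2⟩, rfl⟩ := hw
            by_cases hk3 : k = u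
            · rw [hk3, hu]; exact cyc_out hz.1 hz.2.1 hz.2.2.1
            · have hy' := hy k hk1 hk2 hk3
              rcases hx k hk1 hk2 hk3 with h | h | h <;> rw [h, hy']
              · exact cyc_out hz.1 hz.2.1 hz.2.2.2
              · exact cyc_out hz.2.1 hz.2.2.1 hz.2.2.2
              · exact cyc_out hz.2.2.1 hz.1 hz.2.2.2
          | one => simp
          | mul a b _ _ ha hb => simp [ha, hb]
          | inv a _ ha =>
            rw [map_inv, Subgroup.coe_inv, Perm.inv_eq_iff_eq]; exact ha.symm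
        obtain ⟨g, hg⟩ := φ.surjective ⟨cyc z P Q, (cyc_three hz.1 hz.2.1 hPQ).mem_alternatingGroup⟩
        have := hfix g
        rw [hg] at this
        rw [cyc_fst hz.1 hz.2.1] at this
        exact hz.1 this.symm
    · have key : ∀ i j, i ≠ o → i ≠ e → i ≠ u → j ≠ o → j ≠ e → j ≠ u →
          ((φ (c i) : Perm (Fin n)) = cyc P Q (x i) → (φ (c j) : Perm (Fin n)) = cyc P Q (x j)) ∧
          ((φ (c i) : Perm (Fin n)) = cyc Q R (x i) → (φ (c j) : Perm (Fin n)) = cyc Q R (x j)) ∧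
          ((φ (c i) : Perm (Fin n)) = cyc R P (x i) → (φ (c j) : Perm (Fin n)) = cyc R P (x j)) := by
        intro i j hi1 hi2 hi3 hj1 hj2 hj3
        -- if `i, j` differ then every other image shares the third point
        have gen : x i = x j → ((φ (c i) : Perm (Fin n)) ≠ φ (c j)) → False := by
          intro hxy hne'
          apply hw
          refine ⟨x i, fun k hk1 hk2 hk3 => ?_⟩
          rcases hx i hi1 hi2 hi3 with h | h | h <;> rcases hx j hj1 hj2 hj3 with h' | h' | h' <;>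
            rcases hx k hk1 hk2 hk3 with g | g | g <;>
            first
              | (refine absurd ?_ hne'; rw [h, h', hxy]; done)
              | exact hdiff k i hk1 hk2 hk3 hi1 hi2 hi3 (Or.inl ⟨g, h⟩)
              | exact hdiff k i hk1 hk2 hk3 hi1 hi2 hi3 (Or.inr (Or.inl ⟨g, h⟩))
              | exact hdiff k i hk1 hk2 hk3 hi1 hi2 hi3 (Or.inr (Or.inr ⟨g, h⟩))
              | exact (hdiff i k hi1 hi2 hi3 hk1 hk2 hk3 (Or.inl ⟨h, g⟩)).symm
              | exact (hdiff i k hi1 hi2 hi3 hk1 hk2 hk3 (Or.inr (Or.inl ⟨h, g⟩))).symm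
              | exact (hdiff i k hi1 hi2 hi3 hk1 hk2 hk3 (Or.inr (Or.inr ⟨h, g⟩))).symm
              | exact hxy ▸ hdiff k j hk1 hk2 hk3 hj1 hj2 hj3 (Or.inl ⟨g, h'⟩)
              | exact hxy ▸ hdiff k j hk1 hk2 hk3 hj1 hj2 hj3 (Or.inr (Or.inl ⟨g, h'⟩))
              | exact hxy ▸ hdiff k j hk1 hk2 hk3 hj1 hj2 hj3 (Or.inr (Or.inr ⟨g, h'⟩))
              | exact hxy ▸ (hdiff j k hj1 hj2 hj3 hk1 hk2 hk3 (Or.inl ⟨h', g⟩)).symm
              | exact hxy ▸ (hdiff j k hj1 hj2 hj3 hk1 hk2 hk3 (Or.inr (Or.inl ⟨h', g⟩))).symm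
              | exact hxy ▸ (hdiff j k hj1 hj2 hj3 hk1 hk2 hk3 (Or.inr (Or.inr ⟨h', g⟩))).symm
        have hP := hxP i hi1 hi2 hi3
        have hQ := hxQ i hi1 hi2 hi3
        have hR := hxR i hi1 hi2 hi3
        refine ⟨fun h => ?_, fun h => ?_, fun h => ?_⟩ <;> rcases hx j hj1 hj2 hj3 with h' | h' | h' <;>
          first
            | exact h'
            | (exfalso
               have hh : x i = x j := by
                 first
                   | exact hdiff i j hi1 hi2 hi3 hj1 hj2 hj3 (Or.inl ⟨h, h'⟩)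
                   | exact hdiff i j hi1 hi2 hi3 hj1 hj2 hj3 (Or.inr (Or.inl ⟨h, h'⟩))
                   | exact hdiff i j hi1 hi2 hi3 hj1 hj2 hj3 (Or.inr (Or.inr ⟨h, h'⟩))
                   | exact (hdiff j i hj1 hj2 hj3 hi1 hi2 hi3 (Or.inl ⟨h', h⟩)).symm
                   | exact (hdiff j i hj1 hj2 hj3 hi1 hi2 hi3 (Or.inr (Or.inl ⟨h', h⟩))).symm
                   | exact (hdiff j i hj1 hj2 hj3 hi1 hi2 hi3 (Or.inr (Or.inr ⟨h', h⟩))).symm
               refine gen hh fun heq => ?_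
               rw [h, h', ← hh] at heq
               have t1 := congrArg (fun g : Perm (Fin n) => g (x i)) heq
               simp only [cyc_thd] at t1
               first | exact hPQ t1 | exact hPQ t1.symm | exact hQR t1 | exact hQR t1.symm | exact hPR t1 | exact hPR t1.symm)
      push Not at hw
      obtain ⟨i, hi1, hi2, hi3, -⟩ := hw P
      rcases hx i hi1 hi2 hi3 with h | h | h
      · exact ⟨P, Q, R, hPQ, hPR, hQR, hu, fun j a b d =>
          ⟨hxP j a b d, hxQ j a b d, (key i j hi1 hi2 hi3 a b d).1 h⟩⟩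
      · exact ⟨Q, R, P, hQR, hPQ.symm, hPR.symm, hu.trans r1, fun j a b d =>
          ⟨hxQ j a b d, hxR j a b d, (key i j hi1 hi2 hi3 a b d).2.1 h⟩⟩
      · exact ⟨R, P, Q, hPR.symm, hQR.symm, hPQ, hu.trans r2, fun j a b d =>
          ⟨hxR j a b d, hxP j a b d, (key i j hi1 hi2 hi3 a b d).2.2 h⟩⟩
  let f : Fin n → Fin n := fun i => if i = o then A else if i = e then B else if i = u then C' else x i
  have hfc : ∀ i, i ≠ o → i ≠ e → (φ (c i) : Perm (Fin n)) = cyc A B (f i) ∧ f i ≠ A ∧ f i ≠ B := by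
    intro i h1 h2
    by_cases h3 : i = u
    · subst h3; simp only [f, h1, h2, if_false, if_true]
      exact ⟨hu', hAC.symm, hBC.symm⟩
    · obtain ⟨q1, q2, q3⟩ := hall i h1 h2 h3
      simp only [f, h1, h2, h3, if_false]
      exact ⟨q3, q1, q2⟩
  have hfo : f o = A := by simp [f]
  have hfe : f e = B := by simp [f, hoe.symm]
  have hinj : Function.Injective f := by
    intro i j hij
    by_contra hne
    have hA : ∀ k, k ≠ o → f k ≠ A := fun k hk => by
      by_cases hke : k = e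
      · rw [hke, hfe]; exact hAB.symm
      · exact (hfc k hk hke).2.1
    have hB : ∀ k, k ≠ e → f k ≠ B := fun k hk => by
      by_cases hko : k = o
      · rw [hko, hfo]; exact hAB
      · exact (hfc k hko hk).2.2
    by_cases i1 : i = o
    · subst i1; exact hA j (Ne.symm hne) (by rw [← hij, hfo])
    by_cases j1 : j = o
    · subst j1; exact hA i hne (by rw [hij, hfo])
    by_cases i2 : i = e
    · subst i2; exact hB j (Ne.symm hne) (by rw [← hij, hfe])
    by_cases j2 : j = e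
    · subst j2; exact hB i hne (by rw [hij, hfe])
    have := (hrel i j i1 i2 j1 j2 hne).2.2
    rw [(hfc i i1 i2).1, (hfc j j1 j2).1, hij] at this
    exact this rfl
  let σ : Perm (Fin n) := Equiv.ofBijective f (Finite.injective_iff_bijective.mp hinj)
  refine ⟨σ, MulEquiv.ext fun g => ?_⟩
  induction hgen g using Subgroup.closure_induction with
  | mem w hw =>
    obtain ⟨k, ⟨hk1, hk2⟩, rfl⟩ := hw
    refine Subtype.ext ?_
    rw [MulAut.conjNormal_apply, hc k hk1 hk2, cyc_conj, (hfc k hk1 hk2).1]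
    show cyc (f o) (f e) (f k) = _
    rw [hfo, hfe]
  | one => simp
  | mul a b _ _ ha hb => rw [map_mul, map_mul, ha, hb]
  | inv a _ ha => rw [map_inv, map_inv, ha]

end Cfsg.Lib.Recog.NineSC
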