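import Mathlib

/-!
# Integral columns for a Klein four-group of automorphisms of a Sylow subgroup of order nine
-/

set_option autoImplicit false

namespace Cfsg.Lib.Recog.NineSC

variable {ι : Type*} [Fintype ι] [DecidableEq ι]

theorem div_eq_signed {a b s : ℤ} (hs : s = 1 ∨ s = -1) :
    (a : ℚ) / (b : ℚ) = ((s * a : ℤ) : ℚ) / ((s * b : ℤ) : ℚ) := by
  rcases hs with rfl | rfl <;> simp

theorem klein_small {c₀ c₁ c₂ x₀ x₁ x₂ : ℤ} (hsum : c₀ + c₁ + c₂ = -3) (hsq : c₀ * c₀ + c₁ * c₁ + c₂ * c₂ ≤ 8)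
    (hx : x₀ + x₁ + x₂ = 0) (hx1 : x₁ ≠ 0) (hx2 : x₂ ≠ 0) (m0 : (x₀ + 8 * c₀ + 12) % 9 = 0)
    (m1 : (x₁ + 8 * c₁ + 6) % 9 = 0) (m2 : (x₂ + 8 * c₂ + 6) % 9 = 0)
    (heq : (c₁ * x₂ + c₂ * x₁) * x₀ = (2 * c₀ + 6) * (x₁ * x₂)) :
    c₁ = -1 ∧ c₂ = -1 ∧ x₁ = x₂ ∧ x₁ % 9 = 2 := by
  obtain rfl : x₀ = -(x₁ + x₂) := by omega
  have : -2 ≤ c₁ := by nlinarith [sq_nonneg (c₀ - c₂), sq_nonneg (c₁ + 3)]
  have : c₁ ≤ 2 := by nlinarith
  have : -2 ≤ c₂ := by nlinarith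
  have : c₂ ≤ 2 := by nlinarith
  obtain rfl : c₀ = -3 - c₁ - c₂ := by omega
  interval_cases c₁ <;> interval_cases c₂ <;> (try norm_num at hsq) <;> (try norm_num at heq) <;>
    (try norm_num) <;>
    first
      | (have h0 : (x₁ - x₂) * (x₂ - 2 * x₁) = 0 := by linarith
         rcases mul_eq_zero.1 h0 with h | h <;> omega)
      | (have h0 : (x₁ - x₂) * (x₁ - 2 * x₂) = 0 := by linarith
         rcases mul_eq_zero.1 h0 with h | h <;> omega)
      | (have h0 : (x₁ - x₂) * x₁ = 0 := by linarith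
         rcases mul_eq_zero.1 h0 with h | h <;> omega)
      | (have h0 : (x₁ - x₂) * x₂ = 0 := by linarith
         rcases mul_eq_zero.1 h0 with h | h <;> omega)
      | (have h0 : (x₁ - x₂) * (x₁ - x₂) = 0 := by linarith
         rcases mul_eq_zero.1 h0 with h | h <;> omega)

theorem small_t {t : ℤ} (h : 6 * (t * t) + 1 ≤ 18 * t) (ht : t % 9 = 2) : t = 2 := by
  have : t ≤ 3 := by nlinarith
  have : 0 ≤ t := by nlinarith [mul_self_nonneg t]
  omega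

set_option maxHeartbeats 1000000 in
/-- The columns force order `36`. -/
theorem order_of_klein {o : ι} {u v w d : ι → ℤ} {g : ℕ} (hu0 : u o = 1) (hw0 : w o = 1)
    (hd0 : d o = 1) (hd : ∀ χ, χ ≠ o → d χ ≠ 0)
    (hmu : ∀ χ, u χ % 3 = w χ % 3) (hmv : ∀ χ, v χ % 3 = w χ % 3)
    (hnine : ∀ χ, (d χ + 2 * u χ + 2 * v χ + 4 * w χ) % 9 = 0)
    (huu : ∑ χ, u χ * u χ = 18) (hvv : ∑ χ, v χ * v χ = 18) (hww : ∑ χ, w χ * w χ = 9)
    (huv : ∑ χ, u χ * v χ = 0) (huw : ∑ χ, u χ * w χ = 0) (hvw : ∑ χ, v χ * w χ = 0)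
    (hdu : ∑ χ, d χ * u χ = 0) (hdv : ∑ χ, d χ * v χ = 0) (hdw : ∑ χ, d χ * w χ = 0)
    (hsq : ∑ χ, d χ * d χ = g)
    (e_uuv : (g : ℚ) * ∑ χ, ((u χ * v χ * u χ : ℤ) : ℚ) / (d χ : ℚ) = 0)
    (e_uuw : (g : ℚ) * ∑ χ, ((u χ * w χ * u χ : ℤ) : ℚ) / (d χ : ℚ) = 0)
    (e_uvw : (g : ℚ) * ∑ χ, ((u χ * v χ * w χ : ℤ) : ℚ) / (d χ : ℚ) = 324)
    (e_uww : (g : ℚ) * ∑ χ, ((u χ * w χ * w χ : ℤ) : ℚ) / (d χ : ℚ) = 162)
    (e_vww : (g : ℚ) * ∑ χ, ((v χ * w χ * w χ : ℤ) : ℚ) / (d χ : ℚ) = 162) : g = 36 := by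
  classical
  obtain ⟨D, rfl⟩ : ∃ D : ι → ℤ, u = fun χ => w χ + 3 * D χ :=
    ⟨fun χ => (u χ - w χ) / 3, funext fun χ => by have := hmu χ; show u χ = w χ + 3 * ((u χ - w χ) / 3); omega⟩
  obtain ⟨F, rfl⟩ : ∃ F : ι → ℤ, v = fun χ => w χ + 3 * F χ :=
    ⟨fun χ => (v χ - w χ) / 3, funext fun χ => by have := hmv χ; show v χ = w χ + 3 * ((v χ - w χ) / 3); omega⟩
  simp only [add_mul, mul_add, Finset.sum_add_distrib] at huu hvv huv huw hvw hdu hdv
  have cD : ∀ f : ι → ℤ, ∑ χ, f χ * (3 * D χ) = 3 * ∑ χ, f χ * D χ := fun f => by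
    rw [Finset.mul_sum]; exact Finset.sum_congr rfl fun χ _ => by ring
  have cF : ∀ f : ι → ℤ, ∑ χ, f χ * (3 * F χ) = 3 * ∑ χ, f χ * F χ := fun f => by
    rw [Finset.mul_sum]; exact Finset.sum_congr rfl fun χ _ => by ring
  have cD' : ∑ χ, 3 * D χ * w χ = 3 * ∑ χ, w χ * D χ := by
    rw [Finset.mul_sum]; exact Finset.sum_congr rfl fun χ _ => by ring
  have cF' : ∑ χ, 3 * F χ * w χ = 3 * ∑ χ, w χ * F χ := by
    rw [Finset.mul_sum]; exact Finset.sum_congr rfl fun χ _ => by ring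
  have cDD : ∑ χ, 3 * D χ * (3 * D χ) = 9 * ∑ χ, D χ * D χ := by
    rw [Finset.mul_sum]; exact Finset.sum_congr rfl fun χ _ => by ring
  have cFF : ∑ χ, 3 * F χ * (3 * F χ) = 9 * ∑ χ, F χ * F χ := by
    rw [Finset.mul_sum]; exact Finset.sum_congr rfl fun χ _ => by ring
  have cDF : ∑ χ, 3 * D χ * (3 * F χ) = 9 * ∑ χ, D χ * F χ := by
    rw [Finset.mul_sum]; exact Finset.sum_congr rfl fun χ _ => by ring
  rw [cD', hww] at huw
  rw [cF', hww] at hvw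
  rw [cD', cD, cDD, hww] at huu
  rw [cF', cF, cFF, hww] at hvv
  rw [cD', cF, cDF, hww] at huv
  rw [hdw, cD] at hdu
  rw [hdw, cF] at hdv
  have hwD : ∑ χ, w χ * D χ = -3 := by omega
  have hwF : ∑ χ, w χ * F χ = -3 := by omega
  have hDD : ∑ χ, D χ * D χ = 3 := by omega
  have hFF : ∑ χ, F χ * F χ = 3 := by omega
  have hDF : ∑ χ, D χ * F χ = 1 := by omega
  have hdD : ∑ χ, d χ * D χ = 0 := by omega
  have hdF : ∑ χ, d χ * F χ = 0 := by omega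
  have small : ∀ (E : ι → ℤ), ∑ χ, E χ * E χ = 3 → ∀ χ, E χ = 0 ∨ E χ = 1 ∨ E χ = -1 := by
    intro E hE χ
    have h := Finset.single_le_sum (fun ψ _ => mul_self_nonneg (E ψ)) (Finset.mem_univ χ)
    rw [hE] at h
    have : -1 ≤ E χ := by nlinarith
    have : E χ ≤ 1 := by nlinarith
    omega
  set P := (Finset.univ : Finset ι).filter fun χ => D χ ≠ 0 with hP
  have hon : ∀ χ ∈ P, D χ = 1 ∨ D χ = -1 := fun χ hχ =>
    (small D hDD χ).resolve_left (Finset.mem_filter.1 hχ).2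
  have hcard : P.card = 3 := by
    have h : ∑ χ ∈ P, D χ * D χ = ∑ χ, D χ * D χ := Finset.sum_filter_of_ne fun χ _ h e => h (by simp [e])
    rw [hDD, Finset.sum_congr rfl (g := fun _ => (1 : ℤ)) fun χ hχ => by
      rcases hon χ hχ with e | e <;> simp [e]] at h
    rw [Finset.sum_const, nsmul_one] at h
    exact_mod_cast h
  obtain ⟨a₀, ha₀, hf₀⟩ : ∃ χ ∈ P, D χ * F χ = 1 := by
    by_contra hc
    push Not at hc
    have : ∑ χ, D χ * F χ ≤ 0 := Finset.sum_nonpos fun χ _ => by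
      by_cases hχ : χ ∈ P
      · have := hc χ hχ
        rcases small D hDD χ with e | e | e <;> rcases small F hFF χ with e' | e' | e' <;>
          simp [e, e'] at this ⊢
      · have e : D χ = 0 := by_contra fun e => hχ (Finset.mem_filter.2 ⟨Finset.mem_univ _, e⟩)
        simp [e]
    omega
  obtain ⟨a₁, a₂, h12, hP2⟩ := Finset.card_eq_two.1
    (show (P.erase a₀).card = 2 by rw [Finset.card_erase_of_mem ha₀, hcard])
  have h01 : a₀ ≠ a₁ := fun e => by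
    have : a₁ ∈ P.erase a₀ := by rw [hP2]; simp
    exact (Finset.mem_erase.1 this).1 e.symm
  have h02 : a₀ ≠ a₂ := fun e => by
    have : a₂ ∈ P.erase a₀ := by rw [hP2]; simp
    exact (Finset.mem_erase.1 this).1 e.symm
  have hPeq : P = {a₀, a₁, a₂} := by rw [← Finset.insert_erase ha₀, hP2]
  have ha₁ : a₁ ∈ P := by rw [hPeq]; simp
  have ha₂ : a₂ ∈ P := by rw [hPeq]; simp
  have three : ∀ {M : Type} [AddCommMonoid M] (f : ι → M), (∀ χ, D χ = 0 → f χ = 0) →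
      ∑ χ, f χ = f a₀ + f a₁ + f a₂ := by
    intro M _ f hf
    rw [← Finset.sum_subset (Finset.subset_univ P) (fun χ _ hχ => hf χ (by_contra fun e =>
      hχ (Finset.mem_filter.2 ⟨Finset.mem_univ _, e⟩))), hPeq, Finset.sum_insert (by simp [h01, h02]),
      Finset.sum_pair h12, add_assoc]
  have hD0 : D o = 0 := by simp only [] at hu0; omega
  have hne : ∀ χ ∈ P, χ ≠ o := fun χ hχ e => (Finset.mem_filter.1 hχ).2 (e ▸ hD0)
  rw [three _ (fun χ e => by rw [e, zero_mul])] at hDF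
  rw [three _ (fun χ e => by rw [e, mul_zero])] at hwD hdD
  by_cases hf : D a₁ * F a₁ = 0 ∧ D a₂ * F a₂ = 0
  swap
  · -- all three shared
    exfalso
    have key : ∀ b c : ι, b ∈ P → c ∈ P → D b * F b = 1 → D c * F c = -1 → a₀ ≠ b → a₀ ≠ c → b ≠ c → False := by
      intro b c hb hc hbf hcf h1 h2 h3
      have hP' : P = {a₀, b, c} := (Finset.eq_of_subset_of_card_le (by
        intro x hx; simp only [Finset.mem_insert, Finset.mem_singleton] at hx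
        rcases hx with rfl | rfl | rfl <;> assumption) (by
        rw [hcard, Finset.card_insert_of_notMem (by simp [h1, h2]), Finset.card_pair h3])).symm
      have sq1 : ∀ χ ∈ P, D χ * F χ ≠ 0 → F χ * F χ = 1 := fun χ _ h => by
        rcases small F hFF χ with e | e | e <;> simp [e] at h ⊢
      have hout : ∀ χ, χ ∉ P → F χ = 0 := by
        intro χ hχ
        by_contra he
        have h := Finset.sum_le_sum_of_subset_of_nonneg (Finset.subset_univ (insert χ P))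
          (fun ψ _ _ => mul_self_nonneg (F ψ))
        rw [hFF, Finset.sum_insert hχ, hP', Finset.sum_insert (by simp [h1, h2]), Finset.sum_pair h3,
          sq1 a₀ ha₀ (by omega), sq1 b hb (by omega), sq1 c hc (by omega)] at h
        have : 0 < F χ * F χ := mul_self_pos.2 he
        omega
      have sum3 : ∀ f : ι → ℤ, (∀ χ, χ ∉ P → f χ = 0) → ∑ χ, f χ = f a₀ + f b + f c := by
        intro f hf
        rw [← Finset.sum_subset (Finset.subset_univ P) (fun χ _ hχ => hf χ hχ), hP',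
          Finset.sum_insert (by simp [h1, h2]), Finset.sum_pair h3, add_assoc]
      have h4 := sum3 (fun χ => d χ * F χ) fun χ hχ => by simp [hout χ hχ]
      have h5 := sum3 (fun χ => d χ * D χ) fun χ hχ => by
        simp [show D χ = 0 from by_contra fun e => hχ (Finset.mem_filter.2 ⟨Finset.mem_univ _, e⟩)]
      simp only [hdF] at h4
      simp only [← three (fun χ => d χ * D χ) (fun χ e => by simp [e])] at hdD
      simp only [hdD] at h5
      have q : ∀ χ ∈ P, D χ * F χ = 1 → F χ = D χ := fun χ hχ h => by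
        rcases hon χ hχ with e | e <;> rw [e] at h ⊢ <;> omega
      have qc : F c = -D c := by rcases hon c hc with e | e <;> rw [e] at hcf ⊢ <;> omega
      rw [q a₀ ha₀ hf₀, q b hb hbf, qc] at h4
      refine hd c (hne c hc) ?_
      rcases hon c hc with e | e <;> rw [e] at h4 h5 <;> linarith
    have b3 : ∀ χ, D χ * F χ = 0 ∨ D χ * F χ = 1 ∨ D χ * F χ = -1 := fun χ => by
      rcases small D hDD χ with e | e | e <;> rcases small F hFF χ with g₁ | g₁ | g₁ <;> simp [e, g₁]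
    have h' : (D a₁ * F a₁ = 1 ∧ D a₂ * F a₂ = -1) ∨ (D a₁ * F a₁ = -1 ∧ D a₂ * F a₂ = 1) := by
      have := b3 a₁
      have := b3 a₂
      rw [hf₀] at hDF
      omega
    rcases h' with ⟨e₁, e₂⟩ | ⟨e₁, e₂⟩
    · exact key a₁ a₂ ha₁ ha₂ e₁ e₂ h01 h02 h12
    · exact key a₂ a₁ ha₂ ha₁ e₂ e₁ h02 h01 h12.symm
  obtain ⟨hf₁, hf₂⟩ := hf
  -- congruences and bounds
  have hmod : ∀ χ ∈ P, (D χ * d χ + 8 * (D χ * w χ) + 6 + 6 * (D χ * F χ)) % 9 = 0 := by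
    intro χ hχ
    have h := hnine χ
    simp only [] at h
    rcases hon χ hχ with e | e <;> rw [e] at h ⊢ <;> omega
  have hbound : ∀ f : ι → ℤ, (∀ χ, 0 ≤ f χ) → f o + (f a₀ + f a₁ + f a₂) ≤ ∑ χ, f χ := by
    intro f hf
    have h := Finset.sum_le_sum_of_subset_of_nonneg (Finset.subset_univ (insert o P)) (fun χ _ _ => hf χ)
    rwa [Finset.sum_insert (fun h => hne o h rfl), hPeq, Finset.sum_insert (by simp [h01, h02]),
      Finset.sum_pair h12, ← add_assoc (f a₀)] at h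
  have sqD : ∀ χ ∈ P, ∀ z : ℤ, D χ * z * (D χ * z) = z * z := fun χ hχ z => by
    rcases hon χ hχ with e | e <;> rw [e] <;> ring
  have hwsq := hbound (fun χ => w χ * w χ) fun χ => mul_self_nonneg _
  simp only [hw0, hww, ← sqD a₀ ha₀ (w a₀), ← sqD a₁ ha₁ (w a₁), ← sqD a₂ ha₂ (w a₂)] at hwsq
  -- the rational equations
  have hg : (g : ℚ) ≠ 0 := by
    intro h
    rw [h, zero_mul] at e_uvw
    norm_num at e_uvw
  have z1 := (mul_eq_zero.1 e_uuv).resolve_left hg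
  have z2 := (mul_eq_zero.1 e_uuw).resolve_left hg
  set S0 := ∑ χ, ((w χ * w χ * w χ : ℤ) : ℚ) / (d χ : ℚ) with hS0
  set AD := ∑ χ, ((w χ * w χ * D χ : ℤ) : ℚ) / (d χ : ℚ) with hAD
  set AF := ∑ χ, ((w χ * w χ * F χ : ℤ) : ℚ) / (d χ : ℚ) with hAF
  set PD := ∑ χ, ((w χ * D χ * D χ : ℤ) : ℚ) / (d χ : ℚ) with hPD
  set Q := ∑ χ, ((w χ * D χ * F χ : ℤ) : ℚ) / (d χ : ℚ) with hQ
  set R := ∑ χ, ((D χ * D χ * F χ : ℤ) : ℚ) / (d χ : ℚ) with hR
  have r1 : S0 + 6 * AD + 3 * AF + 9 * PD + 18 * Q + 27 * R = 0 := by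
    rw [← z1, hS0, hAD, hAF, hPD, hQ, hR]
    simp only [Finset.mul_sum, ← Finset.sum_add_distrib]
    exact Finset.sum_congr rfl fun χ _ => by push_cast; ring
  have r2 : S0 + 6 * AD + 9 * PD = 0 := by
    rw [← z2, hS0, hAD, hPD]
    simp only [Finset.mul_sum, ← Finset.sum_add_distrib]
    exact Finset.sum_congr rfl fun χ _ => by push_cast; ring
  have r3 : (g : ℚ) * (S0 + 3 * AD + 3 * AF + 9 * Q) = 324 := by
    rw [← e_uvw, hS0, hAD, hAF, hQ]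
    congr 1
    simp only [Finset.mul_sum, ← Finset.sum_add_distrib]
    exact Finset.sum_congr rfl fun χ _ => by push_cast; ring
  have r4 : (g : ℚ) * (S0 + 3 * AD) = 162 := by
    rw [← e_uww, hS0, hAD]
    congr 1
    simp only [Finset.mul_sum, ← Finset.sum_add_distrib]
    exact Finset.sum_congr rfl fun χ _ => by push_cast; ring
  have r5 : (g : ℚ) * (S0 + 3 * AF) = 162 := by
    rw [← e_vww, hS0, hAF]
    congr 1
    simp only [Finset.mul_sum, ← Finset.sum_add_distrib]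
    exact Finset.sum_congr rfl fun χ _ => by push_cast; ring
  have hA : AF = AD := by
    have := mul_left_cancel₀ hg (r5.trans r4.symm)
    linarith
  rw [hA] at r1 r3
  have k1 : (g : ℚ) * (Q - PD) = 36 := by linear_combination (1 / 9 : ℚ) * r3 - (g / 9 : ℚ) * r2
  have k2 : PD = 3 * Q + 6 * R := by
    have : (g : ℚ) * (PD - 3 * Q - 6 * R) = 0 := by
      linear_combination (1 / 9 : ℚ) * r3 - (2 / 9 : ℚ) * r4 + (g / 3 : ℚ) * r2 - (2 * g / 9 : ℚ) * r1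
    have := (mul_eq_zero.1 this).resolve_left hg
    linarith
  have hterm : ∀ χ ∈ P, ∀ E : ℤ, ((D χ * E : ℤ) : ℚ) / (d χ : ℚ) = (E : ℚ) / ((D χ * d χ : ℤ) : ℚ) :=
    fun χ hχ E => by rcases hon χ hχ with e | e <;> rw [e] <;> simp [div_neg, neg_div]
  have vPD : ∀ χ ∈ P, ((w χ * D χ * D χ : ℤ) : ℚ) / (d χ : ℚ) =
      ((D χ * w χ : ℤ) : ℚ) / ((D χ * d χ : ℤ) : ℚ) := fun χ hχ => by
    rw [← hterm χ hχ]; congr 2; ring
  have vQ : ∀ χ ∈ P, ((w χ * D χ * F χ : ℤ) : ℚ) / (d χ : ℚ) =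
      ((D χ * w χ * (D χ * F χ) : ℤ) : ℚ) / ((D χ * d χ : ℤ) : ℚ) := fun χ hχ => by
    rw [← hterm χ hχ]; congr 2; rcases hon χ hχ with e | e <;> rw [e] <;> ring
  have vR : ∀ χ ∈ P, ((D χ * D χ * F χ : ℤ) : ℚ) / (d χ : ℚ) =
      ((D χ * F χ : ℤ) : ℚ) / ((D χ * d χ : ℤ) : ℚ) := fun χ hχ => by
    rw [← hterm χ hχ]; congr 2; ring
  rw [hPD, three _ (fun χ e => by simp [e]), vPD a₀ ha₀, vPD a₁ ha₁, vPD a₂ ha₂] at k1 k2
  rw [hQ, three _ (fun χ e => by simp [e]), vQ a₀ ha₀, vQ a₁ ha₁, vQ a₂ ha₂, hf₀, hf₁, hf₂] at k1 k2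
  rw [hR, three _ (fun χ e => by simp [e]), vR a₀ ha₀, vR a₁ ha₁, vR a₂ ha₂, hf₀, hf₁, hf₂] at k2
  have m0 := hmod a₀ ha₀
  have m1 := hmod a₁ ha₁
  have m2 := hmod a₂ ha₂
  rw [hf₀] at m0
  rw [hf₁] at m1
  rw [hf₂] at m2
  have hs0 : D a₀ * d a₀ + D a₁ * d a₁ + D a₂ * d a₂ = 0 := by rw [← hdD]; ring
  have hc0 : D a₀ * w a₀ + D a₁ * w a₁ + D a₂ * w a₂ = -3 := by rw [← hwD]; ring
  have hx : ∀ χ ∈ P, D χ * d χ ≠ 0 := fun χ hχ => by
    have := hd χ (hne χ hχ)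
    rcases hon χ hχ with e | e <;> rw [e] <;> omega
  have hdsq := hbound (fun χ => d χ * d χ) fun χ => mul_self_nonneg _
  simp only [hd0, hsq, ← sqD a₀ ha₀ (d a₀), ← sqD a₁ ha₁ (d a₁), ← sqD a₂ ha₂ (d a₂)] at hdsq
  have q0 := hx a₀ ha₀
  have q1 := hx a₁ ha₁
  have q2 := hx a₂ ha₂
  generalize D a₀ * d a₀ = x₀ at *
  generalize D a₁ * d a₁ = x₁ at *
  generalize D a₂ * d a₂ = x₂ at *
  generalize D a₀ * w a₀ = c₀ at *
  generalize D a₁ * w a₁ = c₁ at *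
  generalize D a₂ * w a₂ = c₂ at *
  have q0' : (x₀ : ℚ) ≠ 0 := Int.cast_ne_zero.2 q0
  have q1' : (x₁ : ℚ) ≠ 0 := Int.cast_ne_zero.2 q1
  have q2' : (x₂ : ℚ) ≠ 0 := Int.cast_ne_zero.2 q2
  push_cast at k1 k2
  have heq : (c₁ * x₂ + c₂ * x₁) * x₀ = (2 * c₀ + 6) * (x₁ * x₂) := by
    have : ((c₁ : ℚ) * x₂ + c₂ * x₁) * x₀ = (2 * c₀ + 6) * (x₁ * x₂) := by
      field_simp at k2
      linear_combination k2
    exact_mod_cast this
  obtain ⟨rfl, rfl, rfl, ht⟩ := klein_small hc0 (by linarith) hs0 q1 q2 (by omega) (by omega) (by omega) heq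
  obtain rfl : x₀ = -(x₁ + x₁) := by omega
  have hgt : (g : ℤ) = 18 * x₁ := by
    have h2 : (g : ℚ) * (2 / x₁) = 36 := by rw [← k1]; push_cast; ring
    have : (g : ℚ) = 18 * x₁ := by
      field_simp at h2
      linarith
    exact_mod_cast this
  have ht2 := small_t (by linarith : 6 * (x₁ * x₁) + 1 ≤ 18 * x₁) ht
  omega

end Cfsg.Lib.Recog.NineSC
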