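import Mathlib

/-!
# A Sylow three-subgroup of order nine containing the centraliser of each of its nontrivial elements
-/

set_option autoImplicit false
set_option linter.style.haveILetI false

namespace Cfsg.Lib.Recog.NineSC

open Subgroup

universe u

/-- An elementary Sylow `3`-subgroup of order nine containing the centralisers of its nontrivial elements. -/
structure Setup (G : Type u) [Group G] where
  /-- The Sylow subgroup. -/
  S : Sylow 3 G
  card_S : Nat.card ↥(S : Subgroup G) = 9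
  cube : ∀ s ∈ (S : Subgroup G), s ^ 3 = 1
  cent : ∀ s ∈ (S : Subgroup G), s ≠ 1 → Subgroup.centralizer ({s} : Set G) = (S : Subgroup G)

variable {G : Type u} [Group G] [Finite G] (X : Setup G)

/-- The normaliser. -/
abbrev Setup.N : Subgroup G := Subgroup.normalizer ((X.S : Subgroup G) : Set G)

theorem Setup.comm {a b : G} (ha : a ∈ (X.S : Subgroup G)) (hb : b ∈ (X.S : Subgroup G)) : a * b = b * a := by
  by_cases h : b = 1
  · simp [h]
  · exact mem_centralizer_singleton_iff.1 ((X.cent b hb h).symm ▸ ha)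

theorem Setup.mem_of_comm {s g : G} (hs : s ∈ (X.S : Subgroup G)) (hs1 : s ≠ 1) (hg : g * s = s * g) :
    g ∈ (X.S : Subgroup G) := by
  rw [← X.cent s hs hs1]
  exact mem_centralizer_singleton_iff.2 hg

theorem Setup.exists_conj_mem {e : G} (he : e ^ 3 = 1) : ∃ g : G, g * e * g⁻¹ ∈ (X.S : Subgroup G) := by
  haveI : Fact (Nat.Prime 3) := ⟨Nat.prime_three⟩
  have hp : IsPGroup 3 (zpowers e) := fun ⟨y, hy⟩ => ⟨1, Subtype.ext (by
    obtain ⟨i, rfl⟩ := hy
    simp only [pow_one, Subgroup.coe_pow, Subgroup.coe_one]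
    rw [← zpow_natCast, ← zpow_mul, mul_comm, zpow_mul, zpow_natCast, he, one_zpow])⟩
  obtain ⟨P, hP⟩ := hp.exists_le_sylow
  obtain ⟨g, hg⟩ := MulAction.exists_smul_eq G P X.S
  refine ⟨g, ?_⟩
  rw [← hg, Sylow.coe_subgroup_smul, mem_pointwise_smul_iff_inv_smul_mem]
  simpa [MulAut.smul_def, mul_assoc] using hP (mem_zpowers e)

theorem Setup.conj_mem_N {s g : G} (hs : s ∈ (X.S : Subgroup G)) (hs1 : s ≠ 1)
    (hg : g * s * g⁻¹ ∈ (X.S : Subgroup G)) : g ∈ X.N := by
  have h1 : g * s * g⁻¹ ≠ 1 := fun e => hs1 (by simpa using e)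
  refine mem_normalizer_iff.2 fun x => ⟨fun hx => X.mem_of_comm hg h1 ?_, fun hx => X.mem_of_comm hs hs1 ?_⟩
  · rw [conj_mul, conj_mul, X.comm hx hs]
  · have h2 := X.comm hx hg
    rw [conj_mul, conj_mul] at h2
    exact mul_left_cancel (mul_right_cancel h2)

theorem Setup.mem_of_N {x : G} (hx : x ∈ X.N) (h3 : x ^ 3 = 1) : x ∈ (X.S : Subgroup G) := by
  haveI : Fact (Nat.Prime 3) := ⟨Nat.prime_three⟩
  have hp : IsPGroup 3 (zpowers x) := fun ⟨y, hy⟩ => ⟨1, Subtype.ext (by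
    obtain ⟨i, rfl⟩ := hy
    simp only [pow_one, Subgroup.coe_pow, Subgroup.coe_one]
    rw [← zpow_natCast, ← zpow_mul, mul_comm, zpow_mul, zpow_natCast, h3, one_zpow])⟩
  have : x ∈ zpowers x ⊓ X.N := ⟨mem_zpowers x, hx⟩
  have h2 : x ∈ zpowers x ⊓ normalizer (X.S : Set G) := this
  rw [hp.inf_normalizer_sylow X.S] at h2
  exact h2.2

include X in
/-- Elements commuting with a common element of order three commute. -/
theorem Setup.comm_of_cube {e x y : G} (he : e ^ 3 = 1) (he1 : e ≠ 1) (hx : x * e = e * x) (hy : y * e = e * y) :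
    x * y = y * x := by
  obtain ⟨g, hg⟩ := X.exists_conj_mem he
  have hg1 : g * e * g⁻¹ ≠ 1 := fun h => he1 (by simpa using h)
  have h := X.comm (X.mem_of_comm hg hg1 (g := g * x * g⁻¹) (by rw [conj_mul, conj_mul, hx]))
    (X.mem_of_comm hg hg1 (g := g * y * g⁻¹) (by rw [conj_mul, conj_mul, hy]))
  rw [conj_mul, conj_mul] at h
  exact mul_left_cancel (mul_right_cancel h)

include X in
theorem Setup.cube_of_comm {e x : G} (he : e ^ 3 = 1) (he1 : e ≠ 1) (hx : x * e = e * x) : x ^ 3 = 1 := by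
  obtain ⟨g, hg⟩ := X.exists_conj_mem he
  have hg1 : g * e * g⁻¹ ≠ 1 := fun h => he1 (by simpa using h)
  have h := X.cube _ (X.mem_of_comm hg hg1 (g := g * x * g⁻¹) (by rw [conj_mul, conj_mul, hx]))
  rwa [conj_pow, conj_eq_one_iff] at h

include X in
/-- Three elements of order three with `p * q = r` commute unless they are conjugate. -/
theorem Setup.comm_of_product {p q : G} (hp : p ^ 3 = 1) (hp1 : p ≠ 1) (hq : q ^ 3 = 1) (hr : (p * q) ^ 3 = 1)
    (hne : ¬ IsConj p q ∨ ¬ IsConj p⁻¹ (p * q)) : p * q = q * p := by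
  classical
  haveI : Fact (Nat.Prime 3) := ⟨Nat.prime_three⟩
  set w0 := p⁻¹ * q with hw0
  set w1 := p * w0 * p⁻¹ with hw1
  set w2 := p * w1 * p⁻¹ with hw2
  have e1 : w1 = q * p⁻¹ := by rw [hw1, hw0]; group
  have hpp : p * p = p⁻¹ := eq_inv_of_mul_eq_one_left (by rw [← hp]; simp [pow_succ, mul_assoc])
  have hqq : q * q = q⁻¹ := eq_inv_of_mul_eq_one_left (by rw [← hq]; simp [pow_succ, mul_assoc])
  have hpi : p⁻¹ * p⁻¹ = p := by rw [← mul_inv_rev, hpp, inv_inv]
  have e2 : w2 = p * q * p := by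
    rw [hw2, e1, show p * (q * p⁻¹) * p⁻¹ = p * q * (p⁻¹ * p⁻¹) by group, hpi]
  have hqpq : q * p * q * p * q = p⁻¹ := by
    refine eq_inv_of_mul_eq_one_left ?_
    calc q * p * q * p * q * p = p⁻¹ * (p * q) ^ 3 * p := by simp [pow_succ, mul_assoc]
      _ = 1 := by rw [hr]; simp
  have r1 : w1 * w2 = w0⁻¹ := by
    rw [e1, e2, hw0, show q * p⁻¹ * (p * q * p) = q * q * p by group, hqq]; group
  have r2 : w0 * w2 * w1 = 1 := by
    rw [e1, e2, hw0, show p⁻¹ * q * (p * q * p) * (q * p⁻¹) = p⁻¹ * (q * p * q * p * q) * p⁻¹ by group, hqpq,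
      hpi, mul_inv_cancel]
  have hc : w0 * w1 = w1 * w0 := by
    have a1 : w2 = w1⁻¹ * w0⁻¹ := by rw [← r1]; group
    have a2 : w2 = w0⁻¹ * w1⁻¹ := by
      have := eq_inv_of_mul_eq_one_left r2
      rw [← this]; group
    have a3 := congrArg (fun z => z⁻¹) (a1.symm.trans a2)
    simp only [mul_inv_rev, inv_inv] at a3
    exact a3
  set V := Subgroup.closure ({w0, w1} : Set G) with hV
  haveI : IsMulCommutative V := Subgroup.isMulCommutative_closure (by
    intro x hx y hy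
    simp only [Set.mem_insert_iff, Set.mem_singleton_iff] at hx hy
    rcases hx with rfl | rfl <;> rcases hy with rfl | rfl <;> first | rfl | exact hc | exact hc.symm)
  have hcomm : ∀ x ∈ V, ∀ y ∈ V, x * y = y * x := fun x hx y hy =>
    congrArg Subtype.val (mul_comm' (⟨x, hx⟩ : V) ⟨y, hy⟩)
  have m0 : w0 ∈ V := subset_closure (by simp)
  have m1 : w1 ∈ V := subset_closure (by simp)
  have hpV : ∀ v ∈ V, p * v * p⁻¹ ∈ V := by
    intro v hv
    have hle : V ≤ V.comap (MulAut.conj p).toMonoidHom := by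
      rw [hV, closure_le]
      intro z hz
      simp only [Set.mem_insert_iff, Set.mem_singleton_iff] at hz
      show p * z * p⁻¹ ∈ V
      rcases hz with rfl | rfl
      · exact m1
      · rw [show p * w1 * p⁻¹ = w1⁻¹ * w0⁻¹ by rw [← hw2, ← r1]; group]
        exact mul_mem (inv_mem m1) (inv_mem m0)
    exact hle hv
  have hpV' : ∀ v ∈ V, p⁻¹ * v * p ∈ V := fun v hv => by
    have h := hpV _ (hpV v hv)
    rwa [show p * (p * v * p⁻¹) * p⁻¹ = (p * p) * v * (p⁻¹ * p⁻¹) by group, hpp, hpi] at h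
  by_cases h3 : 3 ∣ Nat.card V
  · obtain ⟨⟨e, heV⟩, heo⟩ := exists_prime_orderOf_dvd_card' 3 h3
    rw [orderOf_mk] at heo
    have he : e ^ 3 = 1 := by rw [← heo]; exact pow_orderOf_eq_one e
    have he1 : e ≠ 1 := fun h => by rw [h, orderOf_one] at heo; omega
    have hpe : p * e = e * p := by
      obtain ⟨g, hg⟩ := X.exists_conj_mem he
      have hg1 : g * e * g⁻¹ ≠ 1 := fun h => he1 (by simpa using h)
      have h1 : g * (p * e * p⁻¹) * g⁻¹ ∈ (X.S : Subgroup G) :=
        X.mem_of_comm hg hg1 (by rw [conj_mul, conj_mul, hcomm _ (hpV e heV) e heV])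
      rw [show g * (p * e * p⁻¹) * g⁻¹ = (g * p * g⁻¹) * (g * e * g⁻¹) * (g * p * g⁻¹)⁻¹ by group] at h1
      have h2 := X.mem_of_N (X.conj_mem_N hg hg1 h1) (by rw [conj_pow, hp]; group)
      have h4 := X.comm h2 hg
      rw [conj_mul, conj_mul] at h4
      exact mul_left_cancel (mul_right_cancel h4)
    have h := X.comm_of_cube he he1 hpe (hcomm w0 m0 e heV)
    calc p * q = p * (p * w0) := by rw [hw0]; group
      _ = p * (w0 * p) := by rw [h]
      _ = q * p := by rw [hw0]; group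
  · exfalso
    have inj : ∀ d ∈ V, d * p = p * d → d = 1 := by
      intro d hd hdp
      have h1 : orderOf d ∣ 3 := orderOf_dvd_of_pow_eq_one (X.cube_of_comm hp hp1 hdp)
      have h2 : orderOf (⟨d, hd⟩ : V) ∣ Nat.card V := orderOf_dvd_natCard _
      rw [orderOf_mk] at h2
      rcases (Nat.dvd_prime Nat.prime_three).1 h1 with h | h
      · exact orderOf_eq_one_iff.1 h
      · exact absurd (h ▸ h2) h3
    have surj : ∀ x : G, (∀ v ∈ V, x * v * x⁻¹ ∈ V) → (∀ d ∈ V, d * x = x * d → d = 1) →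
        ∃ v : G, v * x⁻¹ * v⁻¹ = x⁻¹ * w0 := by
      intro x hx hinj
      let f : V → V := fun v => ⟨x * v * x⁻¹ * (v : G)⁻¹, mul_mem (hx v v.2) (inv_mem v.2)⟩
      have hf : Function.Injective f := by
        intro v v' hvv
        have h : x * v * x⁻¹ * (v : G)⁻¹ = x * v' * x⁻¹ * (v' : G)⁻¹ := congrArg Subtype.val hvv
        have hd : ((v' : G)⁻¹ * v) ∈ V := mul_mem (inv_mem v'.2) v.2
        refine Subtype.ext (inv_mul_eq_one.1 (hinj _ hd ?_)).symm
        have h2 : x * ((v' : G)⁻¹ * v) * x⁻¹ = (v' : G)⁻¹ * v := by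
          calc x * ((v' : G)⁻¹ * v) * x⁻¹ = (x * v' * x⁻¹)⁻¹ * ((x * v * x⁻¹ * (v : G)⁻¹) * v) := by group
            _ = (x * v' * x⁻¹)⁻¹ * ((x * v' * x⁻¹ * (v' : G)⁻¹) * v) := by rw [h]
            _ = (v' : G)⁻¹ * v := by group
        calc (v' : G)⁻¹ * v * x = x * ((v' : G)⁻¹ * v) * x⁻¹ * x := by rw [h2]
          _ = x * ((v' : G)⁻¹ * v) := by group
      obtain ⟨v, hv⟩ := (Finite.injective_iff_surjective.1 hf) ⟨w0, m0⟩
      refine ⟨v, ?_⟩
      have h : x * v * x⁻¹ * (v : G)⁻¹ = w0 := congrArg Subtype.val hv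
      rw [← h]; group
    rcases hne with h | h
    · obtain ⟨v, hv⟩ := surj p⁻¹ (fun v hv => by simpa using hpV' v hv)
        (fun d hd hdp => inj d hd (by
          calc d * p = p * (p⁻¹ * d) * p := by group
            _ = p * (d * p⁻¹) * p := by rw [hdp]
            _ = p * d := by group))
      rw [inv_inv] at hv
      exact h (isConj_iff.2 ⟨v, by rw [hv, hw0]; group⟩)
    · obtain ⟨v, hv⟩ := surj p hpV inj
      refine h (isConj_iff.2 ⟨v, ?_⟩)
      rw [hv, hw0, ← mul_assoc, hpi]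

theorem Setup.exists_inverter [IsSimpleGroup G] (hne : ¬ IsMulCommutative G) :
    ∃ t ∈ X.N, ∀ s ∈ (X.S : Subgroup G), t * s * t⁻¹ = s⁻¹ := by
  classical
  haveI : Fact (Nat.Prime 3) := ⟨Nat.prime_three⟩
  have hS1 : (X.S : Subgroup G) ≠ ⊥ := fun e => by
    have := X.card_S; rw [e, card_bot] at this; omega
  obtain ⟨n, hn, hnS⟩ : ∃ n ∈ X.N, n ∉ (X.S : Subgroup G) := by
    by_contra hcon
    push Not at hcon
    have hle : X.N ≤ Subgroup.centralizer ((X.S : Subgroup G) : Set G) :=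
      fun n hn => mem_centralizer_iff.2 fun s hs => X.comm hs (hcon n hn)
    haveI : IsMulCommutative ↥(X.S : Subgroup G) := ⟨⟨fun x y => Subtype.ext (X.comm x.2 y.2)⟩⟩
    have hcomp := MonoidHom.ker_transferSylow_isComplement' X.S hle
    rcases IsSimpleGroup.eq_bot_or_eq_top_of_normal _ (MonoidHom.normal_ker (MonoidHom.transferSylow X.S hle)) with h1 | h1
    · rw [h1, isComplement'_bot_left] at hcomp
      exact hne ⟨⟨fun x y => X.comm (hcomp.symm ▸ mem_top x) (hcomp.symm ▸ mem_top y)⟩⟩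
    · rw [h1, isComplement'_top_left] at hcomp
      exact hS1 hcomp
  have hprime : ∀ r : ℕ, r.Prime → r ∣ Nat.card X.N → r = 2 ∨ r = 3 := by
    intro r hr hd
    by_contra hcon
    push Not at hcon
    haveI := Fact.mk hr
    obtain ⟨⟨x, hxN⟩, hxo⟩ := exists_prime_orderOf_dvd_card' r hd
    rw [orderOf_mk] at hxo
    have hx3 : x ∉ (X.S : Subgroup G) := fun hxS => by
      have h := orderOf_dvd_of_pow_eq_one (X.cube x hxS)
      rw [hxo] at h
      exact hcon.2 ((Nat.prime_dvd_prime_iff_eq hr Nat.prime_three).1 h)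
    let A := {s : ↥(X.S : Subgroup G) // s ≠ 1}
    letI : MulAction (zpowers x) A :=
      { smul := fun g s => ⟨⟨(g : G) * s.1 * (g : G)⁻¹,
          (mem_normalizer_iff.1 ((zpowers_le.2 hxN) g.2) _).1 s.1.2⟩,
          fun e => s.2 (Subtype.ext (conj_eq_one_iff.1 (congrArg Subtype.val e)))⟩
        one_smul := fun s => Subtype.ext (Subtype.ext (by show (1 : G) * s.1 * (1 : G)⁻¹ = _; group))
        mul_smul := fun g g' s => Subtype.ext (Subtype.ext (by
          show ((g : G) * g') * s.1 * ((g : G) * g')⁻¹ = (g : G) * ((g' : G) * s.1 * (g' : G)⁻¹) * (g : G)⁻¹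
          group)) }
    have hP : IsPGroup r (zpowers x) := by
      refine IsPGroup.of_card (n := 1) ?_
      rw [Nat.card_zpowers, hxo, pow_one]
    have hfix : Nat.card (MulAction.fixedPoints (zpowers x) A) = 0 := by
      haveI : IsEmpty (MulAction.fixedPoints (zpowers x) A) := ⟨fun ⟨s, hs⟩ => by
        have h : x * s.1 * x⁻¹ = s.1 := congrArg (fun z : A => ((z.1 : ↥(X.S : Subgroup G)) : G)) (hs ⟨x, mem_zpowers x⟩)
        exact hx3 (X.mem_of_comm s.1.2 (fun e => s.2 (Subtype.ext e)) (mul_inv_eq_iff_eq_mul.1 h))⟩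
      exact Nat.card_of_isEmpty
    have h8 : Nat.card A = 8 := by
      haveI := Fintype.ofFinite ↥(X.S : Subgroup G)
      rw [Nat.card_eq_fintype_card, Fintype.card_subtype_compl, Fintype.card_subtype_eq,
        ← Nat.card_eq_fintype_card, X.card_S]
    have h := hP.card_modEq_card_fixedPoints A
    rw [hfix, h8, Nat.modEq_zero_iff_dvd] at h
    exact hcon.1 ((Nat.prime_dvd_prime_iff_eq hr Nat.prime_two).1 (hr.dvd_of_dvd_pow (show r ∣ 2 ^ 3 from h)))
  have h2 : 2 ∣ Nat.card X.N := by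
    by_contra h
    have hp : IsPGroup 3 X.N := by
      refine IsPGroup.of_card (n := (Nat.card X.N).primeFactorsList.length) ?_
      exact Nat.eq_prime_pow_of_unique_prime_dvd Nat.card_pos.ne' (fun {d} hd hdd =>
        (hprime d hd hdd).resolve_left fun e => h (e ▸ hdd))
    exact hnS ((X.S.is_maximal' hp Subgroup.le_normalizer) ▸ hn)
  haveI : Fact (Nat.Prime 2) := ⟨Nat.prime_two⟩
  obtain ⟨⟨t, htN⟩, hto⟩ := exists_prime_orderOf_dvd_card' 2 h2
  rw [orderOf_mk] at hto
  have htt : t * t = 1 := by rw [← pow_two, ← hto]; exact pow_orderOf_eq_one t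
  have htS : t ∉ (X.S : Subgroup G) := fun h => by
    have := orderOf_dvd_of_pow_eq_one (X.cube t h)
    rw [hto] at this; omega
  refine ⟨t, htN, fun s hs => ?_⟩
  have hs' := (mem_normalizer_iff.1 htN s).1 hs
  have hfx : s * (t * s * t⁻¹) = 1 := by
    by_contra hz
    refine htS (X.mem_of_comm (mul_mem hs hs') hz ?_)
    calc t * (s * (t * s * t⁻¹)) = (t * s * t⁻¹) * (t * t) * s * t⁻¹ := by group
      _ = (t * s * t⁻¹) * s * t⁻¹ := by rw [htt, mul_one]
      _ = s * (t * s * t⁻¹) * t⁻¹ := by rw [X.comm hs' hs]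
      _ = s * (t * s * t⁻¹) * t := by rw [inv_eq_of_mul_eq_one_right htt]
  exact eq_inv_of_mul_eq_one_right hfx

/-- The conjugates of an element of `S` inside `S`. -/
def Setup.orbit (s : G) : Set G := (fun n => n * s * n⁻¹) '' (X.N : Set G)

theorem Setup.orbit_subset {s : G} (hs : s ∈ (X.S : Subgroup G)) : X.orbit s ⊆ (X.S : Subgroup G) := by
  rintro _ ⟨n, hn, rfl⟩
  exact (mem_normalizer_iff.1 hn s).1 hs

theorem Setup.mem_orbit_of_isConj {s x : G} (hs : s ∈ (X.S : Subgroup G)) (hs1 : s ≠ 1)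
    (hx : x ∈ (X.S : Subgroup G)) (h : IsConj s x) : x ∈ X.orbit s := by
  obtain ⟨g, rfl⟩ := isConj_iff.1 h
  exact ⟨g, X.conj_mem_N hs hs1 hx, rfl⟩

theorem Setup.isConj_of_mem_orbit {s x : G} (h : x ∈ X.orbit s) : IsConj s x := by
  obtain ⟨n, -, rfl⟩ := h
  exact isConj_iff.2 ⟨n, rfl⟩

theorem Setup.card_orbit {s : G} (hs : s ∈ (X.S : Subgroup G)) (hs1 : s ≠ 1) :
    (X.orbit s).ncard = (X.S : Subgroup G).relIndex X.N := by
  rw [Subgroup.relIndex, Subgroup.index_eq_card, ← Nat.card_coe_set_eq]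
  let f : X.N ⧸ (X.S : Subgroup G).subgroupOf X.N → ↥(X.orbit s) :=
    Quotient.lift (fun n : X.N => (⟨(n : G) * s * (n : G)⁻¹, ⟨n, n.2, rfl⟩⟩ : ↥(X.orbit s))) (by
      intro a b hab
      change QuotientGroup.leftRel _ a b at hab
      rw [QuotientGroup.leftRel_apply, Subgroup.mem_subgroupOf] at hab
      refine Subtype.ext ?_
      have h : ((a : G)⁻¹ * b) * s = s * ((a : G)⁻¹ * b) := X.comm hab hs
      show (a : G) * s * (a : G)⁻¹ = b * s * (b : G)⁻¹
      calc (a : G) * s * (a : G)⁻¹ = a * (s * ((a : G)⁻¹ * b)) * (b : G)⁻¹ := by group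
        _ = a * (((a : G)⁻¹ * b) * s) * (b : G)⁻¹ := by rw [h]
        _ = b * s * (b : G)⁻¹ := by group)
  refine (Nat.card_eq_of_bijective f ⟨fun a b => ?_, ?_⟩).symm
  · induction a using QuotientGroup.induction_on with
    | _ a =>
    induction b using QuotientGroup.induction_on with
    | _ b =>
    intro hab
    have h : (a : G) * s * (a : G)⁻¹ = b * s * (b : G)⁻¹ := congrArg Subtype.val hab
    refine QuotientGroup.eq.2 (Subgroup.mem_subgroupOf.2 (X.mem_of_comm hs hs1 ?_))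
    calc (a : G)⁻¹ * b * s = (a : G)⁻¹ * (b * s * (b : G)⁻¹) * b := by group
      _ = (a : G)⁻¹ * (a * s * (a : G)⁻¹) * b := by rw [h]
      _ = s * ((a : G)⁻¹ * b) := by group
  · rintro ⟨_, n, hn, rfl⟩
    exact ⟨QuotientGroup.mk ⟨n, hn⟩, rfl⟩

theorem Setup.exists_basis {a : G} (ha : a ∈ (X.S : Subgroup G)) : ∃ e ∈ (X.S : Subgroup G), e ∉ zpowers a := by
  by_contra h
  push Not at h
  have hle := card_dvd_of_le (show (X.S : Subgroup G) ≤ zpowers a from h)
  rw [X.card_S, Nat.card_zpowers] at hle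
  have := Nat.le_of_dvd (by norm_num) (orderOf_dvd_of_pow_eq_one (X.cube a ha))
  have := Nat.le_of_dvd (orderOf_pos a) hle
  omega

/-- The nine elements in terms of a basis, as a finite set. -/
theorem Setup.listing [DecidableEq G] [Fintype G] [DecidablePred (· ∈ (X.S : Subgroup G))] {a e : G}
    (ha : a ∈ (X.S : Subgroup G)) (ha1 : a ≠ 1) (he : e ∈ (X.S : Subgroup G)) (hea : e ∉ zpowers a) :
    (Finset.univ.filter fun x => x ∈ (X.S : Subgroup G)) =
      {1, a, a⁻¹, e, e⁻¹, a * e, (a * e)⁻¹, a * e⁻¹, (a * e⁻¹)⁻¹} ∧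
    ({1, a, a⁻¹, e, e⁻¹, a * e, (a * e)⁻¹, a * e⁻¹, (a * e⁻¹)⁻¹} : Finset G).card = 9 := by
  have key : ∀ x ∈ (X.S : Subgroup G), x = x⁻¹ → x = 1 := fun x hx h => by
    have h2 : x * x = 1 := by nth_rewrite 1 [h]; exact inv_mul_cancel x
    have h3 := X.cube x hx
    rwa [pow_succ, pow_two, h2, one_mul] at h3
  have haa : a * a = a⁻¹ := eq_inv_of_mul_eq_one_left (by rw [← X.cube a ha]; simp [pow_succ, mul_assoc])
  have hee : e * e = e⁻¹ := eq_inv_of_mul_eq_one_left (by rw [← X.cube e he]; simp [pow_succ, mul_assoc])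
  have hc : ({1, a, a⁻¹, e, e⁻¹, a * e, (a * e)⁻¹, a * e⁻¹, (a * e⁻¹)⁻¹} : Finset G).card = 9 := by
    have hcm := X.comm ha he
    let f : Fin 3 × Fin 3 → G := fun ij => a ^ (ij.1 : ℕ) * e ^ (ij.2 : ℕ)
    have hf : Function.Injective f := by
      rintro ⟨i, j⟩ ⟨i', j'⟩ h
      have hj : j = j' := by
        by_contra hne
        have h1 : (a ^ (i' : ℕ))⁻¹ * a ^ (i : ℕ) = e ^ (j' : ℕ) * (e ^ (j : ℕ))⁻¹ := by
          rw [eq_mul_inv_iff_mul_eq, mul_assoc, show a ^ (i : ℕ) * e ^ (j : ℕ) = a ^ (i' : ℕ) * e ^ (j' : ℕ) from h]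
          group
        have h2 : e ^ (j' : ℕ) * (e ^ (j : ℕ))⁻¹ ∈ zpowers a :=
          h1 ▸ mul_mem (inv_mem (pow_mem (mem_zpowers a) _)) (pow_mem (mem_zpowers a) _)
        fin_cases j <;> fin_cases j' <;> first
          | exact hne rfl
          | exact hea (by simpa [pow_two, hee] using h2)
          | exact hea (by simpa [pow_two, hee, ← mul_inv_rev] using h2)
      subst hj
      have h1 : a ^ (i : ℕ) = a ^ (i' : ℕ) := mul_right_cancel h
      have ho : orderOf a = 3 := orderOf_eq_prime (hp := ⟨Nat.prime_three⟩) (X.cube a ha) ha1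
      have := pow_injOn_Iio_orderOf (x := a) (by rw [ho]; exact i.isLt) (by rw [ho]; exact i'.isLt) h1
      exact Prod.ext (Fin.ext this) rfl
    have himg : (Finset.univ.image f) = {1, a, a⁻¹, e, e⁻¹, a * e, (a * e)⁻¹, a * e⁻¹, (a * e⁻¹)⁻¹} := by
      have hu : (Finset.univ : Finset (Fin 3 × Fin 3)) =
          {(0,0),(1,0),(2,0),(0,1),(0,2),(1,1),(2,2),(1,2),(2,1)} := by decide
      rw [hu]
      simp only [Finset.image_insert, Finset.image_singleton, f, Fin.val_zero, Fin.val_one, Fin.val_two, pow_zero,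
        pow_one, pow_two, one_mul, mul_one, haa, hee]
      have r1 : (a * e)⁻¹ = a⁻¹ * e⁻¹ := by rw [hcm, mul_inv_rev]
      have r2 : (a * e⁻¹)⁻¹ = a⁻¹ * e := by
        rw [X.comm ha (inv_mem he), mul_inv_rev, inv_inv]
      rw [r1, r2]
    rw [← himg, Finset.card_image_of_injective _ hf]
    rfl
  refine ⟨(Finset.eq_of_subset_of_card_le ?_ ?_).symm, hc⟩
  · intro x hx
    simp only [Finset.mem_insert, Finset.mem_singleton] at hx
    refine Finset.mem_filter.2 ⟨Finset.mem_univ _, ?_⟩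
    rcases hx with rfl | rfl | rfl | rfl | rfl | rfl | rfl | rfl | rfl <;>
      first
        | exact one_mem _ | exact ha | exact inv_mem ha | exact he | exact inv_mem he | exact mul_mem ha he
        | exact inv_mem (mul_mem ha he) | exact mul_mem ha (inv_mem he) | exact inv_mem (mul_mem ha (inv_mem he))
  · rw [hc, ← Fintype.card_subtype, ← Nat.card_eq_fintype_card]
    exact X.card_S.le

end Cfsg.Lib.Recog.NineSC
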