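import Cfsg.Agent.Lib.Recog.NineSC.Arith
import Cfsg.Agent.Lib.Recog.NineSC.Local
import Cfsg.Agent.Lib.Char.Galois
import Cfsg.Agent.Lib.Char.Correspondence
import Cfsg.Agent.Lib.Char.Linear
import Cfsg.Agent.Lib.Char.Formulas
import Cfsg.Agent.Lib.Small.Order360

/-!
# Simple groups with a Sylow three-subgroup of order nine containing the centralisers of its nontrivial
elements and two classes of elements of order three have order `360`
-/

set_option autoImplicit false
set_option linter.style.haveILetI false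
set_option linter.unusedSectionVars false

namespace Cfsg.Lib.Recog.NineSC

open Cfsg Cfsg.Lib.Char
open scoped ComplexConjugate

universe u

variable {G : Type u} [Group G] [Finite G] [IsSimpleGroup G] (X : Setup G)

theorem Setup.column (hne : ¬ IsMulCommutative G) {s : G} (hs : s ∈ (X.S : Subgroup G)) (hs1 : s ≠ 1)
    (χ : IrrCharacter G) : ∃ m : ℤ, (χ : G → ℂ) s = m := by
  obtain ⟨t, -, ht⟩ := X.exists_inverter hne
  refine exists_int_of_pow_invariant χ.2.isCharacter s fun k hk => ?_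
  have ho : orderOf s = 3 := orderOf_eq_prime (hp := ⟨Nat.prime_three⟩) (X.cube s hs) hs1
  have h3 : ¬ 3 ∣ k := fun h => by
    have hd := Nat.dvd_gcd h (ho ▸ orderOf_dvd_natCard s : 3 ∣ Nat.card G)
    rw [hk.gcd_eq_one] at hd
    exact absurd (Nat.dvd_one.1 hd) (by norm_num)
  rw [← pow_mod_orderOf, ho]
  rcases (show k % 3 = 1 ∨ k % 3 = 2 by omega) with e | e
  · rw [e, pow_one]
  · rw [e, show s ^ 2 = t * s * t⁻¹ by
      rw [ht s hs]
      exact eq_inv_of_mul_eq_one_left (by rw [← pow_succ]; exact X.cube s hs)]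
    exact χ.2.isClassFunction _ _

theorem Setup.centralizer_card {s : G} (hs : s ∈ (X.S : Subgroup G)) (hs1 : s ≠ 1) :
    Nat.card (Subgroup.centralizer ({s} : Set G)) = 9 := by rw [X.cent s hs hs1, X.card_S]

theorem Setup.classFinset_card [Fintype G] {s : G} (hs : s ∈ (X.S : Subgroup G)) (hs1 : s ≠ 1) :
    ((classFinset s).card : ℂ) * 9 = (Nat.card G : ℂ) := by
  have h := (Subgroup.centralizer ({s} : Set G)).card_mul_index
  rw [X.centralizer_card hs hs1, ← card_classFinset] at h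
  rw [← h]; push_cast; ring

theorem Setup.value_mod {s : G} (hs : s ∈ (X.S : Subgroup G)) {χ : IrrCharacter G} {m : ℤ} {d : ℕ}
    (hm : (χ : G → ℂ) s = m) (hd : (χ : G → ℂ) 1 = d) : (d : ℤ) % 3 = m % 3 :=
  modEq_degree_of_prime_pow χ.2.isCharacter (x := s) (p := 3) (k := 1) Nat.prime_three
    (by rw [pow_one]; exact X.cube s hs) hm hd

theorem deg_two_le (hne : ¬ IsMulCommutative G) {χ : IrrCharacter G}
    (hχ : (χ : G → ℂ) ≠ fun _ => 1) {d : ℕ} (hd0 : 0 < d) (hd : (χ : G → ℂ) 1 = d) : 2 ≤ d := by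
  by_contra hlt
  have h1 : (χ : G → ℂ) 1 = 1 := by rw [hd, show d = 1 by omega, Nat.cast_one]
  obtain ⟨lam, hlam⟩ := exists_hom_of_degree_one χ.2.isCharacter h1
  rcases Subgroup.Normal.eq_bot_or_eq_top (H := lam.ker) inferInstance with hk | hk
  · have hinj : Function.Injective lam := (MonoidHom.ker_eq_bot_iff lam).mp hk
    exact hne ⟨⟨fun x y => hinj (by rw [map_mul, map_mul, mul_comm])⟩⟩
  · refine hχ (funext fun x => ?_)
    have hx : x ∈ lam.ker := hk ▸ Subgroup.mem_top x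
    rw [MonoidHom.mem_ker] at hx
    simp [hlam, hx]

/-- The column facts for two nontrivial elements of `S`. -/
theorem Setup.gram [Fintype G] (hne : ¬ IsMulCommutative G) {a b : G} (ha : a ∈ (X.S : Subgroup G)) (ha1 : a ≠ 1)
    (hb : b ∈ (X.S : Subgroup G)) (hb1 : b ≠ 1) (hab : ¬ IsConj a b) {u v d : IrrCharacter G → ℤ}
    (hu : ∀ χ : IrrCharacter G, (χ : G → ℂ) a = u χ) (hv : ∀ χ : IrrCharacter G, (χ : G → ℂ) b = v χ)
    (hd : ∀ χ : IrrCharacter G, (χ : G → ℂ) 1 = d χ) :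
    (∑ χ, u χ * u χ = 9) ∧ (∑ χ, u χ * v χ = 0) ∧ (∑ χ, d χ * u χ = 0) ∧ (∀ χ, u χ % 3 = v χ % 3) := by
  classical
  refine ⟨?_, ?_, ?_, fun χ => ?_⟩
  · have h := column_orthogonality a a
    rw [if_pos (IsConj.refl a), X.centralizer_card ha ha1] at h
    have : ((∑ χ, u χ * u χ : ℤ) : ℂ) = ((9 : ℤ) : ℂ) := by
      push_cast
      refine Eq.trans (Finset.sum_congr rfl fun χ _ => ?_) (h.trans (by norm_num))
      rw [hu χ, map_intCast]
    exact_mod_cast this
  · have h := column_orthogonality a b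
    rw [if_neg hab] at h
    have : ((∑ χ, u χ * v χ : ℤ) : ℂ) = ((0 : ℤ) : ℂ) := by
      push_cast
      refine Eq.trans (Finset.sum_congr rfl fun χ _ => ?_) h
      rw [hu χ, hv χ, map_intCast]
    exact_mod_cast this
  · have h := column_orthogonality (1 : G) a
    rw [if_neg (fun e => ha1 (isConj_one_right.1 e))] at h
    have : ((∑ χ, d χ * u χ : ℤ) : ℂ) = ((0 : ℤ) : ℂ) := by
      push_cast
      refine Eq.trans (Finset.sum_congr rfl fun χ _ => ?_) h
      rw [hu χ, hd χ, map_intCast]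
    exact_mod_cast this
  · obtain ⟨n, -, hn⟩ := χ.2.exists_degree
    have h1 := X.value_mod ha (hu χ) hn
    have h2 := X.value_mod hb (hv χ) hn
    omega

/-- The equation given by the products of two classes landing in the first of them. -/
theorem Setup.equation [Fintype G] [DecidableEq G] {a b : G} (ha : a ∈ (X.S : Subgroup G)) (ha1 : a ≠ 1)
    (hb : b ∈ (X.S : Subgroup G)) (hb1 : b ≠ 1) {u v d : IrrCharacter G → ℤ}
    (hu : ∀ χ : IrrCharacter G, (χ : G → ℂ) a = u χ) (hv : ∀ χ : IrrCharacter G, (χ : G → ℂ) b = v χ)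
    (hd : ∀ χ : IrrCharacter G, (χ : G → ℂ) 1 = d χ) {c : ℕ}
    (hc : ((classFinset a ×ˢ classFinset b).filter fun p => p.1 * p.2 = a).card = c) :
    (Nat.card G : ℚ) * ∑ χ, ((u χ * v χ * u χ : ℤ) : ℚ) / (d χ : ℚ) = 81 * c := by
  have h := card_class_product a b a
  rw [hc] at h
  have hA := X.classFinset_card ha ha1
  have hB := X.classFinset_card hb hb1
  have hS : ∑ χ : IrrCharacter G, (χ : G → ℂ) a * (χ : G → ℂ) b * conj ((χ : G → ℂ) a) / (χ : G → ℂ) 1 =
      ((∑ χ, ((u χ * v χ * u χ : ℤ) : ℚ) / (d χ : ℚ) : ℚ) : ℂ) := by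
    push_cast
    refine Finset.sum_congr rfl fun χ _ => ?_
    rw [hu χ, hv χ, hd χ, map_intCast]
  rw [hS] at h
  have key : (((Nat.card G : ℚ) * ∑ χ, ((u χ * v χ * u χ : ℤ) : ℚ) / (d χ : ℚ) : ℚ) : ℂ) =
      ((81 * c : ℚ) : ℂ) := by
    rw [Rat.cast_mul, Rat.cast_natCast, Rat.cast_mul, Rat.cast_natCast,
      show ((81 : ℚ) : ℂ) = 81 by norm_num]
    generalize ((∑ χ, ((u χ * v χ * u χ : ℤ) : ℚ) / (d χ : ℚ) : ℚ) : ℂ) = T at h ⊢
    have hG : (Nat.card G : ℂ) ≠ 0 := card_cast_ne_zero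
    field_simp at h
    apply mul_left_cancel₀ hG
    calc (Nat.card G : ℂ) * ((Nat.card G : ℂ) * T)
        = ((classFinset a).card * 9) * ((classFinset b).card * 9) * T := by rw [hA, hB]; ring
      _ = (Nat.card G : ℂ) * (81 * c) := by linear_combination -81 * h
  exact_mod_cast key

include X in
/-- The order of the group. -/
theorem Setup.card_eq (hne : ¬ IsMulCommutative G)
    (hcls : ∃ a b : G, orderOf a = 3 ∧ orderOf b = 3 ∧ ∀ g : G, g * a * g⁻¹ ≠ b) : Nat.card G = 360 := by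
  classical
  haveI := Fintype.ofFinite G
  obtain ⟨t, htN, ht⟩ := X.exists_inverter hne
  let o : IrrCharacter G := ⟨fun _ => 1, isIrrCharacter_one⟩
  choose dn hdn0 hdn using fun χ : IrrCharacter G => χ.2.exists_degree
  set d : IrrCharacter G → ℤ := fun χ => (dn χ : ℤ) with hddef
  have hd : ∀ χ : IrrCharacter G, (χ : G → ℂ) 1 = d χ := fun χ => by simp [hddef, hdn χ]
  have hd0 : d o = 1 := by
    have : ((1 : ℤ) : ℂ) = (d o : ℂ) := by rw [← hd o]; simp [o]
    exact_mod_cast this.symm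
  have hd2 : ∀ χ, χ ≠ o → 2 ≤ d χ := fun χ hχ => by
    have := deg_two_le hne (χ := χ) (fun e => hχ (Subtype.ext e)) (hdn0 χ) (hdn χ)
    simp only [hddef]
    omega
  have hsq : ∑ χ, d χ * d χ = (Nat.card G : ℤ) := by
    have h := sum_sq_degree (G := G)
    have : ((∑ χ, d χ * d χ : ℤ) : ℂ) = (((Nat.card G : ℕ) : ℤ) : ℂ) := by
      push_cast
      refine Eq.trans (Finset.sum_congr rfl fun χ _ => ?_) h
      rw [hd χ]; ring
    exact_mod_cast this
  have hval : ∀ s : G, s ∈ (X.S : Subgroup G) → s ≠ 1 → ∃ u : IrrCharacter G → ℤ,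
      (∀ χ : IrrCharacter G, (χ : G → ℂ) s = u χ) ∧ u o = 1 := by
    intro s hs hs1
    choose u hu using X.column hne hs hs1
    refine ⟨u, hu, ?_⟩
    have : ((1 : ℤ) : ℂ) = (u o : ℂ) := by rw [← hu o]; simp [o]
    exact_mod_cast this.symm
  have hinvc : ∀ s ∈ (X.S : Subgroup G), IsConj s s⁻¹ := fun s hs => isConj_iff.2 ⟨t, ht s hs⟩
  -- products
  have hpair : ∀ a b : G, a ∈ (X.S : Subgroup G) → a ≠ 1 → b ∈ (X.S : Subgroup G) → b ≠ 1 → ¬ IsConj a b →
      ∀ p q : G, IsConj a p → IsConj b q → p * q = a → p ∈ X.orbit a ∧ q ∈ X.orbit b := by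
    intro a b ha ha1 hb hb1 hab p q hp hq hpq
    have hp3 : p ^ 3 = 1 := by
      obtain ⟨g, rfl⟩ := isConj_iff.1 hp
      rw [conj_pow, X.cube a ha]; group
    have hq3 : q ^ 3 = 1 := by
      obtain ⟨g, rfl⟩ := isConj_iff.1 hq
      rw [conj_pow, X.cube b hb]; group
    have hp1 : p ≠ 1 := fun e => ha1 (isConj_one_left.1 (e ▸ hp))
    have hc := X.comm_of_product hp3 hp1 hq3 (by rw [hpq]; exact X.cube a ha)
      (Or.inl fun e => hab ((hp.trans e).trans hq.symm))
    have hpS : p ∈ (X.S : Subgroup G) := X.mem_of_comm ha ha1 (by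
      rw [← hpq]; simp only [mul_assoc]; rw [hc])
    have hqS : q ∈ (X.S : Subgroup G) := by
      rw [show q = p⁻¹ * a by rw [← hpq]; group]
      exact mul_mem (inv_mem hpS) ha
    exact ⟨X.mem_orbit_of_isConj ha ha1 hpS hp, X.mem_orbit_of_isConj hb hb1 hqS hq⟩
  -- the two cases
  obtain ⟨a₀, b₀, ha₀, hb₀, hab₀⟩ := hcls
  obtain ⟨g₁, hg₁⟩ := X.exists_conj_mem (e := a₀) (by rw [← ha₀]; exact pow_orderOf_eq_one a₀)
  obtain ⟨g₂, hg₂⟩ := X.exists_conj_mem (e := b₀) (by rw [← hb₀]; exact pow_orderOf_eq_one b₀)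
  have hne₁ : g₁ * a₀ * g₁⁻¹ ≠ 1 := fun e => by
    rw [conj_eq_one_iff] at e; rw [e, orderOf_one] at ha₀; omega
  have hne₂ : g₂ * b₀ * g₂⁻¹ ≠ 1 := fun e => by
    rw [conj_eq_one_iff] at e; rw [e, orderOf_one] at hb₀; omega
  have hnc : ¬ IsConj (g₁ * a₀ * g₁⁻¹) (g₂ * b₀ * g₂⁻¹) := fun e => by
    obtain ⟨g, hg⟩ := isConj_iff.1 (((isConj_iff.2 ⟨g₁, rfl⟩ : IsConj a₀ (g₁ * a₀ * g₁⁻¹)).trans e).trans
      (isConj_iff.2 ⟨g₂, rfl⟩ : IsConj b₀ (g₂ * b₀ * g₂⁻¹)).symm)
    exact hab₀ g hg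
  have hinv_orbit : ∀ s ∈ (X.S : Subgroup G), s ≠ 1 → s ∈ X.orbit s ∧ s⁻¹ ∈ X.orbit s := fun s hs hs1 =>
    ⟨X.mem_orbit_of_isConj hs hs1 hs (IsConj.refl s), X.mem_orbit_of_isConj hs hs1 (inv_mem hs) (hinvc s hs)⟩
  by_cases hcase : ∀ n ∈ X.N, ∀ s ∈ (X.S : Subgroup G), n * s * n⁻¹ = s ∨ n * s * n⁻¹ = s⁻¹
  · exfalso
    have hsep : ∀ x y : G, x ∈ (X.S : Subgroup G) → x ≠ 1 → y ∈ (X.S : Subgroup G) → y ≠ x → y ≠ x⁻¹ →
        ¬ IsConj x y := by
      intro x y hx hx1 hy h1 h2 e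
      obtain ⟨n, hn, he⟩ := X.mem_orbit_of_isConj hx hx1 hy e
      rcases hcase n hn x hx with h | h
      · exact h1 (he.symm.trans h)
      · exact h2 (he.symm.trans h)
    set a := g₁ * a₀ * g₁⁻¹
    obtain ⟨e, he, hea⟩ := X.exists_basis hg₁
    have hlist := (X.listing hg₁ hne₁ he hea).2
    have hnd : ([1, a, a⁻¹, e, e⁻¹, a * e, (a * e)⁻¹, a * e⁻¹, (a * e⁻¹)⁻¹] : List G).Nodup := by
      rw [← List.dedup_eq_self]
      refine (List.dedup_sublist _).eq_of_length ?_
      rw [← List.card_toFinset]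
      simpa [List.toFinset_cons] using hlist
    simp only [List.nodup_cons, List.mem_cons, List.not_mem_nil, or_false, not_or] at hnd
    obtain ⟨⟨o1, o2, o3, o4, o5, o6, o7, o8⟩, ⟨a2, a3, a4, a5, a6, a7, a8⟩, ⟨i3, i4, i5, i6, i7, i8⟩,
      ⟨e4, e5, e6, e7, e8⟩, ⟨f5, f6, f7, f8⟩, ⟨p6, p7, p8⟩, ⟨q7, q8⟩, -⟩ := hnd
    have hae := mul_mem hg₁ he
    have hai := mul_mem hg₁ (inv_mem he)
    have n1 : ¬ IsConj a e := hsep _ _ hg₁ hne₁ he (Ne.symm a3) (Ne.symm i3)
    have n2 : ¬ IsConj a (a * e) := hsep _ _ hg₁ hne₁ hae (Ne.symm a5) (Ne.symm i5)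
    have n3 : ¬ IsConj a (a * e⁻¹) := hsep _ _ hg₁ hne₁ hai (Ne.symm a7) (Ne.symm i7)
    have n4 : ¬ IsConj e (a * e) := hsep _ _ he (Ne.symm o3) hae (Ne.symm e5) (Ne.symm f5)
    have n5 : ¬ IsConj e (a * e⁻¹) := hsep _ _ he (Ne.symm o3) hai (Ne.symm e7) (Ne.symm f7)
    have n6 : ¬ IsConj (a * e) (a * e⁻¹) := hsep _ _ hae (Ne.symm o5) hai (Ne.symm p7) (Ne.symm q7)
    obtain ⟨u0, hu0, z0⟩ := hval a hg₁ hne₁
    obtain ⟨u1, hu1, z1⟩ := hval e he (Ne.symm o3)
    obtain ⟨u2, hu2, z2⟩ := hval (a * e) hae (Ne.symm o5)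
    obtain ⟨u3, hu3, z3⟩ := hval (a * e⁻¹) hai (Ne.symm o7)
    obtain ⟨s0, p01, w0, m01⟩ := X.gram hne hg₁ hne₁ he (Ne.symm o3) n1 hu0 hu1 hd
    obtain ⟨-, p02, -, m02⟩ := X.gram hne hg₁ hne₁ hae (Ne.symm o5) n2 hu0 hu2 hd
    obtain ⟨-, p03, -, m03⟩ := X.gram hne hg₁ hne₁ hai (Ne.symm o7) n3 hu0 hu3 hd
    obtain ⟨s1, p12, w1, m12⟩ := X.gram hne he (Ne.symm o3) hae (Ne.symm o5) n4 hu1 hu2 hd
    obtain ⟨-, p13, -, m13⟩ := X.gram hne he (Ne.symm o3) hai (Ne.symm o7) n5 hu1 hu3 hd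
    obtain ⟨s2, p23, w2, m23⟩ := X.gram hne hae (Ne.symm o5) hai (Ne.symm o7) n6 hu2 hu3 hd
    obtain ⟨s3, -, w3, -⟩ := X.gram hne hai (Ne.symm o7) hg₁ hne₁ (fun h => n3 h.symm) hu3 hu0 hd
    have hzero : ((classFinset a ×ˢ classFinset e).filter fun p => p.1 * p.2 = a).card = 0 := by
      rw [Finset.card_eq_zero, Finset.filter_eq_empty_iff]
      rintro ⟨p, q⟩ hpq hmul
      rw [Finset.mem_product, mem_classFinset, mem_classFinset] at hpq
      obtain ⟨⟨n, hn, hp⟩, ⟨n', hn', hq⟩⟩ := hpair a e hg₁ hne₁ he (Ne.symm o3) n1 p q hpq.1 hpq.2 hmul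
      simp only at hp hq hmul
      subst hp hq
      rcases hcase n hn a hg₁ with h | h <;> rcases hcase n' hn' e he with h' | h' <;> rw [h, h'] at hmul
      · exact a5 hmul.symm
      · exact a7 hmul.symm
      · exact i4 (by
          have : e = a * a := by rw [← mul_right_inj a⁻¹, hmul]; group
          have haa : a * a = a⁻¹ := eq_inv_of_mul_eq_one_left (by rw [← X.cube a hg₁]; simp [pow_succ, mul_assoc])
          exact absurd (this.trans haa).symm i3)
      · exact i3 (by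
          have : e⁻¹ = a * a := by rw [← mul_right_inj a⁻¹, hmul]; group
          have haa : a * a = a⁻¹ := eq_inv_of_mul_eq_one_left (by rw [← X.cube a hg₁]; simp [pow_succ, mul_assoc])
          exact absurd (this.trans haa).symm i4)
    have heq := X.equation hg₁ hne₁ he (Ne.symm o3) hu0 hu1 hd hzero
    rw [Nat.cast_zero, mul_zero] at heq
    exact not_four_classes (o := o) (d := d) z0 z1 z2 z3 hd0 hd2 m01 m02 m03 m12 m13 m23 s0 s1 s2 s3
      p01 p02 p03 p12 p13 p23 w0 w1 w2 w3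
      ((mul_eq_zero.1 heq).resolve_left (Nat.cast_ne_zero.2 Nat.card_pos.ne'))
  · push Not at hcase
    obtain ⟨n, hn, a, ha, hna, hna'⟩ := hcase
    have ha1 : a ≠ 1 := fun e => hna (by rw [e]; group)
    set e := n * a * n⁻¹ with hedef
    have he : e ∈ (X.S : Subgroup G) := (Subgroup.mem_normalizer_iff.1 hn a).1 ha
    have hea : e ∉ Subgroup.zpowers a := fun h => by
      obtain ⟨i, hi⟩ := h
      have hm : i % 3 = 0 ∨ i % 3 = 1 ∨ i % 3 = 2 := by omega
      have hz : a ^ i = a ^ (i % 3) := by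
        conv_lhs => rw [← Int.emod_add_mul_ediv i 3, zpow_add, zpow_mul]
        rw [show a ^ (3 : ℤ) = 1 from by exact_mod_cast X.cube a ha, one_zpow, mul_one]
      simp only at hi
      rcases hm with h | h | h <;> rw [hz, h] at hi
      · exact ha1 (conj_eq_one_iff.1 (show n * a * n⁻¹ = 1 by rw [← hedef, ← hi, zpow_zero]))
      · exact hna (by rw [← hi, zpow_one])
      · refine hna' ?_
        rw [← hi]
        exact eq_inv_of_mul_eq_one_left (by rw [← zpow_add_one]; exact_mod_cast X.cube a ha)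
    obtain ⟨hfilter, hlist⟩ := X.listing ha ha1 he hea
    have hnd : ([1, a, a⁻¹, e, e⁻¹, a * e, (a * e)⁻¹, a * e⁻¹, (a * e⁻¹)⁻¹] : List G).Nodup := by
      rw [← List.dedup_eq_self]
      refine (List.dedup_sublist _).eq_of_length ?_
      rw [← List.card_toFinset]
      simpa [List.toFinset_cons] using hlist
    simp only [List.nodup_cons, List.mem_cons, List.not_mem_nil, or_false, not_or] at hnd
    obtain ⟨⟨o1, o2, o3, o4, o5, o6, o7, o8⟩, ⟨a2, a3, a4, a5, a6, a7, a8⟩, ⟨i3, i4, i5, i6, i7, i8⟩,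
      ⟨e4, e5, e6, e7, e8⟩, ⟨f5, f6, f7, f8⟩, ⟨p6, p7, p8⟩, ⟨q7, q8⟩, r8, -⟩ := hnd
    have hae := mul_mem ha he
    have hai := mul_mem ha (inv_mem he)
    -- the orbit of `a`
    have hO1 : ∀ x ∈ ({a, a⁻¹, e, e⁻¹} : Finset G), x ∈ X.orbit a := by
      have hae' : IsConj a e := isConj_iff.2 ⟨n, rfl⟩
      intro x hx
      simp only [Finset.mem_insert, Finset.mem_singleton] at hx
      rcases hx with rfl | rfl | rfl | rfl
      · exact (hinv_orbit _ ha ha1).1
      · exact (hinv_orbit _ ha ha1).2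
      · exact X.mem_orbit_of_isConj ha ha1 he hae'
      · exact X.mem_orbit_of_isConj ha ha1 (inv_mem he) (hae'.trans (hinvc e he))
    have hcard4 : ({a, a⁻¹, e, e⁻¹} : Finset G).card = 4 := by
      rw [Finset.card_insert_of_notMem, Finset.card_insert_of_notMem, Finset.card_pair e4]
      · simp [i3, i4]
      · simp [a2, a3, a4]
    set H := (X.S : Subgroup G).relIndex X.N with hH
    have hH4 : 4 ≤ H := by
      rw [hH, ← X.card_orbit ha ha1, ← hcard4, ← Set.ncard_coe_finset]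
      exact Set.ncard_le_ncard (fun x hx => hO1 x hx) (Set.toFinite _)
    have hH4' : H ≤ 4 := by
      have hdis : Disjoint (X.orbit (g₁ * a₀ * g₁⁻¹)) (X.orbit (g₂ * b₀ * g₂⁻¹)) :=
        Set.disjoint_left.2 fun x h1 h2 => hnc ((X.isConj_of_mem_orbit h1).trans (X.isConj_of_mem_orbit h2).symm)
      have hsub : X.orbit (g₁ * a₀ * g₁⁻¹) ∪ X.orbit (g₂ * b₀ * g₂⁻¹) ⊆ ((X.S : Subgroup G) : Set G) \ {1} := by
        rintro x (h | h)
        · exact ⟨X.orbit_subset hg₁ h, fun h1 => hne₁ (isConj_one_left.1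
            ((show x = 1 from h1) ▸ X.isConj_of_mem_orbit h))⟩
        · exact ⟨X.orbit_subset hg₂ h, fun h1 => hne₂ (isConj_one_left.1
            ((show x = 1 from h1) ▸ X.isConj_of_mem_orbit h))⟩
      have h := Set.ncard_le_ncard hsub (Set.toFinite _)
      rw [Set.ncard_union_eq hdis (Set.toFinite _) (Set.toFinite _), X.card_orbit hg₁ hne₁, X.card_orbit hg₂ hne₂,
        Set.ncard_sdiff (Set.singleton_subset_iff.2 (one_mem _)) (Set.toFinite _), Set.ncard_singleton,
        ← Nat.card_coe_set_eq] at h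
      have h9 : Nat.card ↥((X.S : Subgroup G) : Set G) = 9 := X.card_S
      rw [h9] at h
      omega
    have hOa : X.orbit a = (({a, a⁻¹, e, e⁻¹} : Finset G) : Set G) := by
      refine (Set.eq_of_subset_of_ncard_le (fun x hx => hO1 x hx) ?_ (Set.toFinite _)).symm
      rw [X.card_orbit ha ha1, Set.ncard_coe_finset, hcard4]
      omega
    have hmem4 : ∀ x ∈ (X.S : Subgroup G), x ≠ a → x ≠ a⁻¹ → x ≠ e → x ≠ e⁻¹ → ¬ IsConj a x := by
      intro x hx h1 h2 h3 h4 hc
      have h := X.mem_orbit_of_isConj ha ha1 hx hc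
      rw [hOa, Finset.mem_coe] at h
      simp only [Finset.mem_insert, Finset.mem_singleton] at h
      rcases h with h | h | h | h
      exacts [h1 h, h2 h, h3 h, h4 h]
    set b := a * e with hb
    have hnab : ¬ IsConj a b := hmem4 b hae (Ne.symm a5) (Ne.symm i5) (Ne.symm e5) (Ne.symm f5)
    have hb1 : b ≠ 1 := Ne.symm o5
    have hOb : X.orbit b = (({b, b⁻¹, a * e⁻¹, (a * e⁻¹)⁻¹} : Finset G) : Set G) := by
      refine Set.eq_of_subset_of_ncard_le ?_ ?_ (Set.toFinite _)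
      · intro x hx
        have hxS := X.orbit_subset hae hx
        have hx' : x ∈ Finset.univ.filter fun y => y ∈ (X.S : Subgroup G) :=
          Finset.mem_filter.2 ⟨Finset.mem_univ _, hxS⟩
        rw [hfilter] at hx'
        simp only [Finset.mem_insert, Finset.mem_singleton] at hx'
        simp only [Finset.coe_insert, Finset.coe_singleton, Set.mem_insert_iff, Set.mem_singleton_iff]
        have hn1 : x ≠ 1 := fun h => hb1 (isConj_one_left.1 (h ▸ X.isConj_of_mem_orbit hx))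
        have hno : x ∉ X.orbit a := fun h => hnab ((X.isConj_of_mem_orbit h).trans (X.isConj_of_mem_orbit hx).symm)
        rw [hOa] at hno
        simp only [Finset.coe_insert, Finset.coe_singleton, Set.mem_insert_iff, Set.mem_singleton_iff, not_or] at hno
        obtain ⟨k1, k2, k3, k4⟩ := hno
        rcases hx' with h | h | h | h | h | h | h | h | h
        · exact absurd h hn1
        · exact absurd h k1
        · exact absurd h k2
        · exact absurd h k3
        · exact absurd h k4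
        · exact Or.inl h
        · exact Or.inr (Or.inl h)
        · exact Or.inr (Or.inr (Or.inl h))
        · exact Or.inr (Or.inr (Or.inr h))
      · rw [X.card_orbit hae hb1, Set.ncard_coe_finset, Finset.card_insert_of_notMem, Finset.card_insert_of_notMem,
          Finset.card_pair]
        · omega
        · exact r8
        · simp only [Finset.mem_insert, Finset.mem_singleton, not_or]; exact ⟨q7, q8⟩
        · simp only [Finset.mem_insert, Finset.mem_singleton, not_or]; exact ⟨p6, p7, p8⟩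
    have hb' : ∀ x ∈ ({b, b⁻¹, a * e⁻¹, (a * e⁻¹)⁻¹} : Finset G), IsConj b x := fun x hx =>
      X.isConj_of_mem_orbit (by rw [hOb]; exact hx)
    have ha' : ∀ x ∈ ({a, a⁻¹, e, e⁻¹} : Finset G), IsConj a x := fun x hx => X.isConj_of_mem_orbit (hO1 x hx)
    have hcomm := X.comm ha he
    have hcount : ((classFinset a ×ˢ classFinset b).filter fun p => p.1 * p.2 = a).card = 2 := by
      have hset : ((classFinset a ×ˢ classFinset b).filter fun p => p.1 * p.2 = a) =
          ({(e, a * e⁻¹), (e⁻¹, a * e)} : Finset (G × G)) := by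
        ext ⟨p, q⟩
        rw [Finset.mem_filter, Finset.mem_product, mem_classFinset, mem_classFinset, Finset.mem_insert,
          Finset.mem_singleton, Prod.mk.injEq, Prod.mk.injEq]
        constructor
        · rintro ⟨⟨hp, hq⟩, hmul⟩
          obtain ⟨h1, h2⟩ := hpair a b ha ha1 hae hb1 hnab p q hp hq hmul
          simp only at hmul
          rw [hOa] at h1
          simp only [Finset.coe_insert, Finset.coe_singleton, Set.mem_insert_iff, Set.mem_singleton_iff] at h1
          have hqv : q = p⁻¹ * a := by rw [← hmul]; group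
          have hnq : ¬ IsConj a q := fun h => hnab (h.trans hq.symm)
          rcases h1 with rfl | rfl | rfl | rfl
          · exact absurd (isConj_one_left.1 ((show q = 1 by rw [hqv]; group) ▸ hq)) hb1
          · refine absurd ?_ hnq
            rw [hqv, show a⁻¹⁻¹ * a = a⁻¹ from eq_inv_of_mul_eq_one_left (by
              rw [inv_inv, ← X.cube a ha]; simp [pow_succ, mul_assoc])]
            exact hinvc a ha
          · exact Or.inl ⟨rfl, by rw [hqv]; exact X.comm (inv_mem he) ha⟩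
          · exact Or.inr ⟨rfl, by rw [hqv, inv_inv]; exact hcomm.symm⟩
        · rintro (⟨rfl, rfl⟩ | ⟨rfl, rfl⟩)
          · refine ⟨⟨ha' _ (by simp), hb' _ (by simp)⟩, ?_⟩
            show e * (a * e⁻¹) = a
            rw [← mul_assoc, ← hcomm]; group
          · refine ⟨⟨ha' _ (by simp), hb' _ (by simp [hb])⟩, ?_⟩
            show e⁻¹ * (a * e) = a
            rw [hcomm]; group
      rw [hset, Finset.card_pair]
      intro h
      exact e4 (Prod.ext_iff.1 h).1
    obtain ⟨u, hu, zu⟩ := hval a ha ha1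
    obtain ⟨v, hv, zv⟩ := hval b hae hb1
    obtain ⟨su, puv, wu, muv⟩ := X.gram hne ha ha1 hae hb1 hnab hu hv hd
    obtain ⟨sv, -, wv, -⟩ := X.gram hne hae hb1 ha ha1 (fun h => hnab h.symm) hv hu hd
    have heq := X.equation ha ha1 hae hb1 hu hv hd hcount
    refine order_of_two_classes (o := o) (d := d) zu zv hd0 hd2 muv (fun χ => ?_) su sv puv wu wv hsq
      (heq.trans (by norm_num))
    haveI := Fintype.ofFinite ↥(X.S : Subgroup G)
    obtain ⟨k, hk⟩ := ((χ.2.isCharacter.comp (X.S : Subgroup G).subtype).isGeneralized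
      |>.exists_int_classInner (isCharacter_one (G := ↥(X.S : Subgroup G))).isGeneralized :
        ∃ k : ℤ, classInner (fun m : ↥(X.S : Subgroup G) => (χ : G → ℂ) m) (fun _ => 1) = k)
    simp only [Subgroup.coe_subtype] at hk
    rw [classInner_one_right, X.card_S,
      ← Finset.sum_subtype (Finset.univ.filter fun x => x ∈ (X.S : Subgroup G)) (fun x => by simp)
        (fun x => (χ : G → ℂ) x), hfilter] at hk
    have hc : ∀ {x y : G}, IsConj x y → (χ : G → ℂ) y = (χ : G → ℂ) x := fun {x y} h => by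
      obtain ⟨g, rfl⟩ := isConj_iff.1 h
      exact χ.2.isClassFunction _ _
    have hsum : ∑ x ∈ ({1, a, a⁻¹, e, e⁻¹, a * e, (a * e)⁻¹, a * e⁻¹, (a * e⁻¹)⁻¹} : Finset G), (χ : G → ℂ) x =
        (d χ : ℂ) + 4 * u χ + 4 * v χ := by
      rw [Finset.sum_insert, Finset.sum_insert, Finset.sum_insert, Finset.sum_insert, Finset.sum_insert,
        Finset.sum_insert, Finset.sum_insert, Finset.sum_pair]
      · rw [hd χ, hc (ha' a⁻¹ (by simp)), hc (ha' e (by simp)), hc (ha' e⁻¹ (by simp)),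
          hc (hb' b⁻¹ (by simp)), hc (hb' (a * e⁻¹) (by simp)), hc (hb' (a * e⁻¹)⁻¹ (by simp)), ← hb, hu χ, hv χ]
        ring
      all_goals try simp only [Finset.mem_insert, Finset.mem_singleton, not_or]
      all_goals first
        | assumption
        | exact ⟨o1, o2, o3, o4, o5, o6, o7, o8⟩
        | exact ⟨a2, a3, a4, a5, a6, a7, a8⟩
        | exact ⟨i3, i4, i5, i6, i7, i8⟩
        | exact ⟨e4, e5, e6, e7, e8⟩
        | exact ⟨f5, f6, f7, f8⟩
        | exact ⟨p6, p7, p8⟩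
        | exact ⟨q7, q8⟩
    rw [hsum] at hk
    have h9 : ((d χ + 4 * u χ + 4 * v χ : ℤ) : ℂ) = ((9 * k : ℤ) : ℂ) := by
      push_cast
      rw [← hk]; push_cast; ring
    have h9' : d χ + 4 * u χ + 4 * v χ = 9 * k := by exact_mod_cast h9
    omega

end Cfsg.Lib.Recog.NineSC
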