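import Cfsg.Agent.Lib.Recog.NineSC.Loose
import Cfsg.Agent.Lib.Recog.NineSC.KleinArith
import Cfsg.Agent.Lib.Recog.NineSC.Main

/-!
# A Klein four-group acting on a Sylow three-subgroup of order nine forces order `36`
-/

set_option autoImplicit false
set_option linter.style.haveILetI false
set_option linter.unusedSectionVars false

namespace Cfsg.Lib.Recog.NineSC

open Cfsg Cfsg.Lib.Char
open scoped ComplexConjugate

universe u

variable {G : Type u} [Group G] [Finite G] (X : Loose G)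

theorem Loose.column {z s : G} (hz : z * s * z⁻¹ = s⁻¹) (hs : s ∈ (X.S : Subgroup G)) (hs1 : s ≠ 1)
    (χ : IrrCharacter G) : ∃ m : ℤ, (χ : G → ℂ) s = m := by
  refine exists_int_of_pow_invariant χ.2.isCharacter s fun k hk => ?_
  have ho : orderOf s = 3 := orderOf_eq_prime (hp := ⟨Nat.prime_three⟩) (X.cube s hs) hs1
  have h3 : ¬ 3 ∣ k := fun h => by
    have hd := Nat.dvd_gcd h (ho ▸ orderOf_dvd_natCard s : 3 ∣ Nat.card G)
    rw [hk.gcd_eq_one] at hd
    exact absurd (Nat.dvd_one.1 hd) (by norm_num)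
  rw [← pow_mod_orderOf, ho]
  rcases (show k % 3 = 1 ∨ k % 3 = 2 by omega) with e | e
  · rw [e, pow_one]
  · rw [e, show s ^ 2 = z * s * z⁻¹ by
      rw [hz]
      exact eq_inv_of_mul_eq_one_left (by rw [← pow_succ]; exact X.cube s hs)]
    exact χ.2.isClassFunction _ _

/-- The equation of a class product, with the orders of two centralisers. -/
theorem class_equation [Fintype G] [DecidableEq G] {a b c : G} {ca cb : ℕ}
    (hA : Nat.card (Subgroup.centralizer ({a} : Set G)) = ca) (hB : Nat.card (Subgroup.centralizer ({b} : Set G)) = cb)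
    {u v w d : IrrCharacter G → ℤ}
    (hu : ∀ χ : IrrCharacter G, (χ : G → ℂ) a = u χ) (hv : ∀ χ : IrrCharacter G, (χ : G → ℂ) b = v χ)
    (hw : ∀ χ : IrrCharacter G, (χ : G → ℂ) c = w χ) (hd : ∀ χ : IrrCharacter G, (χ : G → ℂ) 1 = d χ) {n : ℕ}
    (hn : ((classFinset a ×ˢ classFinset b).filter fun p => p.1 * p.2 = c).card = n) :
    (Nat.card G : ℚ) * ∑ χ, ((u χ * v χ * w χ : ℤ) : ℚ) / (d χ : ℚ) = (ca * cb * n : ℕ) := by
  have h := card_class_product a b c
  rw [hn] at h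
  have hA' : ((classFinset a).card : ℂ) * ca = (Nat.card G : ℂ) := by
    have h := (Subgroup.centralizer ({a} : Set G)).card_mul_index
    rw [hA, ← card_classFinset] at h
    rw [← h]; push_cast; ring
  have hB' : ((classFinset b).card : ℂ) * cb = (Nat.card G : ℂ) := by
    have h := (Subgroup.centralizer ({b} : Set G)).card_mul_index
    rw [hB, ← card_classFinset] at h
    rw [← h]; push_cast; ring
  have hS : ∑ χ : IrrCharacter G, (χ : G → ℂ) a * (χ : G → ℂ) b * conj ((χ : G → ℂ) c) / (χ : G → ℂ) 1 =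
      ((∑ χ, ((u χ * v χ * w χ : ℤ) : ℚ) / (d χ : ℚ) : ℚ) : ℂ) := by
    push_cast
    refine Finset.sum_congr rfl fun χ _ => ?_
    rw [hu χ, hv χ, hw χ, hd χ, map_intCast]
  rw [hS] at h
  have key : (((Nat.card G : ℚ) * ∑ χ, ((u χ * v χ * w χ : ℤ) : ℚ) / (d χ : ℚ) : ℚ) : ℂ) =
      (((ca * cb * n : ℕ) : ℚ) : ℂ) := by
    rw [Rat.cast_mul, Rat.cast_natCast, Rat.cast_natCast, Nat.cast_mul, Nat.cast_mul]
    generalize ((∑ χ, ((u χ * v χ * w χ : ℤ) : ℚ) / (d χ : ℚ) : ℚ) : ℂ) = T at h ⊢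
    have hG : (Nat.card G : ℂ) ≠ 0 := card_cast_ne_zero
    field_simp at h
    apply mul_left_cancel₀ hG
    calc (Nat.card G : ℂ) * ((Nat.card G : ℂ) * T)
        = ((classFinset a).card * ca) * ((classFinset b).card * cb) * T := by rw [hA', hB']; ring
      _ = (Nat.card G : ℂ) * (ca * cb * n) := by linear_combination -(ca * cb : ℂ) * h
  exact_mod_cast key

theorem column_gram [Fintype G] {x y : G} (hxy : ¬ IsConj x y) {u v : IrrCharacter G → ℤ} {c : ℕ}
    (hc : Nat.card (Subgroup.centralizer ({x} : Set G)) = c)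
    (hu : ∀ χ : IrrCharacter G, (χ : G → ℂ) x = u χ) (hv : ∀ χ : IrrCharacter G, (χ : G → ℂ) y = v χ) :
    (∑ χ, u χ * u χ = (c : ℤ)) ∧ (∑ χ, u χ * v χ = 0) := by
  classical
  constructor
  · have h := column_orthogonality x x
    rw [if_pos (IsConj.refl x), hc] at h
    have : ((∑ χ, u χ * u χ : ℤ) : ℂ) = (((c : ℕ) : ℤ) : ℂ) := by
      push_cast
      refine Eq.trans (Finset.sum_congr rfl fun χ _ => ?_) h
      rw [hu χ, map_intCast]
    exact_mod_cast this
  · have h := column_orthogonality x y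
    rw [if_neg hxy] at h
    have : ((∑ χ, u χ * v χ : ℤ) : ℂ) = ((0 : ℤ) : ℂ) := by
      push_cast
      refine Eq.trans (Finset.sum_congr rfl fun χ _ => ?_) h
      rw [hu χ, hv χ, map_intCast]
    exact_mod_cast this

include X in
/-- The Klein case. -/
theorem Loose.card_eq_of_klein {a e z r₁ r₂ : G}
    (ha : a ∈ (X.S : Subgroup G)) (ha1 : a ≠ 1) (he : e ∈ (X.S : Subgroup G)) (hea : e ∉ Subgroup.zpowers a)
    (hz : ∀ s ∈ (X.S : Subgroup G), z * s * z⁻¹ = s⁻¹)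
    (hr₁a : r₁ * a * r₁⁻¹ = a) (hr₁e : r₁ * e * r₁⁻¹ = e⁻¹)
    (hr₂a : r₂ * a * r₂⁻¹ = a⁻¹) (hr₂e : r₂ * e * r₂⁻¹ = e)
    (hact : ∀ n ∈ X.N, (n * a * n⁻¹ = a ∨ n * a * n⁻¹ = a⁻¹) ∧ (n * e * n⁻¹ = e ∨ n * e * n⁻¹ = e⁻¹))
    (hca : Nat.card (Subgroup.centralizer ({a} : Set G)) = 18)
    (hce : Nat.card (Subgroup.centralizer ({e} : Set G)) = 18)
    (hcb : Nat.card (Subgroup.centralizer ({a * e} : Set G)) = 9) : Nat.card G = 36 := by
  classical
  haveI := Fintype.ofFinite G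
  obtain ⟨hfilter, hlist⟩ := X.listing ha ha1 he hea
  have hnd : ([1, a, a⁻¹, e, e⁻¹, a * e, (a * e)⁻¹, a * e⁻¹, (a * e⁻¹)⁻¹] : List G).Nodup := by
    rw [← List.dedup_eq_self]
    refine (List.dedup_sublist _).eq_of_length ?_
    rw [← List.card_toFinset]
    simpa [List.toFinset_cons] using hlist
  simp only [List.nodup_cons, List.mem_cons, List.not_mem_nil, or_false, not_or] at hnd
  obtain ⟨⟨o1, o2, o3, o4, o5, o6, o7, o8⟩, ⟨a2, a3, a4, a5, a6, a7, a8⟩, ⟨i3, i4, i5, i6, i7, i8⟩,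
    ⟨e4, e5, e6, e7, e8⟩, ⟨f5, f6, f7, f8⟩, ⟨p6, p7, p8⟩, ⟨q7, q8⟩, r8, -⟩ := hnd
  have hae := mul_mem ha he
  have hai := mul_mem ha (inv_mem he)
  have he1 : e ≠ 1 := Ne.symm o3
  have hb1 : a * e ≠ 1 := Ne.symm o5
  have hcm := X.comm ha he
  have hinv₁ : (a * e)⁻¹ = a⁻¹ * e⁻¹ := by rw [hcm, mul_inv_rev]
  have hinv₂ : (a * e⁻¹)⁻¹ = a⁻¹ * e := by rw [X.comm ha (inv_mem he), mul_inv_rev, inv_inv]
  -- conjugacy inside `S`
  have horb : ∀ {s x : G}, s ∈ (X.S : Subgroup G) → s ≠ 1 → x ∈ (X.S : Subgroup G) → IsConj s x →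
      ∃ n ∈ X.N, n * s * n⁻¹ = x := by
    intro s x hs hs1 hx h
    obtain ⟨g, rfl⟩ := isConj_iff.1 h
    exact ⟨g, X.conj_mem_N hs hs1 hx, rfl⟩
  have hA : ∀ x ∈ (X.S : Subgroup G), IsConj a x → x = a ∨ x = a⁻¹ := by
    intro x hx h
    obtain ⟨n, hn, rfl⟩ := horb ha ha1 hx h
    exact (hact n hn).1
  have hE : ∀ x ∈ (X.S : Subgroup G), IsConj e x → x = e ∨ x = e⁻¹ := by
    intro x hx h
    obtain ⟨n, hn, rfl⟩ := horb he he1 hx h
    exact (hact n hn).2
  have hB : ∀ x ∈ (X.S : Subgroup G), IsConj (a * e) x →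
      x = a * e ∨ x = (a * e)⁻¹ ∨ x = a * e⁻¹ ∨ x = (a * e⁻¹)⁻¹ := by
    intro x hx h
    obtain ⟨n, hn, rfl⟩ := horb hae hb1 hx h
    rw [← conj_mul]
    rcases (hact n hn).1 with h1 | h1 <;> rcases (hact n hn).2 with h2 | h2 <;> rw [h1, h2]
    · exact Or.inl rfl
    · exact Or.inr (Or.inr (Or.inl rfl))
    · exact Or.inr (Or.inr (Or.inr hinv₂.symm))
    · exact Or.inr (Or.inl hinv₁.symm)
  have nae : ¬ IsConj a e := fun h => (hA e he h).elim (Ne.symm a3) (Ne.symm i3)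
  have nab : ¬ IsConj a (a * e) := fun h => (hA _ hae h).elim (Ne.symm a5) (Ne.symm i5)
  have neb : ¬ IsConj e (a * e) := fun h => (hE _ hae h).elim (Ne.symm e5) (Ne.symm f5)
  have hprod : ∀ x y c : G, x ∈ (X.S : Subgroup G) → x ≠ 1 → y ∈ (X.S : Subgroup G) →
      ¬ IsConj x y → c ∈ (X.S : Subgroup G) → c ≠ 1 → ∀ p q : G, IsConj x p → IsConj y q → p * q = c →
      p ∈ (X.S : Subgroup G) ∧ q ∈ (X.S : Subgroup G) := by
    intro x y c hx hx1 hy hxy hc hc1 p q hp hq hpq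
    have hp3 : p ^ 3 = 1 := by
      obtain ⟨g, rfl⟩ := isConj_iff.1 hp
      rw [conj_pow, X.cube x hx]; group
    have hq3 : q ^ 3 = 1 := by
      obtain ⟨g, rfl⟩ := isConj_iff.1 hq
      rw [conj_pow, X.cube y hy]; group
    have hcc := X.comm_of_product hp3 hq3 (by rw [hpq]; exact X.cube c hc)
      (Or.inl fun e => hxy ((hp.trans e).trans hq.symm))
    have hpS : p ∈ (X.S : Subgroup G) := X.mem_of_cube hc hc1 (by
      rw [← hpq]; simp only [mul_assoc]; rw [hcc]) hp3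
    refine ⟨hpS, ?_⟩
    rw [show q = p⁻¹ * c by rw [← hpq]; group]
    exact mul_mem (inv_mem hpS) hc
  have haa : a * a = a⁻¹ := eq_inv_of_mul_eq_one_left (by rw [← X.cube a ha]; simp [pow_succ, mul_assoc])
  have hee : e * e = e⁻¹ := eq_inv_of_mul_eq_one_left (by rw [← X.cube e he]; simp [pow_succ, mul_assoc])
  -- the five counts
  have c1 : ((classFinset a ×ˢ classFinset e).filter fun p => p.1 * p.2 = a).card = 0 := by
    rw [Finset.card_eq_zero, Finset.filter_eq_empty_iff]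
    rintro ⟨p, q⟩ hpq hmul
    rw [Finset.mem_product, mem_classFinset, mem_classFinset] at hpq
    obtain ⟨hp, hq⟩ := hprod a e a ha ha1 he nae ha ha1 p q hpq.1 hpq.2 hmul
    have hv : q = p⁻¹ * a := by rw [← hmul]; group
    rcases hA p hp hpq.1 with rfl | rfl
    · rw [inv_mul_cancel] at hv
      rcases hE q hq hpq.2 with rfl | rfl
      · exact o3 hv.symm
      · exact o4 hv.symm
    · rw [inv_inv, haa] at hv
      rcases hE q hq hpq.2 with rfl | rfl
      · exact i3 hv.symm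
      · exact i4 hv.symm
  have c2 : ((classFinset a ×ˢ classFinset (a * e)).filter fun p => p.1 * p.2 = a).card = 0 := by
    rw [Finset.card_eq_zero, Finset.filter_eq_empty_iff]
    rintro ⟨p, q⟩ hpq hmul
    rw [Finset.mem_product, mem_classFinset, mem_classFinset] at hpq
    obtain ⟨hp, hq⟩ := hprod a (a * e) a ha ha1 hae nab ha ha1 p q hpq.1 hpq.2 hmul
    have hv : q = p⁻¹ * a := by rw [← hmul]; group
    rcases hA p hp hpq.1 with rfl | rfl
    · rw [inv_mul_cancel] at hv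
      rcases hB q hq hpq.2 with rfl | rfl | rfl | rfl
      exacts [o5 hv.symm, o6 hv.symm, o7 hv.symm, o8 hv.symm]
    · rw [inv_inv, haa] at hv
      rcases hB q hq hpq.2 with rfl | rfl | rfl | rfl
      exacts [i5 hv.symm, i6 hv.symm, i7 hv.symm, i8 hv.symm]
  have cflip₁ : IsConj (a * e) (a⁻¹ * e) := isConj_iff.2 ⟨r₂, by rw [← conj_mul, hr₂a, hr₂e]⟩
  have cflip₂ : IsConj (a * e) (a * e⁻¹) := isConj_iff.2 ⟨r₁, by rw [← conj_mul, hr₁a, hr₁e]⟩
  have ainv : IsConj a a⁻¹ := isConj_iff.2 ⟨z, hz a ha⟩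
  have einv : IsConj e e⁻¹ := isConj_iff.2 ⟨z, hz e he⟩
  have c3 : ((classFinset a ×ˢ classFinset e).filter fun p => p.1 * p.2 = a * e).card = 1 := by
    refine Finset.card_eq_one.2 ⟨(a, e), Finset.eq_singleton_iff_unique_mem.2 ⟨?_, ?_⟩⟩
    · simp only [Finset.mem_filter, Finset.mem_product, mem_classFinset]
      exact ⟨⟨IsConj.refl a, IsConj.refl e⟩, trivial⟩
    rintro ⟨p, q⟩ h
    simp only [Finset.mem_filter, Finset.mem_product, mem_classFinset] at h
    obtain ⟨⟨h1, h2⟩, hmul⟩ := h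
    obtain ⟨hp, hq⟩ := hprod a e _ ha ha1 he nae hae hb1 p q h1 h2 hmul
    have hv : q = p⁻¹ * (a * e) := by rw [← hmul]; group
    rcases hA p hp h1 with rfl | rfl
    · rw [inv_mul_cancel_left] at hv
      rw [hv]
    · rw [inv_inv, ← mul_assoc, haa, ← hinv₂] at hv
      rcases hE q hq h2 with rfl | rfl
      · exact absurd hv e8
      · exact absurd hv f8
  have c4 : ((classFinset a ×ˢ classFinset (a * e)).filter fun p => p.1 * p.2 = a * e).card = 1 := by
    refine Finset.card_eq_one.2 ⟨(a⁻¹, a⁻¹ * e), Finset.eq_singleton_iff_unique_mem.2 ⟨?_, ?_⟩⟩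
    · simp only [Finset.mem_filter, Finset.mem_product, mem_classFinset]
      refine ⟨⟨ainv, cflip₁⟩, ?_⟩
      rw [← mul_assoc, show a⁻¹ * a⁻¹ = a by rw [← mul_inv_rev, haa, inv_inv]]
    rintro ⟨p, q⟩ h
    simp only [Finset.mem_filter, Finset.mem_product, mem_classFinset] at h
    obtain ⟨⟨h1, h2⟩, hmul⟩ := h
    obtain ⟨hp, hq⟩ := hprod a _ _ ha ha1 hae nab hae hb1 p q h1 h2 hmul
    have hv : q = p⁻¹ * (a * e) := by rw [← hmul]; group
    rcases hA p hp h1 with rfl | rfl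
    · rw [inv_mul_cancel_left] at hv
      exact absurd (hv ▸ h2).symm neb
    · rw [inv_inv, ← mul_assoc, haa] at hv
      rw [hv]
  have c5 : ((classFinset e ×ˢ classFinset (a * e)).filter fun p => p.1 * p.2 = a * e).card = 1 := by
    refine Finset.card_eq_one.2 ⟨(e⁻¹, a * e⁻¹), Finset.eq_singleton_iff_unique_mem.2 ⟨?_, ?_⟩⟩
    · simp only [Finset.mem_filter, Finset.mem_product, mem_classFinset]
      refine ⟨⟨einv, cflip₂⟩, ?_⟩
      rw [X.comm ha (inv_mem he), ← mul_assoc, show e⁻¹ * e⁻¹ = e by rw [← mul_inv_rev, hee, inv_inv], hcm]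
    rintro ⟨p, q⟩ h
    simp only [Finset.mem_filter, Finset.mem_product, mem_classFinset] at h
    obtain ⟨⟨h1, h2⟩, hmul⟩ := h
    obtain ⟨hp, hq⟩ := hprod e _ _ he he1 hae neb hae hb1 p q h1 h2 hmul
    have hv : q = p⁻¹ * (a * e) := by rw [← hmul]; group
    rcases hE p hp h1 with rfl | rfl
    · rw [hcm, inv_mul_cancel_left] at hv
      exact absurd (hv ▸ h2).symm nab
    · rw [inv_inv, hcm, ← mul_assoc, hee, ← X.comm ha (inv_mem he)] at hv
      rw [hv]
  -- the columns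
  let o : IrrCharacter G := ⟨fun _ => 1, isIrrCharacter_one⟩
  choose dn hdn0 hdn using fun χ : IrrCharacter G => χ.2.exists_degree
  set d : IrrCharacter G → ℤ := fun χ => (dn χ : ℤ) with hddef
  have hd : ∀ χ : IrrCharacter G, (χ : G → ℂ) 1 = d χ := fun χ => by simp [hddef, hdn χ]
  have h0 : ∀ {s : G} {u : IrrCharacter G → ℤ}, (∀ χ : IrrCharacter G, (χ : G → ℂ) s = u χ) → u o = 1 := by
    intro s u hu
    have : ((1 : ℤ) : ℂ) = (u o : ℂ) := by rw [← hu o]; simp [o]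
    exact_mod_cast this.symm
  have hd2 : ∀ χ, χ ≠ o → d χ ≠ 0 := fun χ _ => by
    have := hdn0 χ
    simp only [hddef]
    omega
  have hsq : ∑ χ, d χ * d χ = (Nat.card G : ℤ) := by
    have h := sum_sq_degree (G := G)
    have : ((∑ χ, d χ * d χ : ℤ) : ℂ) = (((Nat.card G : ℕ) : ℤ) : ℂ) := by
      push_cast
      refine Eq.trans (Finset.sum_congr rfl fun χ _ => ?_) h
      rw [hd χ]; ring
    exact_mod_cast this
  choose u hu using X.column (hz a ha) ha ha1
  choose v hv using X.column (hz e he) he he1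
  choose w hw using X.column (hz _ hae) hae hb1
  obtain ⟨huu, huv⟩ := column_gram nae hca hu hv
  obtain ⟨-, huw⟩ := column_gram nab hca hu hw
  obtain ⟨hvv, hvw⟩ := column_gram neb hce hv hw
  obtain ⟨hww, hwd⟩ := column_gram (fun h => hb1 (isConj_one_left.1 h)) hcb hw hd
  obtain ⟨-, hud⟩ := column_gram (fun h => ha1 (isConj_one_left.1 h)) hca hu hd
  obtain ⟨-, hvd⟩ := column_gram (fun h => he1 (isConj_one_left.1 h)) hce hv hd
  have hmod : ∀ {s : G} {x : IrrCharacter G → ℤ}, s ∈ (X.S : Subgroup G) →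
      (∀ χ : IrrCharacter G, (χ : G → ℂ) s = x χ) → ∀ χ, d χ % 3 = x χ % 3 := fun {s x} hs hx χ =>
    modEq_degree_of_prime_pow χ.2.isCharacter (x := s) (p := 3) (k := 1) Nat.prime_three
      (by rw [pow_one]; exact X.cube s hs) (hx χ) (hdn χ)
  refine order_of_klein (o := o) (u := u) (v := v) (w := w) (d := d) (h0 hu) (h0 hw) (h0 hd) hd2
    (fun χ => (hmod ha hu χ).symm.trans (hmod hae hw χ)) (fun χ => (hmod he hv χ).symm.trans (hmod hae hw χ))
    (fun χ => ?_) huu hvv hww huv huw hvw ((Finset.sum_congr rfl fun χ _ => mul_comm _ _).trans hud)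
    ((Finset.sum_congr rfl fun χ _ => mul_comm _ _).trans hvd)
    ((Finset.sum_congr rfl fun χ _ => mul_comm _ _).trans hwd) hsq
    ((class_equation hca hce hu hv hu hd c1).trans (by norm_num))
    ((class_equation hca hcb hu hw hu hd c2).trans (by norm_num))
    ((class_equation hca hce hu hv hw hd c3).trans (by norm_num))
    ((class_equation hca hcb hu hw hw hd c4).trans (by norm_num))
    ((class_equation hce hcb hv hw hw hd c5).trans (by norm_num))
  haveI := Fintype.ofFinite ↥(X.S : Subgroup G)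
  obtain ⟨k, hk⟩ := ((χ.2.isCharacter.comp (X.S : Subgroup G).subtype).isGeneralized
    |>.exists_int_classInner (isCharacter_one (G := ↥(X.S : Subgroup G))).isGeneralized :
      ∃ k : ℤ, classInner (fun m : ↥(X.S : Subgroup G) => (χ : G → ℂ) m) (fun _ => 1) = k)
  simp only [Subgroup.coe_subtype] at hk
  rw [classInner_one_right, X.card_S,
    ← Finset.sum_subtype (Finset.univ.filter fun x => x ∈ (X.S : Subgroup G)) (fun x => by simp)
      (fun x => (χ : G → ℂ) x), hfilter] at hk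
  have hc : ∀ {x y : G}, IsConj x y → (χ : G → ℂ) y = (χ : G → ℂ) x := fun {x y} h => by
    obtain ⟨g, rfl⟩ := isConj_iff.1 h
    exact χ.2.isClassFunction _ _
  have hsum : ∑ x ∈ ({1, a, a⁻¹, e, e⁻¹, a * e, (a * e)⁻¹, a * e⁻¹, (a * e⁻¹)⁻¹} : Finset G), (χ : G → ℂ) x =
      (d χ : ℂ) + 2 * u χ + 2 * v χ + 4 * w χ := by
    rw [Finset.sum_insert, Finset.sum_insert, Finset.sum_insert, Finset.sum_insert, Finset.sum_insert,
      Finset.sum_insert, Finset.sum_insert, Finset.sum_pair]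
    · rw [hd χ, hc ainv, hc einv, hc (isConj_iff.2 ⟨z, hz _ hae⟩ : IsConj (a * e) (a * e)⁻¹), hc cflip₂,
        hc (hinv₂ ▸ cflip₁ : IsConj (a * e) (a * e⁻¹)⁻¹), hu χ, hv χ, hw χ]
      ring
    all_goals try simp only [Finset.mem_insert, Finset.mem_singleton, not_or]
    all_goals first
      | assumption
      | exact ⟨o1, o2, o3, o4, o5, o6, o7, o8⟩
      | exact ⟨a2, a3, a4, a5, a6, a7, a8⟩
      | exact ⟨i3, i4, i5, i6, i7, i8⟩
      | exact ⟨e4, e5, e6, e7, e8⟩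
      | exact ⟨f5, f6, f7, f8⟩
      | exact ⟨p6, p7, p8⟩
      | exact ⟨q7, q8⟩
  rw [hsum] at hk
  have h9 : ((d χ + 2 * u χ + 2 * v χ + 4 * w χ : ℤ) : ℂ) = ((9 * k : ℤ) : ℂ) := by
    push_cast
    rw [← hk]; push_cast; ring
  have h9' : d χ + 2 * u χ + 2 * v χ + 4 * w χ = 9 * k := by exact_mod_cast h9
  omega

end Cfsg.Lib.Recog.NineSC
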