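import Cfsg.Agent.Lib.Recog.NineSC.SixReduce
import Cfsg.Agent.Lib.Recog.NineSC.KleinMain
import Cfsg.Agent.Lib.Recog.NineSC.AltConj

/-!
# The symmetric group of degree six from the local data at the prime three
-/

set_option autoImplicit false
set_option linter.style.haveILetI false
set_option linter.unusedSectionVars false

namespace Cfsg.Lib.Recog.NineSC

open Subgroup

universe u

variable {G : Type u} [Group G] [Finite G] (X : SixHyp G)

/-- The Sylow subgroup inside `M`. -/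
noncomputable def SixHyp.SM : Sylow 3 X.M := X.S.subtype X.le_M

theorem SixHyp.mem_SM {m : X.M} : m ∈ (X.SM : Subgroup X.M) ↔ (m : G) ∈ (X.S : Subgroup G) := by
  rw [SixHyp.SM, Sylow.coe_subtype, mem_subgroupOf]

theorem SixHyp.card_SM : Nat.card ↥(X.SM : Subgroup X.M) = 9 := by
  rw [SixHyp.SM, Sylow.coe_subtype, Nat.card_congr (subgroupOfEquivOfLe X.le_M).toEquiv, X.card_S]

theorem SixHyp.mem_normalizer_SM {m : X.M} :
    m ∈ Subgroup.normalizer ((X.SM : Subgroup X.M) : Set X.M) ↔ (m : G) ∈ X.N := by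
  rw [mem_normalizer_iff, mem_normalizer_iff]
  constructor
  · intro h x
    constructor
    · intro hx
      simpa [X.mem_SM] using (h ⟨x, X.le_M hx⟩).1 (X.mem_SM.2 hx)
    · intro hx
      have hxM : x ∈ X.M := by
        have := mul_mem (mul_mem (inv_mem m.2) (X.le_M hx)) m.2
        simpa [mul_assoc] using this
      exact X.mem_SM.1 ((h ⟨x, hxM⟩).2 (X.mem_SM.2 hx))
  · intro h x
    simpa [X.mem_SM] using h (x : G)

/-- The data inside `M`. -/
noncomputable def SixHyp.looseM : Loose X.M where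
  S := X.SM
  card_S := X.card_SM
  cube s hs := Subtype.ext (by simpa using X.cube _ (X.mem_SM.1 hs))
  comm {a b} ha hb := Subtype.ext (X.comm (X.mem_SM.1 ha) (X.mem_SM.1 hb))
  cent_le s hs hs1 := fun x hx => X.mem_normalizer_SM.2 (X.cent_le _ (X.mem_SM.1 hs)
    (fun h => hs1 (Subtype.ext h))
    (mem_centralizer_singleton_iff.2 (congrArg Subtype.val (mem_centralizer_singleton_iff.1 hx))))

theorem SixHyp.isConj_coe {x y : X.M} (h : IsConj x y) : IsConj (x : G) (y : G) := by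
  obtain ⟨m, rfl⟩ := isConj_iff.1 h
  exact isConj_iff.2 ⟨m, rfl⟩

theorem SixHyp.M_notComm (hnn : ¬ (X.S : Subgroup G).Normal) : ¬ IsMulCommutative X.M := by
  intro h
  refine hnn ⟨fun s hs g => ?_⟩
  obtain ⟨m, hm, n, hn, rfl⟩ := X.exists_M_N g
  have h2 := X.conj_mem hn hs
  have h3 : m * (n * s * n⁻¹) = (n * s * n⁻¹) * m :=
    congrArg Subtype.val (mul_comm' (⟨m, hm⟩ : X.M) ⟨_, X.le_M h2⟩)
  rwa [show m * n * s * (m * n)⁻¹ = m * (n * s * n⁻¹) * m⁻¹ by group, mul_inv_eq_iff_eq_mul.2 h3]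

theorem SixHyp.not_N_le_M (hnn : ¬ (X.S : Subgroup G).Normal) (hns : ¬ IsSimpleGroup G) : ¬ X.N ≤ X.M := by
  intro h
  refine hns ?_
  have htop : X.M = ⊤ := by
    rw [eq_top_iff]
    intro g _
    obtain ⟨m, hm, n, hn, rfl⟩ := X.exists_M_N g
    exact mul_mem hm (h hn)
  haveI := X.simple hnn
  exact ((MulEquiv.subgroupCongr htop).trans Subgroup.topEquiv).symm.isSimpleGroup

theorem SixHyp.commutator_mem (hnn : ¬ (X.S : Subgroup G).Normal) (hns : ¬ IsSimpleGroup G) {h k : G}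
    (hh : h ∈ X.N) (hhM : h ∈ X.M) (hk : k ∈ X.N) (hkM : k ∈ X.M) : h * k * h⁻¹ * k⁻¹ ∈ (X.S : Subgroup G) := by
  by_contra hc
  exact X.not_N_le_M hnn hns ((X.two_gen (X.N ⊓ X.M) (le_inf Subgroup.le_normalizer X.le_M) inf_le_left
    ⟨h, mem_inf.2 ⟨hh, hhM⟩, k, mem_inf.2 ⟨hk, hkM⟩, hc⟩).trans inf_le_right)

/-- The actions on `S` of two elements of `N ∩ M` commute. -/
theorem SixHyp.act_comm (hnn : ¬ (X.S : Subgroup G).Normal) (hns : ¬ IsSimpleGroup G) {h k : G}
    (hh : h ∈ X.N) (hhM : h ∈ X.M) (hk : k ∈ X.N) (hkM : k ∈ X.M) {s : G} (hs : s ∈ (X.S : Subgroup G)) :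
    h * (k * s * k⁻¹) * h⁻¹ = k * (h * s * h⁻¹) * k⁻¹ := by
  have hc := X.commutator_mem hnn hns hh hhM hk hkM
  have hmem : k * (h * s * h⁻¹) * k⁻¹ ∈ (X.S : Subgroup G) := X.conj_mem hk (X.conj_mem hh hs)
  calc h * (k * s * k⁻¹) * h⁻¹
      = (h * k * h⁻¹ * k⁻¹) * (k * (h * s * h⁻¹) * k⁻¹) * (h * k * h⁻¹ * k⁻¹)⁻¹ := by group
    _ = k * (h * s * h⁻¹) * k⁻¹ := mul_inv_eq_iff_eq_mul.2 (X.comm hc hmem)

/-- An element outside `S` fixing a nontrivial element inverts a complementary line. -/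
theorem SixHyp.exists_inverted {a r : G} (ha : a ∈ (X.S : Subgroup G)) (ha1 : a ≠ 1) (hr : r ∈ X.N)
    (hra : r * a * r⁻¹ = a) (hrS : r ∉ (X.S : Subgroup G)) :
    ∃ f ∈ (X.S : Subgroup G), f ∉ zpowers a ∧ r * f * r⁻¹ = f⁻¹ := by
  obtain ⟨e, he, hea⟩ := X.toLoose.exists_basis ha
  have haj : ∀ j : ℤ, r * a ^ j * r⁻¹ = a ^ j := fun j => by rw [← conj_zpow, hra]
  rcases X.decompose ha ha1 he hea (X.conj_mem hr he) with h | ⟨j, h | h⟩
  · exfalso
    refine hea ?_
    obtain ⟨l, hl⟩ := mem_zpowers_iff.1 h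
    have : e = r⁻¹ * a ^ l * r := by rw [hl]; group
    rw [this]
    nth_rewrite 1 [← haj l]
    simpa [mul_assoc] using zpow_mem (mem_zpowers a) l
  · exfalso
    refine hrS ?_
    have hr3 : r * r * r ∈ (X.S : Subgroup G) := by
      refine X.mem_of_centralizes fun s hs => ?_
      have he3 : r * r * r * e * (r * r * r)⁻¹ = e := by
        calc r * r * r * e * (r * r * r)⁻¹ = r * (r * (r * e * r⁻¹) * r⁻¹) * r⁻¹ := by group
          _ = r * (r * (e * a ^ j) * r⁻¹) * r⁻¹ := by rw [h]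
          _ = r * ((r * e * r⁻¹) * (r * a ^ j * r⁻¹)) * r⁻¹ := by group
          _ = r * (e * a ^ j * a ^ j) * r⁻¹ := by rw [h, haj]
          _ = (r * e * r⁻¹) * (r * a ^ j * r⁻¹) * (r * a ^ j * r⁻¹) := by group
          _ = e * (a ^ j) ^ 3 := by rw [h, haj]; simp [pow_succ, mul_assoc]
          _ = e := by rw [X.cube _ (zpow_mem ha j), mul_one]
      have ha3 : ∀ i : ℤ, r * r * r * a ^ i * (r * r * r)⁻¹ = a ^ i := fun i => by
        calc r * r * r * a ^ i * (r * r * r)⁻¹ = r * (r * (r * a ^ i * r⁻¹) * r⁻¹) * r⁻¹ := by group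
          _ = a ^ i := by rw [haj, haj, haj]
      rcases X.decompose ha ha1 he hea hs with h' | ⟨i, rfl | rfl⟩
      · obtain ⟨i, rfl⟩ := mem_zpowers_iff.1 h'
        exact ha3 i
      · rw [← conj_mul, he3, ha3]
      · rw [← conj_mul, ha3, ← conj_inv, he3]
    have h4 := X.four r hr
    have : r = (r * r * r)⁻¹ * (r * r * (r * r)) := by group
    rw [this]
    exact mul_mem (inv_mem hr3) h4
  · refine ⟨e * a ^ j, mul_mem he (zpow_mem ha j), fun hh => hea (by
      simpa using mul_mem hh (inv_mem (zpow_mem (mem_zpowers a) j))), ?_⟩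
    rw [← conj_mul, h, haj, mul_assoc, mul_inv_rev, X.comm (inv_mem (zpow_mem ha j)) (inv_mem he)]
    congr 1
    refine eq_inv_of_mul_eq_one_left ?_
    have := X.cube _ (zpow_mem ha j)
    rwa [pow_succ, pow_two] at this

/-- The case where some element of `M` outside `S` fixes a nontrivial element of `S` does not occur. -/
theorem SixHyp.free (hnn : ¬ (X.S : Subgroup G).Normal) (hns : ¬ IsSimpleGroup G) {a r : G}
    (ha : a ∈ (X.S : Subgroup G)) (ha1 : a ≠ 1) (hrM : r ∈ X.M) (hra : r * a = a * r) : r ∈ (X.S : Subgroup G) := by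
  classical
  by_contra hrS
  haveI := X.simple hnn
  have hM : X.M.Normal := Subgroup.normalClosure_normal
  have hrN : r ∈ X.N := X.cent_le a ha ha1 (mem_centralizer_singleton_iff.2 hra)
  have hra' : r * a * r⁻¹ = a := mul_inv_eq_iff_eq_mul.2 hra
  obtain ⟨f, hf, hfa, hrf⟩ := X.exists_inverted ha ha1 hrN hra' hrS
  have hf1 : f ≠ 1 := fun h => hfa (h ▸ one_mem _)
  obtain ⟨n, hn, hna⟩ := X.exists_moved ha ha1
  set r' := n * r * n⁻¹ with hr'
  have hr'N : r' ∈ X.N := mul_mem (mul_mem hn hrN) (inv_mem hn)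
  have hr'M : r' ∈ X.M := hM.conj_mem r hrM n
  have hfix : ∀ x ∈ (X.S : Subgroup G), r * x * r⁻¹ = x → x ∈ zpowers a := by
    intro x hx h
    rcases X.decompose ha ha1 hf hfa hx with h' | ⟨j, rfl | rfl⟩
    · exact h'
    · exfalso
      rw [← conj_mul, hrf, ← conj_zpow, hra'] at h
      have h2 : f⁻¹ = f := mul_right_cancel h
      have h3 := X.cube f hf
      have : f * f = 1 := by nth_rewrite 1 [← h2]; exact inv_mul_cancel f
      rw [pow_succ, pow_two, this, one_mul] at h3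
      exact hf1 h3
    · exfalso
      rw [← conj_mul, ← conj_inv, hrf, ← conj_zpow, hra', inv_inv] at h
      have h2 : f = f⁻¹ := mul_right_cancel h
      have h3 := X.cube f hf
      have : f * f = 1 := by nth_rewrite 1 [h2]; exact inv_mul_cancel f
      rw [pow_succ, pow_two, this, one_mul] at h3
      exact hf1 h3
  have hinv : ∀ x ∈ (X.S : Subgroup G), r * x * r⁻¹ = x⁻¹ → x = 1 ∨ x = f ∨ x = f⁻¹ := by
    intro x hx h
    have key : ∀ j : ℤ, a ^ j * a ^ j = 1 → a ^ j = 1 := fun j hj => by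
      have h3 := X.cube _ (zpow_mem ha j)
      rwa [pow_succ, pow_two, hj, one_mul] at h3
    rcases X.decompose ha ha1 hf hfa hx with h' | ⟨j, rfl | rfl⟩
    · obtain ⟨j, rfl⟩ := mem_zpowers_iff.1 h'
      rw [← conj_zpow, hra'] at h
      exact Or.inl (key j (eq_inv_iff_mul_eq_one.1 h))
    · rw [← conj_mul, hrf, ← conj_zpow, hra', mul_inv_rev,
        X.comm (inv_mem (zpow_mem ha j)) (inv_mem hf)] at h
      refine Or.inr (Or.inl ?_)
      rw [key j (eq_inv_iff_mul_eq_one.1 (mul_left_cancel h)), mul_one]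
    · rw [← conj_mul, ← conj_inv, hrf, ← conj_zpow, hra', mul_inv_rev, inv_inv,
        X.comm (inv_mem (zpow_mem ha j)) hf] at h
      refine Or.inr (Or.inr ?_)
      rw [key j (eq_inv_iff_mul_eq_one.1 (mul_left_cancel h)), mul_one]
  -- every element of `N ∩ M` respects the two lines
  have hact : ∀ h ∈ X.N, h ∈ X.M → (h * a * h⁻¹ = a ∨ h * a * h⁻¹ = a⁻¹) ∧ (h * f * h⁻¹ = f ∨ h * f * h⁻¹ = f⁻¹) := by
    intro h hhN hhM
    constructor
    · have h1 := X.act_comm hnn hns hrN hrM hhN hhM ha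
      rw [hra'] at h1
      rcases cube_cases (X.cube a ha) (hfix _ (X.conj_mem hhN ha) h1) with k | k | k
      · exact absurd (conj_eq_one_iff.1 k) ha1
      · exact Or.inl k
      · exact Or.inr k
    · have h1 := X.act_comm hnn hns hrN hrM hhN hhM hf
      rw [hrf, ← conj_inv] at h1
      rcases hinv _ (X.conj_mem hhN hf) h1 with k | k | k
      · exact absurd (conj_eq_one_iff.1 k) hf1
      · exact Or.inl k
      · exact Or.inr k
  have hfixS : ∀ h ∈ X.N, h * a * h⁻¹ = a → h * f * h⁻¹ = f → h ∈ (X.S : Subgroup G) := by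
    intro h _ h1 h2
    refine X.mem_of_centralizes fun s hs => ?_
    rcases X.decompose ha ha1 hf hfa hs with h' | ⟨j, rfl | rfl⟩
    · obtain ⟨j, rfl⟩ := mem_zpowers_iff.1 h'
      rw [← conj_zpow, h1]
    · rw [← conj_mul, h2, ← conj_zpow, h1]
    · rw [← conj_mul, ← conj_inv, h2, ← conj_zpow, h1]
  -- the action of `r'`
  have hr'fix : r' * (n * a * n⁻¹) * r'⁻¹ = n * a * n⁻¹ := by
    rw [hr', show n * r * n⁻¹ * (n * a * n⁻¹) * (n * r * n⁻¹)⁻¹ = n * (r * a * r⁻¹) * n⁻¹ by group, hra']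
  obtain ⟨hr'a, hr'f⟩ : r' * a * r'⁻¹ = a⁻¹ ∧ r' * f * r'⁻¹ = f := by
    obtain ⟨h1, h2⟩ := hact r' hr'N hr'M
    have sq1 : ∀ z ∈ (X.S : Subgroup G), z⁻¹ = z → z = 1 := fun z hz hzi => by
      have h3 := X.cube z hz
      have : z * z = 1 := by nth_rewrite 1 [← hzi]; exact inv_mul_cancel z
      rwa [pow_succ, pow_two, this, one_mul] at h3
    have hnS : r' ∉ (X.S : Subgroup G) := fun h => hrS ((mem_normalizer_iff.1 hn r).2 h)
    have hne1 : n * a * n⁻¹ ≠ 1 := fun h => ha1 (conj_eq_one_iff.1 h)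
    rcases X.decompose ha ha1 hf hfa (X.conj_mem hn ha) with h' | ⟨j, hj | hj⟩
    · exact absurd h' hna
    all_goals
      rw [hj] at hr'fix
      rcases h1 with h1 | h1 <;> rcases h2 with h2 | h2
      · exact absurd (hfixS r' hr'N h1 h2) hnS
      · exfalso
        first
          | (rw [← conj_mul, h2, ← conj_zpow, h1] at hr'fix
             exact hf1 (sq1 f hf (mul_right_cancel hr'fix)))
          | (rw [← conj_mul, ← conj_inv, h2, ← conj_zpow, h1, inv_inv] at hr'fix
             exact hf1 (sq1 f hf (mul_right_cancel hr'fix).symm))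
      · exact ⟨h1, h2⟩
      · exfalso
        rw [← hj] at hr'fix
        refine hne1 (sq1 _ (X.conj_mem hn ha) ?_)
        nth_rewrite 2 [← hr'fix]
        rw [hj]
        simp only [← conj_mul, ← conj_inv, ← conj_zpow, h1, h2, mul_inv_rev, inv_zpow, inv_inv]
        first
          | exact X.comm (inv_mem (zpow_mem ha j)) (inv_mem hf)
          | exact X.comm (inv_mem (zpow_mem ha j)) hf
  -- inside `M`
  set A : X.M := ⟨a, X.le_M ha⟩ with hA
  set F : X.M := ⟨f, X.le_M hf⟩ with hF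
  have hz : ∀ s ∈ (X.S : Subgroup G), (r * r') * s * (r * r')⁻¹ = s⁻¹ := by
    have za : (r * r') * a * (r * r')⁻¹ = a⁻¹ := by
      rw [show (r * r') * a * (r * r')⁻¹ = r * (r' * a * r'⁻¹) * r⁻¹ by group, hr'a, ← conj_inv, hra']
    have zf : (r * r') * f * (r * r')⁻¹ = f⁻¹ := by
      rw [show (r * r') * f * (r * r')⁻¹ = r * (r' * f * r'⁻¹) * r⁻¹ by group, hr'f, hrf]
    intro s hs
    rcases X.decompose ha ha1 hf hfa hs with h' | ⟨j, rfl | rfl⟩
    · obtain ⟨j, rfl⟩ := mem_zpowers_iff.1 h'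
      rw [← conj_zpow, za, inv_zpow]
    · rw [← conj_mul, zf, ← conj_zpow, za, inv_zpow, mul_inv_rev, X.comm (inv_mem hf) (inv_mem (zpow_mem ha j))]
    · rw [← conj_mul, ← conj_inv, zf, ← conj_zpow, za, inv_zpow, mul_inv_rev,
        X.comm (inv_mem (inv_mem hf)) (inv_mem (zpow_mem ha j))]
  have hmemF : F ∉ zpowers A := fun h => by
    obtain ⟨j, hj⟩ := mem_zpowers_iff.1 h
    exact hfa (mem_zpowers_iff.2 ⟨j, congrArg Subtype.val hj⟩)
  have hcard18 : ∀ {u v t : G}, u ∈ (X.S : Subgroup G) → u ≠ 1 → t ∈ X.M → t * u * t⁻¹ = u →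
      t * v * t⁻¹ = v⁻¹ → v ∈ (X.S : Subgroup G) → v ≠ 1 →
      (∀ h ∈ X.N, h ∈ X.M → h * u * h⁻¹ = u → h * v * h⁻¹ = v → h ∈ (X.S : Subgroup G)) →
      (∀ h ∈ X.N, h ∈ X.M → h * v * h⁻¹ = v ∨ h * v * h⁻¹ = v⁻¹) →
      ∀ U : X.M, (U : G) = u → Nat.card (Subgroup.centralizer ({U} : Set X.M)) = 18 := by
    intro u v t hu hu1 htM htu htv hv hv1 hboth hv2 U hU
    haveI := Fintype.ofFinite X.M
    set T : X.M := ⟨t, htM⟩
    have htN : t ∈ X.N := X.cent_le u hu hu1 (mem_centralizer_singleton_iff.2 (mul_inv_eq_iff_eq_mul.1 htu))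
    have hset : ((Subgroup.centralizer ({U} : Set X.M) : Subgroup X.M) : Set X.M) =
        ((X.SM : Subgroup X.M) : Set X.M) ∪ (fun s => T * s) '' ((X.SM : Subgroup X.M) : Set X.M) := by
      ext x
      rw [SetLike.mem_coe, mem_centralizer_singleton_iff, Set.mem_union, SetLike.mem_coe]
      constructor
      · intro h
        have hxu : (x : G) * u = u * x := hU ▸ congrArg Subtype.val h
        have hxN : (x : G) ∈ X.N := X.cent_le u hu hu1 (mem_centralizer_singleton_iff.2 hxu)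
        rcases hv2 _ hxN x.2 with k | k
        · exact Or.inl (X.mem_SM.2 (hboth _ hxN x.2 (mul_inv_eq_iff_eq_mul.2 hxu) k))
        · refine Or.inr ⟨T⁻¹ * x, X.mem_SM.2 (hboth _ (mul_mem (inv_mem htN) hxN) (mul_mem (inv_mem htM) x.2) ?_ ?_),
            mul_inv_cancel_left T x⟩
          · show (t⁻¹ * (x : G)) * u * (t⁻¹ * (x : G))⁻¹ = u
            rw [show t⁻¹ * x * u * (t⁻¹ * x)⁻¹ = t⁻¹ * (x * u * (x : G)⁻¹) * t by group,
              mul_inv_eq_iff_eq_mul.2 hxu]
            calc t⁻¹ * u * t = t⁻¹ * (t * u * t⁻¹) * t := by rw [htu]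
              _ = u := by group
          · show (t⁻¹ * (x : G)) * v * (t⁻¹ * (x : G))⁻¹ = v
            rw [show t⁻¹ * x * v * (t⁻¹ * x)⁻¹ = t⁻¹ * (x * v * (x : G)⁻¹) * t by group, k, ← htv]
            group
      · rintro (h | ⟨s, hs, rfl⟩)
        · exact Subtype.ext (show (x : G) * U = U * x by rw [hU]; exact X.comm (X.mem_SM.1 h) hu)
        · refine Subtype.ext (show t * s * (U : G) = U * (t * s) from ?_)
          rw [hU, mul_assoc, X.comm (X.mem_SM.1 hs) hu, ← mul_assoc, mul_inv_eq_iff_eq_mul.1 htu, mul_assoc]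
    have hdis : Disjoint ((X.SM : Subgroup X.M) : Set X.M)
        ((fun s => T * s) '' ((X.SM : Subgroup X.M) : Set X.M)) := by
      rw [Set.disjoint_left]
      rintro _ h ⟨s, hs, rfl⟩
      have hT := X.mem_SM.1 ((Subgroup.mul_mem_cancel_right _ hs).1 h)
      have h2 : v = v⁻¹ := by rw [← htv, mul_inv_eq_iff_eq_mul.2 (X.comm hT hv)]
      have h3 := X.cube v hv
      have : v * v = 1 := by nth_rewrite 1 [h2]; exact inv_mul_cancel v
      rw [pow_succ, pow_two, this, one_mul] at h3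
      exact hv1 h3
    show Nat.card ↥((Subgroup.centralizer ({U} : Set X.M) : Subgroup X.M) : Set X.M) = 18
    rw [hset, Nat.card_coe_set_eq, Set.ncard_union_eq hdis (Set.toFinite _) (Set.toFinite _),
      Set.ncard_image_of_injective _ (mul_right_injective T), ← Nat.card_coe_set_eq]
    exact congrArg (fun k => k + k) X.card_SM
  have hcb : Nat.card (Subgroup.centralizer ({A * F} : Set X.M)) = 9 := by
    rw [show Subgroup.centralizer ({A * F} : Set X.M) = (X.SM : Subgroup X.M) from ?_, X.card_SM]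
    ext x
    rw [mem_centralizer_singleton_iff, X.mem_SM]
    constructor
    · intro h
      have hx : (x : G) * (a * f) = (a * f) * x := congrArg Subtype.val h
      have hxN : (x : G) ∈ X.N := X.cent_le _ (mul_mem ha hf)
        (fun e => hfa (by rw [eq_inv_of_mul_eq_one_right e]; exact inv_mem (mem_zpowers a)))
        (mem_centralizer_singleton_iff.2 hx)
      have hx' : (x : G) * a * (x : G)⁻¹ * (x * f * (x : G)⁻¹) = a * f := by
        rw [conj_mul]; exact mul_inv_eq_iff_eq_mul.2 hx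
      obtain ⟨k1, k2⟩ := hact _ hxN x.2
      have sq1 : ∀ z ∈ (X.S : Subgroup G), z⁻¹ = z → z = 1 := fun z hz hzi => by
        have h3 := X.cube z hz
        have : z * z = 1 := by nth_rewrite 1 [← hzi]; exact inv_mul_cancel z
        rwa [pow_succ, pow_two, this, one_mul] at h3
      rcases k1 with k1 | k1 <;> rcases k2 with k2 | k2 <;> rw [k1, k2] at hx'
      · exact hfixS _ hxN k1 k2
      · exact absurd (sq1 f hf (mul_left_cancel hx')) hf1
      · exact absurd (sq1 a ha (mul_right_cancel hx')) ha1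
      · refine absurd (sq1 (a * f) (mul_mem ha hf) ?_) (fun e => hfa (by
          rw [eq_inv_of_mul_eq_one_right e]; exact inv_mem (mem_zpowers a)))
        rw [mul_inv_rev, X.comm (inv_mem hf) (inv_mem ha)]
        exact hx'
    · intro h
      exact Subtype.ext (X.comm h (mul_mem ha hf))
  have h36 := X.looseM.card_eq_of_klein (a := A) (e := F) (z := ⟨r * r', mul_mem hrM hr'M⟩)
    (r₁ := ⟨r, hrM⟩) (r₂ := ⟨r', hr'M⟩) (X.mem_SM.2 ha) (fun h => ha1 (congrArg Subtype.val h)) (X.mem_SM.2 hf)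
    hmemF (fun s hs => Subtype.ext (hz _ (X.mem_SM.1 hs))) (Subtype.ext hra') (Subtype.ext hrf) (Subtype.ext hr'a)
    (Subtype.ext hr'f)
    (fun h hh => by
      obtain ⟨k1, k2⟩ := hact _ (X.mem_normalizer_SM.1 hh) h.2
      exact ⟨k1.imp (fun k => Subtype.ext k) (fun k => Subtype.ext k),
        k2.imp (fun k => Subtype.ext k) (fun k => Subtype.ext k)⟩)
    (hcard18 ha ha1 hrM hra' hrf hf hf1 (fun h hh _ => hfixS h hh) (fun h hh hm => (hact h hh hm).2) A rfl)
    (hcard18 hf hf1 hr'M hr'f hr'a ha ha1 (fun h hh _ k1 k2 => hfixS h hh k2 k1)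
      (fun h hh hm => (hact h hh hm).1) F rfl) hcb
  -- the normaliser is everything
  set NM := Subgroup.normalizer ((X.SM : Subgroup X.M) : Set X.M) with hNM
  have hsub : Subgroup.centralizer ({A} : Set X.M) ≤ NM :=
    X.looseM.cent_le A (X.mem_SM.2 ha) (fun h => ha1 (congrArg Subtype.val h))
  have hlt : Subgroup.centralizer ({A} : Set X.M) ≠ NM := fun h => by
    have hm : (⟨r', hr'M⟩ : X.M) ∈ Subgroup.centralizer ({A} : Set X.M) :=
      h ▸ X.mem_normalizer_SM.2 hr'N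
    have h1 : r' * a = a * r' := congrArg Subtype.val (mem_centralizer_singleton_iff.1 hm)
    rw [mul_inv_eq_iff_eq_mul.2 h1] at hr'a
    have h3 := X.cube a ha
    have : a * a = 1 := by nth_rewrite 1 [hr'a]; exact inv_mul_cancel a
    rw [pow_succ, pow_two, this, one_mul] at h3
    exact ha1 h3
  have hC := hcard18 ha ha1 hrM hra' hrf hf hf1 (fun h hh _ => hfixS h hh) (fun h hh hm => (hact h hh hm).2) A rfl
  have htop : NM = ⊤ := by
    refine Subgroup.eq_top_of_card_eq _ ?_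
    have d1 := card_dvd_of_le hsub
    have d2 := NM.card_subgroup_dvd_card
    rw [h36] at d2
    rw [hC] at d1
    obtain ⟨k, hk⟩ := d1
    rw [h36]
    have : 18 < Nat.card NM := by
      rcases Nat.lt_or_ge 18 (Nat.card NM) with h | h
      · exact h
      · exact absurd (eq_of_le_of_card_ge hsub (by rw [hC]; omega)) hlt
    have := Nat.le_of_dvd (by norm_num) d2
    omega
  have hn2 : (X.SM : Subgroup X.M).Normal := normalizer_eq_top_iff.1 htop
  rcases hn2.eq_bot_or_eq_top with h | h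
  · have := X.card_SM
    rw [h, Subgroup.card_bot] at this
    omega
  · have := X.card_SM
    rw [h, Subgroup.card_top, h36] at this
    omega

/-- The data of a self-centralising setting inside `M`. -/
noncomputable def SixHyp.setupM (hnn : ¬ (X.S : Subgroup G).Normal) (hns : ¬ IsSimpleGroup G) : Setup X.M where
  S := X.SM
  card_S := X.card_SM
  cube := X.looseM.cube
  cent s hs hs1 := le_antisymm (fun x hx => X.mem_SM.2 (X.free hnn hns (X.mem_SM.1 hs)
      (fun h => hs1 (Subtype.ext h)) x.2 (congrArg Subtype.val (mem_centralizer_singleton_iff.1 hx))))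
    (fun x hx => mem_centralizer_singleton_iff.2 (X.looseM.comm hx hs))

theorem SixHyp.iso_symmetric (hnn : ¬ (X.S : Subgroup G).Normal) (hns : ¬ IsSimpleGroup G) :
    Nonempty (G ≃* Equiv.Perm (Fin 6)) := by
  classical
  haveI := X.simple hnn
  haveI : Fact (Nat.Prime 3) := ⟨Nat.prime_three⟩
  have hM : X.M.Normal := Subgroup.normalClosure_normal
  haveI := hM
  set Y := X.setupM hnn hns with hY
  have hne := X.M_notComm hnn
  -- the order of the normaliser in `M`
  set NM := Y.N with hNM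
  have hNMmem : ∀ {m : X.M}, m ∈ NM ↔ (m : G) ∈ X.N := fun {m} => X.mem_normalizer_SM
  have hmap : NM.map X.M.subtype = X.N ⊓ X.M := by
    ext x
    constructor
    · rintro ⟨m, hm, rfl⟩
      exact mem_inf.2 ⟨hNMmem.1 hm, m.2⟩
    · intro hx
      exact ⟨⟨x, (mem_inf.1 hx).2⟩, hNMmem.2 (mem_inf.1 hx).1, rfl⟩
  have hcardNM : Nat.card NM = Nat.card ↥(X.N ⊓ X.M) := by
    rw [← hmap, card_map_of_injective X.M.subtype_injective]
  set H := ((Y.S : Subgroup X.M)).relIndex NM with hH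
  have h9H : 9 * H = Nat.card NM := by
    have h := card_mul_index ((Y.S : Subgroup X.M).subgroupOf NM)
    rwa [Nat.card_congr (subgroupOfEquivOfLe Subgroup.le_normalizer).toEquiv, Y.card_S] at h
  have hHd : H ∣ 8 := by
    have h := card_dvd_of_le (inf_le_left : X.N ⊓ X.M ≤ X.N)
    rw [← hcardNM, ← h9H, X.card_N] at h
    exact Nat.dvd_of_mul_dvd_mul_left (by norm_num : 0 < 9) (show 9 * H ∣ 9 * 8 from h)
  have hH8 : H ≠ 8 := fun h => by
    refine X.not_N_le_M hnn hns ?_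
    have heq : X.N ⊓ X.M = X.N := eq_of_le_of_card_ge inf_le_left (by rw [← hcardNM, ← h9H, h, X.card_N])
    exact inf_eq_left.1 heq
  have hle8 : H ≤ 8 := Nat.le_of_dvd (by norm_num) hHd
  obtain ⟨⟨a, ha⟩, ha1⟩ : ∃ a : ↥(Y.S : Subgroup X.M), a ≠ 1 := by
    haveI : Nontrivial ↥(Y.S : Subgroup X.M) := Finite.one_lt_card_iff_nontrivial.1 (by rw [Y.card_S]; norm_num)
    exact exists_ne 1
  have ha1' : a ≠ 1 := fun h => ha1 (Subtype.ext h)
  have h8 : (((Y.S : Subgroup X.M) : Set X.M) \ {1}).ncard = 8 := by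
    rw [Set.ncard_sdiff (Set.singleton_subset_iff.2 (one_mem _)) (Set.toFinite _), Set.ncard_singleton,
      ← Nat.card_coe_set_eq]
    have : Nat.card ↥((Y.S : Subgroup X.M) : Set X.M) = 9 := Y.card_S
    omega
  have horbit : ∀ {s : X.M}, s ∈ (Y.S : Subgroup X.M) → s ≠ 1 →
      Y.orbit s ⊆ ((Y.S : Subgroup X.M) : Set X.M) \ {1} := fun {s} hs hs1 x hx =>
    ⟨Y.orbit_subset hs hx, fun h => hs1 (isConj_one_left.1 ((show x = 1 from h) ▸ Y.isConj_of_mem_orbit hx))⟩
  obtain ⟨b, hb, hb1, hab⟩ : ∃ b ∈ (Y.S : Subgroup X.M), b ≠ 1 ∧ ¬ IsConj a b := by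
    by_contra hc
    push Not at hc
    have hle := Set.ncard_le_ncard (fun x (hx : x ∈ ((Y.S : Subgroup X.M) : Set X.M) \ {1}) =>
      Y.mem_orbit_of_isConj ha ha1' hx.1 (hc x hx.1 hx.2)) (Set.toFinite _)
    rw [h8, Y.card_orbit ha ha1'] at hle
    exact hH8 (le_antisymm hle8 hle)
  have hoa : orderOf a = 3 := orderOf_eq_prime (Y.cube a ha) ha1'
  have hob : orderOf b = 3 := orderOf_eq_prime (Y.cube b hb) hb1
  have h360 : Nat.card X.M = 360 :=
    Y.card_eq hne ⟨a, b, hoa, hob, fun g hg => hab (isConj_iff.2 ⟨g, hg⟩)⟩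
  have hH4 : H = 4 := by
    have h1 := Sylow.card_eq_index_normalizer Y.S
    have h2 := card_sylow_modEq_one 3 X.M
    rw [h1] at h2
    have h3 := NM.card_mul_index
    rw [← h9H, h360] at h3
    have hH1 : H ≠ 1 := fun h => by
      obtain ⟨t, htN, ht⟩ := Y.exists_inverter hne
      have hle : NM ≤ (Y.S : Subgroup X.M) := relIndex_eq_one.1 h
      have h1 := ht a ha
      rw [mul_inv_eq_iff_eq_mul.2 (Y.comm (hle htN) ha)] at h1
      have h3 := Y.cube a ha
      have : a * a = 1 := by nth_rewrite 1 [h1]; exact inv_mul_cancel a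
      rw [pow_succ, pow_two, this, one_mul] at h3
      exact ha1' h3
    have h4 : (Subgroup.normalizer ((Y.S : Subgroup X.M) : Set X.M)).index % 3 = 1 % 3 := h2
    change 9 * H * (Subgroup.normalizer ((Y.S : Subgroup X.M) : Set X.M)).index = 360 at h3
    obtain ⟨i, hi, hHi⟩ := (Nat.dvd_prime_pow Nat.prime_two).1 (show H ∣ 2 ^ 3 from hHd)
    rw [hHi] at h3 hH1 hH8 ⊢
    generalize (Subgroup.normalizer ((Y.S : Subgroup X.M) : Set X.M)).index = k at h3 h4
    interval_cases i <;> (try norm_num at hH1 hH8) <;> norm_num at h3 h4 ⊢ <;> omega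
  have hcardG : Nat.card G = 720 := by
    have h1 := X.M.card_mul_index
    have h2 : X.M.index = X.M.relIndex X.N := by
      have htop : X.N ⊔ X.M = ⊤ := Sylow.normalizer_sup_eq_top' X.S X.le_M
      rw [← relIndex_top_right, ← htop, relIndex_sup_right]
    have h3 := card_mul_index (X.M.subgroupOf X.N)
    have h4 : Nat.card ↥(X.M.subgroupOf X.N) = 36 := by
      rw [← inf_subgroupOf_right, Nat.card_congr (subgroupOfEquivOfLe inf_le_right).toEquiv, inf_comm, ← hcardNM,
        ← h9H, hH4]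
    rw [h4, X.card_N] at h3
    have h5 : X.M.relIndex X.N = 2 := by unfold Subgroup.relIndex; omega
    rw [h2, h5, h360] at h1
    exact h1.symm
  -- conjugation preserves the classes of elements of order three
  obtain ⟨a₀, r, ha₀, ha₀1, hrN, hra₀, hrS⟩ : ∃ a₀ r : G, a₀ ∈ (X.S : Subgroup G) ∧ a₀ ≠ 1 ∧ r ∈ X.N ∧
      r * a₀ * r⁻¹ = a₀ ∧ r ∉ (X.S : Subgroup G) := by
    by_contra hc
    push Not at hc
    obtain ⟨x, hx, y, hy, hxS, hxx, hyS, hyy, hxy⟩ := X.pair
    have inv_of : ∀ x ∈ X.N, x ∉ (X.S : Subgroup G) → x * x ∈ (X.S : Subgroup G) →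
        ∀ s ∈ (X.S : Subgroup G), x * s * x⁻¹ = s⁻¹ := by
      intro x hx hxS hxx s hs
      refine eq_inv_of_mul_eq_one_left ?_
      by_contra hne1
      refine hxS (hc _ x (mul_mem (X.conj_mem hx hs) hs) hne1 hx ?_)
      calc x * (x * s * x⁻¹ * s) * x⁻¹ = (x * x * s * (x * x)⁻¹) * (x * s * x⁻¹) := by group
        _ = s * (x * s * x⁻¹) := by rw [mul_inv_eq_iff_eq_mul.2 (X.comm hxx hs)]
        _ = x * s * x⁻¹ * s := X.comm hs (X.conj_mem hx hs)
    refine hxy (X.mem_of_centralizes fun s hs => ?_)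
    rw [show x * y * s * (x * y)⁻¹ = x * (y * s * y⁻¹) * x⁻¹ by group, inv_of y hy hyS hyy s hs,
      inv_of x hx hxS hxx _ (inv_mem hs), inv_inv]
  have hrM : r ∉ X.M := fun h => hrS (X.free hnn hns ha₀ ha₀1 h (mul_inv_eq_iff_eq_mul.1 hra₀))
  have hidx : X.M.index = 2 := by
    have h1 := X.M.card_mul_index
    rw [h360, hcardG] at h1
    omega
  have hN2 : ∀ n ∈ X.N, ∃ k ∈ X.N, k ∈ X.M ∧ (n = k ∨ n = k * r) := by
    intro n hn
    by_cases h : n ∈ X.M
    · exact ⟨n, hn, h, Or.inl rfl⟩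
    · refine ⟨n * r⁻¹, mul_mem hn (inv_mem hrN), ?_, Or.inr (inv_mul_cancel_right n r).symm⟩
      rw [Subgroup.mul_mem_iff_of_index_two hidx]
      exact ⟨fun h' => absurd h' h, fun h' => absurd (inv_mem_iff.1 h') hrM⟩
  set A₀ : X.M := ⟨a₀, X.le_M ha₀⟩ with hA₀
  have hA₀S : A₀ ∈ (Y.S : Subgroup X.M) := X.mem_SM.2 ha₀
  have hA₀1 : A₀ ≠ 1 := fun h => ha₀1 (congrArg Subtype.val h)
  have hkeep : ∀ n ∈ X.N, IsConj A₀ (MulAut.conjNormal n A₀) := by
    intro n hn
    obtain ⟨k, -, hkM, rfl | rfl⟩ := hN2 n hn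
    · exact isConj_iff.2 ⟨⟨n, hkM⟩, Subtype.ext (by simp [MulAut.conjNormal_apply])⟩
    · refine isConj_iff.2 ⟨⟨k, hkM⟩, Subtype.ext ?_⟩
      rw [MulAut.conjNormal_apply]
      show k * a₀ * k⁻¹ = k * r * a₀ * (k * r)⁻¹
      rw [show k * r * a₀ * (k * r)⁻¹ = k * (r * a₀ * r⁻¹) * k⁻¹ by group, hra₀]
  have hN : ∀ n ∈ X.N, ∀ s ∈ (Y.S : Subgroup X.M), s ≠ 1 → IsConj s (MulAut.conjNormal n s) := by
    intro n hn s hs hs1
    by_cases h : IsConj A₀ s
    · obtain ⟨m, hm⟩ := isConj_iff.1 h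
      refine h.symm.trans ((hkeep n hn).trans ?_)
      rw [← hm, map_mul, map_mul, map_inv]
      exact isConj_iff.2 ⟨_, rfl⟩
    · have hs' : MulAut.conjNormal n s ∈ (Y.S : Subgroup X.M) := X.mem_SM.2 (by
        rw [MulAut.conjNormal_apply]; exact X.conj_mem hn (X.mem_SM.1 hs))
      have hs'1 : MulAut.conjNormal n s ≠ 1 := fun e => hs1 ((map_eq_one_iff _ (MulEquiv.injective _)).1 e)
      have hnot : ¬ IsConj A₀ (MulAut.conjNormal n s) := by
        intro h'
        refine h ?_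
        obtain ⟨m, hm⟩ := isConj_iff.1 h'
        have e : s = MulAut.conjNormal n⁻¹ (m * A₀ * m⁻¹) := by
          rw [hm]; ext; simp [MulAut.conjNormal_apply, mul_assoc]
        rw [e, map_mul, map_mul, map_inv (MulAut.conjNormal n⁻¹)]
        refine (hkeep n⁻¹ (inv_mem hn)).trans ?_
        exact isConj_iff.2 ⟨MulAut.conjNormal n⁻¹ m, rfl⟩
      by_contra hc
      have hdis₁ : Disjoint (Y.orbit A₀) (Y.orbit s) := Set.disjoint_left.2 fun x h1 h2 =>
        h ((Y.isConj_of_mem_orbit h1).trans (Y.isConj_of_mem_orbit h2).symm)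
      have hdis₂ : Disjoint (Y.orbit A₀ ∪ Y.orbit s) (Y.orbit (MulAut.conjNormal n s)) :=
        Set.disjoint_left.2 fun x h1 h2 => h1.elim
          (fun h1 => hnot ((Y.isConj_of_mem_orbit h1).trans (Y.isConj_of_mem_orbit h2).symm))
          (fun h1 => hc ((Y.isConj_of_mem_orbit h1).trans (Y.isConj_of_mem_orbit h2).symm))
      have hle := Set.ncard_le_ncard (Set.union_subset (Set.union_subset (horbit hA₀S hA₀1) (horbit hs hs1))
        (horbit hs' hs'1)) (Set.toFinite _)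
      rw [Set.ncard_union_eq hdis₂ (Set.toFinite _) (Set.toFinite _),
        Set.ncard_union_eq hdis₁ (Set.toFinite _) (Set.toFinite _), Y.card_orbit hA₀S hA₀1, Y.card_orbit hs hs1,
        Y.card_orbit hs' hs'1, h8] at hle
      change H + H + H ≤ 8 at hle
      omega
  have hclass : ∀ (g : G) (x : X.M), x ^ 3 = 1 → x ≠ 1 → IsConj x (MulAut.conjNormal g x) := by
    intro g x hx hx1
    obtain ⟨m, hm⟩ := Y.exists_conj_mem hx
    have hs1 : m * x * m⁻¹ ≠ 1 := fun h => hx1 (conj_eq_one_iff.1 h)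
    obtain ⟨m', hm', n, hn, rfl⟩ := X.exists_M_N g
    refine (isConj_iff.2 ⟨m, rfl⟩ : IsConj x (m * x * m⁻¹)).trans ((hN n hn _ hm hs1).trans ?_)
    rw [map_mul MulAut.conjNormal, MulAut.mul_apply, map_mul, map_mul, map_inv]
    refine (isConj_iff.2 ⟨_, rfl⟩ : IsConj (MulAut.conjNormal n x)
      (MulAut.conjNormal n m * MulAut.conjNormal n x * (MulAut.conjNormal n m)⁻¹)).symm.trans ?_
    exact isConj_iff.2 ⟨⟨m', hm'⟩, Subtype.ext (by simp [MulAut.conjNormal_apply])⟩
  -- the embedding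
  obtain ⟨e⟩ := Cfsg.Lib.Small.Order360.iso_alternating (G := X.M) h360
  let φ : G → MulAut (alternatingGroup (Fin 6)) := fun g => (e.symm.trans (MulAut.conjNormal g)).trans e
  have hφ : ∀ g, ∃ σ : Equiv.Perm (Fin 6), MulAut.conjNormal σ = φ g := by
    intro g
    refine exists_conj_of_preserves 6 (by norm_num) (φ g) fun y hy => ?_
    have hy3 : (e.symm y) ^ 3 = 1 := by
      rw [← map_pow, show y ^ 3 = 1 from Subtype.ext (by rw [← hy.orderOf]; exact pow_orderOf_eq_one _), map_one]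
    have hy1 : e.symm y ≠ 1 := fun h => by
      rw [map_eq_one_iff _ e.symm.injective] at h
      have := hy.orderOf
      rw [h, Subgroup.coe_one, orderOf_one] at this
      omega
    obtain ⟨m, hm⟩ := isConj_iff.1 (hclass g (e.symm y) hy3 hy1)
    have he : φ g y = e m * y * (e m)⁻¹ := by
      show e (MulAut.conjNormal g (e.symm y)) = _
      rw [← hm, map_mul, map_mul, map_inv, e.apply_symm_apply]
    rw [he]
    show Equiv.Perm.IsThreeCycle _
    rw [Equiv.Perm.IsThreeCycle, Subgroup.coe_mul, Subgroup.coe_mul, Subgroup.coe_inv,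
      Equiv.Perm.cycleType_conj]
    exact hy
  choose σ hσ using hφ
  have huniq : ∀ s t : Equiv.Perm (Fin 6),
      (MulAut.conjNormal s : MulAut (alternatingGroup (Fin 6))) = MulAut.conjNormal t → s = t := by
    intro s t h
    refine (inv_mul_eq_one.1 ?_).symm
    refine Cfsg.Agent.S2119.eq_one_of_commute 6 (by norm_num) (t⁻¹ * s) fun g hg => ?_
    have := congrArg (fun f : MulAut (alternatingGroup (Fin 6)) => ((f ⟨g, hg⟩ : alternatingGroup (Fin 6)) : Equiv.Perm (Fin 6))) h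
    simp only [MulAut.conjNormal_apply] at this
    calc t⁻¹ * s * g * (t⁻¹ * s)⁻¹ = t⁻¹ * (s * g * s⁻¹) * t := by group
      _ = t⁻¹ * (t * g * t⁻¹) * t := by rw [this]
      _ = g := by group
  have hφmul : ∀ g h, φ (g * h) = φ g * φ h := fun g h => by
    ext y
    simp [φ, MulAut.mul_apply, MulAut.conjNormal_apply, mul_assoc]
  let ψ : G →* Equiv.Perm (Fin 6) := MonoidHom.mk' σ fun g h => huniq _ _ (by rw [hσ, map_mul, hσ, hσ, hφmul])
  have hinj : Function.Injective ψ := by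
    refine (injective_iff_map_eq_one ψ).2 fun g hg => ?_
    have h1 : φ g = 1 := by rw [← hσ g, show σ g = 1 from hg, map_one]
    have hcm : ∀ x : X.M, g * x * g⁻¹ = x := fun x => by
      have h2 := congrArg (fun f : MulAut (alternatingGroup (Fin 6)) => e.symm (f (e x))) h1
      simp only [φ, MulEquiv.trans_apply, MulEquiv.symm_apply_apply, MulAut.one_apply] at h2
      have h3 := congrArg Subtype.val h2
      rwa [MulAut.conjNormal_apply] at h3
    have hgS : g ∈ (X.S : Subgroup G) := X.mem_of_centralizes fun s hs => hcm ⟨s, X.le_M hs⟩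
    by_contra hg1
    have hz : (⟨g, X.le_M hgS⟩ : X.M) ∈ Subgroup.center X.M := Subgroup.mem_center_iff.2 fun x =>
      Subtype.ext (mul_inv_eq_iff_eq_mul.1 (hcm x)).symm
    rcases (inferInstance : (Subgroup.center X.M).Normal).eq_bot_or_eq_top with h | h
    · rw [h, mem_bot] at hz
      exact hg1 (congrArg Subtype.val hz)
    · exact hne ⟨⟨fun x z => (mem_center_iff.1 (h.symm ▸ mem_top z) x)⟩⟩
  have hcard : Nat.card G = Nat.card (Equiv.Perm (Fin 6)) := by
    rw [hcardG, Nat.card_perm, Nat.card_fin]; rfl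
  exact ⟨MulEquiv.ofBijective ψ (hinj.bijective_of_nat_card_le hcard.ge)⟩

end Cfsg.Lib.Recog.NineSC
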