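import Mathlib

/-!
# Integral columns at two classes of elements of order three with centralisers of order nine
-/

set_option autoImplicit false

namespace Cfsg.Lib.Recog.NineSC

variable {ι : Type*} [Fintype ι] [DecidableEq ι]

/-- The value pattern of two orthogonal columns of norm nine. -/
structure PairShape (o : ι) (u v : ι → ℤ) (A B : ι) (P : Finset ι) : Prop where
  uA : u A = 1 ∨ u A = -1
  vA : v A = -2 * u A
  vB : v B = 1 ∨ v B = -1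
  uB : u B = -2 * v B
  hAo : A ≠ o
  hBo : B ≠ o
  hAB : A ≠ B
  hP : ∀ χ, χ ∈ P ↔ χ ≠ o ∧ χ ≠ A ∧ χ ≠ B ∧ u χ ≠ 0
  cardP : P.card = 3
  pm : ∀ χ ∈ P, u χ = 1 ∨ u χ = -1
  same : ∀ χ, χ ≠ A → χ ≠ B → v χ = u χ

theorem cases_values : ∀ a b : ℤ, -2 ≤ a → a ≤ 2 → -2 ≤ b → b ≤ 2 → a % 3 = b % 3 →
    (a = 0 ∧ b = 0) ∨ ((a = 1 ∨ a = -1) ∧ b = a) ∨ ((a = 2 ∨ a = -2) ∧ b = a) ∨
      ((a = 1 ∨ a = -1) ∧ b = -2 * a) ∨ ((b = 1 ∨ b = -1) ∧ a = -2 * b) := by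
  intros; omega

theorem exists_pairShape {o : ι} {u v : ι → ℤ} (hu0 : u o = 1) (hv0 : v o = 1)
    (hmod : ∀ χ, u χ % 3 = v χ % 3) (huu : ∑ χ, u χ * u χ = 9) (hvv : ∑ χ, v χ * v χ = 9)
    (huv : ∑ χ, u χ * v χ = 0) : ∃ A B P, PairShape o u v A B P := by
  classical
  set E := (Finset.univ : Finset ι).erase o with hE
  have split : ∀ f : ι → ℤ, ∑ χ, f χ = f o + ∑ χ ∈ E, f χ := fun f =>
    (Finset.add_sum_erase _ _ (Finset.mem_univ o)).symm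
  rw [split, hu0] at huu
  rw [split, hv0] at hvv
  rw [split, hu0, hv0] at huv
  have bd : ∀ (w : ι → ℤ), 1 * 1 + ∑ χ ∈ E, w χ * w χ = 9 → ∀ χ ∈ E, -2 ≤ w χ ∧ w χ ≤ 2 := by
    intro w hw χ hχ
    have h1 := Finset.single_le_sum (fun ψ _ => mul_self_nonneg (w ψ)) hχ
    constructor <;> nlinarith
  set SP := E.filter fun χ => (u χ = 1 ∨ u χ = -1) ∧ v χ = u χ with hSP
  set ST := E.filter fun χ => (u χ = 2 ∨ u χ = -2) ∧ v χ = u χ with hST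
  set SA := E.filter fun χ => (u χ = 1 ∨ u χ = -1) ∧ v χ = -2 * u χ with hSA
  set SB := E.filter fun χ => (v χ = 1 ∨ v χ = -1) ∧ u χ = -2 * v χ with hSB
  have hpt : ∀ χ ∈ E, (u χ = 0 ∧ v χ = 0) ∨ ((u χ = 1 ∨ u χ = -1) ∧ v χ = u χ) ∨
      ((u χ = 2 ∨ u χ = -2) ∧ v χ = u χ) ∨ ((u χ = 1 ∨ u χ = -1) ∧ v χ = -2 * u χ) ∨
      ((v χ = 1 ∨ v χ = -1) ∧ u χ = -2 * v χ) := fun χ hχ =>
    cases_values _ _ (bd u huu χ hχ).1 (bd u huu χ hχ).2 (bd v hvv χ hχ).1 (bd v hvv χ hχ).2 (hmod χ)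
  have count : ∀ (f : ι → ℤ) (cp ct ca cb : ℤ), (∀ χ ∈ E, f χ =
      (if (u χ = 1 ∨ u χ = -1) ∧ v χ = u χ then cp else 0) +
      (if (u χ = 2 ∨ u χ = -2) ∧ v χ = u χ then ct else 0) +
      (if (u χ = 1 ∨ u χ = -1) ∧ v χ = -2 * u χ then ca else 0) +
      (if (v χ = 1 ∨ v χ = -1) ∧ u χ = -2 * v χ then cb else 0)) →
      ∑ χ ∈ E, f χ = cp * SP.card + ct * ST.card + ca * SA.card + cb * SB.card := by
    intro f cp ct ca cb hf
    rw [Finset.sum_congr rfl hf]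
    simp only [Finset.sum_add_distrib, ← Finset.sum_filter, Finset.sum_const, nsmul_eq_mul, hSP, hST, hSA, hSB]
    ring
  have e1 := count (fun χ => u χ * u χ) 1 4 1 4 (fun χ hχ => by
    rcases hpt χ hχ with ⟨a, b⟩ | ⟨a | a, b⟩ | ⟨a | a, b⟩ | ⟨a | a, b⟩ | ⟨a | a, b⟩ <;>
      rw [b, a] <;> norm_num)
  have e2 := count (fun χ => v χ * v χ) 1 4 4 1 (fun χ hχ => by
    rcases hpt χ hχ with ⟨a, b⟩ | ⟨a | a, b⟩ | ⟨a | a, b⟩ | ⟨a | a, b⟩ | ⟨a | a, b⟩ <;>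
      rw [b, a] <;> norm_num)
  have e3 := count (fun χ => u χ * v χ) 1 4 (-2) (-2) (fun χ hχ => by
    rcases hpt χ hχ with ⟨a, b⟩ | ⟨a | a, b⟩ | ⟨a | a, b⟩ | ⟨a | a, b⟩ | ⟨a | a, b⟩ <;>
      rw [b, a] <;> norm_num)
  obtain ⟨A, hA⟩ := Finset.card_eq_one.1 (show SA.card = 1 by omega)
  obtain ⟨B, hB⟩ := Finset.card_eq_one.1 (show SB.card = 1 by omega)
  have hT : ST = ∅ := by
    have h3 : SP.card + 4 * ST.card = 3 := by omega
    exact Finset.card_eq_zero.1 (by omega)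
  have hAm : A ∈ SA := by rw [hA]; exact Finset.mem_singleton_self _
  have hBm : B ∈ SB := by rw [hB]; exact Finset.mem_singleton_self _
  rw [hSA, Finset.mem_filter, hE, Finset.mem_erase] at hAm
  rw [hSB, Finset.mem_filter, hE, Finset.mem_erase] at hBm
  obtain ⟨⟨hAo, -⟩, hA1, hA2⟩ := hAm
  obtain ⟨⟨hBo, -⟩, hB1, hB2⟩ := hBm
  have hAB : A ≠ B := fun e => by subst e; omega
  have hrest : ∀ χ ∈ E, χ ≠ A → χ ≠ B → (u χ = 0 ∧ v χ = 0) ∨ χ ∈ SP := by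
    intro χ hχ hnA hnB
    rcases hpt χ hχ with h | h | h | h | h
    · exact Or.inl h
    · exact Or.inr (Finset.mem_filter.2 ⟨hχ, h⟩)
    · exact absurd (show χ ∈ ST from Finset.mem_filter.2 ⟨hχ, h⟩) (by rw [hT]; simp)
    · exact absurd (Finset.mem_singleton.1 (hA ▸ (show χ ∈ SA from Finset.mem_filter.2 ⟨hχ, h⟩))) hnA
    · exact absurd (Finset.mem_singleton.1 (hB ▸ (show χ ∈ SB from Finset.mem_filter.2 ⟨hχ, h⟩))) hnB
  refine ⟨A, B, SP, ⟨hA1, hA2, hB1, hB2, hAo, hBo, hAB, fun χ => ⟨fun h => ?_, fun ⟨h1, h2, h3, h4⟩ => ?_⟩,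
    by rw [hT] at e1; simp only [Finset.card_empty, hA, hB, Finset.card_singleton] at e1; omega, ?_, ?_⟩⟩
  · obtain ⟨hχ, h1, h2⟩ := Finset.mem_filter.1 h
    refine ⟨(Finset.mem_erase.1 hχ).1, fun e => ?_, fun e => ?_, by omega⟩ <;> subst e <;> omega
  · rcases hrest χ (Finset.mem_erase.2 ⟨h1, Finset.mem_univ _⟩) h2 h3 with h | h
    · exact absurd h.1 h4
    · exact h
  · intro χ h
    exact (Finset.mem_filter.1 h).2.1
  · intro χ h2 h3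
    by_cases h1 : χ = o
    · rw [h1, hu0, hv0]
    rcases hrest χ (Finset.mem_erase.2 ⟨h1, Finset.mem_univ _⟩) h2 h3 with h | h
    · rw [h.1, h.2]
    · exact (Finset.mem_filter.1 h).2.2

theorem PairShape.sum_eq {o A B : ι} {u v : ι → ℤ} {P : Finset ι} (h : PairShape o u v A B P)
    {M : Type*} [AddCommMonoid M] (f : ι → M) (hf : ∀ χ, u χ = 0 → f χ = 0) :
    ∑ χ, f χ = f o + f A + f B + ∑ χ ∈ P, f χ := by
  classical
  have hsub : ∀ χ, χ ∉ ({o, A, B} ∪ P : Finset ι) → f χ = 0 := by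
    intro χ hχ
    simp only [Finset.mem_union, Finset.mem_insert, Finset.mem_singleton, not_or] at hχ
    refine hf χ (by_contra fun h0 => hχ.2 ((h.hP χ).2 ⟨hχ.1.1, hχ.1.2.1, hχ.1.2.2, h0⟩))
  rw [← Finset.sum_subset (Finset.subset_univ ({o, A, B} ∪ P : Finset ι)) (fun χ _ => hsub χ),
    Finset.sum_union, Finset.sum_insert (by simp [h.hAo.symm, h.hBo.symm]), Finset.sum_pair h.hAB]
  · abel
  · rw [Finset.disjoint_left]
    intro χ hχ hP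
    simp only [Finset.mem_insert, Finset.mem_singleton] at hχ
    have := (h.hP χ).1 hP
    rcases hχ with e | e | e
    · exact this.1 e
    · exact this.2.1 e
    · exact this.2.2.1 e

variable {o : ι} {d : ι → ℤ}

theorem PairShape.degree {A B : ι} {u v : ι → ℤ} {P : Finset ι} (h : PairShape o u v A B P)
    (hu0 : u o = 1) (hd0 : d o = 1) (hdu : ∑ χ, d χ * u χ = 0) (hdv : ∑ χ, d χ * v χ = 0) :
    d A * u A = d B * v B ∧ 1 + ∑ χ ∈ P, d χ * u χ = d A * u A := by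
  have hv : ∀ χ, u χ = 0 → v χ = 0 := by
    intro χ hχ
    by_cases hA : χ = A
    · subst hA; rw [h.vA, hχ, mul_zero]
    by_cases hB : χ = B
    · subst hB; have := h.uB; omega
    rw [h.same χ hA hB, hχ]
  rw [h.sum_eq _ (fun χ e => by rw [e, mul_zero])] at hdu
  rw [h.sum_eq _ (fun χ e => by rw [hv χ e, mul_zero])] at hdv
  rw [hd0, hu0, h.uB] at hdu
  rw [hd0, h.vA, h.same o h.hAo.symm h.hBo.symm, hu0,
    Finset.sum_congr rfl fun χ hχ => by rw [h.same χ ((h.hP χ).1 hχ).2.1 ((h.hP χ).1 hχ).2.2.1]] at hdv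
  constructor <;> linarith

theorem PairShape.weighted {A B : ι} {u v : ι → ℤ} {P : Finset ι} (h : PairShape o u v A B P)
    (hu0 : u o = 1) (hd0 : d o = 1) (hw : d A * u A = d B * v B) :
    ∑ χ, ((u χ * v χ * u χ : ℤ) : ℚ) / (d χ : ℚ) =
      1 + ∑ χ ∈ P, 1 / ((d χ * u χ : ℤ) : ℚ) + 2 / ((d A * u A : ℤ) : ℚ) := by
  rw [h.sum_eq _ (fun χ e => by simp [e]), h.same o h.hAo.symm h.hBo.symm, hu0, hd0]
  have hP : ∀ χ ∈ P, ((u χ * v χ * u χ : ℤ) : ℚ) / (d χ : ℚ) = 1 / ((d χ * u χ : ℤ) : ℚ) := by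
    intro χ hχ
    rw [h.same χ ((h.hP χ).1 hχ).2.1 ((h.hP χ).1 hχ).2.2.1]
    rcases h.pm χ hχ with e | e <;> rw [e] <;> push_cast
    · ring
    · rw [mul_neg_one, div_neg]; ring
  have hA : ((u A * v A * u A : ℤ) : ℚ) / (d A : ℚ) = -2 / ((d A * u A : ℤ) : ℚ) := by
    rw [h.vA]
    rcases h.uA with e | e <;> rw [e] <;> push_cast
    · ring
    · rw [mul_neg_one, div_neg]; ring
  have hB : ((u B * v B * u B : ℤ) : ℚ) / (d B : ℚ) = 4 / ((d A * u A : ℤ) : ℚ) := by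
    rw [h.uB, hw]
    rcases h.vB with e | e <;> rw [e] <;> push_cast
    · ring
    · rw [mul_neg_one, div_neg]; ring
  rw [hA, hB, Finset.sum_congr rfl hP]
  push_cast
  ring

theorem small_rows : ∀ z₁ ∈ ([10, 19, -8, -17, -26] : List ℤ), ∀ z₂ ∈ ([10, 19, -8, -17, -26] : List ℤ),
    ∀ z₃ ∈ ([10, 19, -8, -17, -26] : List ℤ), ∀ w ∈ ([4, 13, -5, -14] : List ℤ), 1 + (z₁ + (z₂ + z₃)) = w →
    z₁ * z₂ * z₃ * w + w * (z₂ * z₃ + z₁ * z₃ + z₁ * z₂) + 2 * (z₁ * z₂ * z₃) ≠ 0 ∧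
      (162 * (z₁ * z₂ * z₃ * w) %
          (z₁ * z₂ * z₃ * w + w * (z₂ * z₃ + z₁ * z₃ + z₁ * z₂) + 2 * (z₁ * z₂ * z₃)) = 0 →
        162 * (z₁ * z₂ * z₃ * w) =
          360 * (z₁ * z₂ * z₃ * w + w * (z₂ * z₃ + z₁ * z₃ + z₁ * z₂) + 2 * (z₁ * z₂ * z₃))) := by
  decide +kernel

/-- Two classes of elements of order three force order `360`. -/
theorem order_of_two_classes {u v : ι → ℤ} {g : ℕ} (hu0 : u o = 1) (hv0 : v o = 1) (hd0 : d o = 1)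
    (hd : ∀ χ, χ ≠ o → 2 ≤ d χ) (hmod : ∀ χ, u χ % 3 = v χ % 3) (hnine : ∀ χ, (d χ + 4 * u χ + 4 * v χ) % 9 = 0)
    (huu : ∑ χ, u χ * u χ = 9) (hvv : ∑ χ, v χ * v χ = 9) (huv : ∑ χ, u χ * v χ = 0)
    (hdu : ∑ χ, d χ * u χ = 0) (hdv : ∑ χ, d χ * v χ = 0)
    (hsq : ∑ χ, d χ * d χ = g)
    (heq : (g : ℚ) * ∑ χ, ((u χ * v χ * u χ : ℤ) : ℚ) / (d χ : ℚ) = 162) : g = 360 := by
  classical
  obtain ⟨A, B, P, h⟩ := exists_pairShape hu0 hv0 hmod huu hvv huv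
  obtain ⟨hw, hsum⟩ := h.degree hu0 hd0 hdu hdv
  rw [h.weighted hu0 hd0 hw] at heq
  obtain ⟨χ₁, χ₂, χ₃, h12, h13, h23, hP⟩ := Finset.card_eq_three.1 h.cardP
  have hz : ∀ χ ∈ P, (d χ * u χ) % 9 = 1 ∧ (2 ≤ d χ * u χ ∨ d χ * u χ ≤ -2) := by
    intro χ hχ
    obtain ⟨ho, hA, hB, -⟩ := (h.hP χ).1 hχ
    have h9 := hnine χ
    rw [h.same χ hA hB] at h9
    have h2 := hd χ ho
    rcases h.pm χ hχ with e | e <;> rw [e] at h9 ⊢ <;> constructor <;> omega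
  have hwA : (d A * u A) % 9 = 4 ∧ (2 ≤ d A * u A ∨ d A * u A ≤ -2) := by
    have h9 := hnine A
    rw [h.vA] at h9
    have h2 := hd A h.hAo
    rcases h.uA with e | e <;> rw [e] at h9 ⊢ <;> constructor <;> omega
  have hsq' : 1 + 2 * (d A * u A) ^ 2 + ((d χ₁ * u χ₁) ^ 2 + ((d χ₂ * u χ₂) ^ 2 + (d χ₃ * u χ₃) ^ 2)) ≤ (g : ℤ) := by
    have hA2 : (d A * u A) ^ 2 = d A * d A := by rcases h.uA with e | e <;> rw [e] <;> ring
    have hB2 : (d A * u A) ^ 2 = d B * d B := by rw [hw]; rcases h.vB with e | e <;> rw [e] <;> ring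
    have hP2 : ∀ χ ∈ P, (d χ * u χ) ^ 2 = d χ * d χ := fun χ hχ => by
      rcases h.pm χ hχ with e | e <;> rw [e] <;> ring
    have hm : χ₁ ∈ P ∧ χ₂ ∈ P ∧ χ₃ ∈ P := by simp [hP]
    rw [← hsq, two_mul, hP2 χ₁ hm.1, hP2 χ₂ hm.2.1, hP2 χ₃ hm.2.2]
    nth_rewrite 1 [hA2]
    rw [hB2]
    have hle := Finset.sum_le_sum_of_subset_of_nonneg (Finset.subset_univ ({o, A, B} ∪ P : Finset ι))
      (fun χ _ _ => mul_self_nonneg (d χ))
    rw [Finset.sum_union, Finset.sum_insert (by simp [h.hAo.symm, h.hBo.symm]), Finset.sum_pair h.hAB, hd0, hP,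
      Finset.sum_insert (by simp [h12, h13]), Finset.sum_pair h23] at hle
    · linarith
    · rw [Finset.disjoint_left]
      intro χ hχ hχP
      simp only [Finset.mem_insert, Finset.mem_singleton] at hχ
      have := (h.hP χ).1 hχP
      tauto
  rw [hP, Finset.sum_insert (by simp [h12, h13]), Finset.sum_pair h23] at hsum heq
  obtain ⟨hz₁, hz₁'⟩ := hz χ₁ (by simp [hP])
  obtain ⟨hz₂, hz₂'⟩ := hz χ₂ (by simp [hP])
  obtain ⟨hz₃, hz₃'⟩ := hz χ₃ (by simp [hP])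
  obtain ⟨hw1, hw2⟩ := hwA
  generalize d χ₁ * u χ₁ = z₁ at *
  generalize d χ₂ * u χ₂ = z₂ at *
  generalize d χ₃ * u χ₃ = z₃ at *
  generalize d A * u A = w at *
  have low : ∀ z : ℤ, z % 9 = 1 → (2 ≤ z ∨ z ≤ -2) → (-1/8 : ℚ) ≤ 1 / (z : ℚ) := by
    intro z hz hz'
    rcases hz' with hp | hn
    · exact le_trans (by norm_num) (div_nonneg zero_le_one (by exact_mod_cast (show (0 : ℤ) ≤ z by omega)))
    · have h8 : (z : ℚ) ≤ -8 := by exact_mod_cast (show z ≤ -8 by omega)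
      rw [le_div_iff_of_neg (by linarith)]; linarith
  have loww : (-2/5 : ℚ) ≤ 2 / (w : ℚ) := by
    rcases hw2 with hp | hn
    · exact le_trans (by norm_num) (div_nonneg zero_le_two (by exact_mod_cast (show (0 : ℤ) ≤ w by omega)))
    · have h5 : (w : ℚ) ≤ -5 := by exact_mod_cast (show w ≤ -5 by omega)
      rw [le_div_iff_of_neg (by linarith)]; linarith
  have hg : g ≤ 720 := by
    have l1 := low z₁ hz₁ hz₁'
    have l2 := low z₂ hz₂ hz₂'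
    have l3 := low z₃ hz₃ hz₃'
    have hS : (9/40 : ℚ) ≤ 1 + (1 / (z₁ : ℚ) + (1 / (z₂ : ℚ) + 1 / (z₃ : ℚ))) + 2 / (w : ℚ) := by linarith
    have : (g : ℚ) ≤ 720 := by nlinarith [mul_le_mul_of_nonneg_left hS (Nat.cast_nonneg (α := ℚ) g)]
    exact_mod_cast this
  have hgz : (g : ℤ) ≤ 720 := by exact_mod_cast hg
  have memz : ∀ z : ℤ, z % 9 = 1 → (2 ≤ z ∨ z ≤ -2) → z ^ 2 ≤ 719 → z ∈ ([10, 19, -8, -17, -26] : List ℤ) := by
    intro z hz hz' hs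
    have : -26 ≤ z ∧ z ≤ 26 := by constructor <;> nlinarith
    simp only [List.mem_cons, List.not_mem_nil, or_false]
    omega
  have hwmem : w ∈ ([4, 13, -5, -14] : List ℤ) := by
    have : -18 ≤ w ∧ w ≤ 18 := by constructor <;> nlinarith [sq_nonneg z₁, sq_nonneg z₂, sq_nonneg z₃]
    simp only [List.mem_cons, List.not_mem_nil, or_false]
    omega
  obtain ⟨hne, hrow⟩ := small_rows z₁ (memz _ hz₁ hz₁' (by nlinarith [sq_nonneg w, sq_nonneg z₂, sq_nonneg z₃]))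
    z₂ (memz _ hz₂ hz₂' (by nlinarith [sq_nonneg w, sq_nonneg z₁, sq_nonneg z₃]))
    z₃ (memz _ hz₃ hz₃' (by nlinarith [sq_nonneg w, sq_nonneg z₁, sq_nonneg z₂])) w hwmem (by linarith)
  have q1 : (z₁ : ℚ) ≠ 0 := by exact_mod_cast (show z₁ ≠ 0 by omega)
  have q2 : (z₂ : ℚ) ≠ 0 := by exact_mod_cast (show z₂ ≠ 0 by omega)
  have q3 : (z₃ : ℚ) ≠ 0 := by exact_mod_cast (show z₃ ≠ 0 by omega)
  have q4 : (w : ℚ) ≠ 0 := by exact_mod_cast (show w ≠ 0 by omega)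
  field_simp at heq
  have hI : (g : ℤ) * (z₁ * z₂ * z₃ * w + w * (z₂ * z₃ + z₁ * z₃ + z₁ * z₂) + 2 * (z₁ * z₂ * z₃)) =
      162 * (z₁ * z₂ * z₃ * w) := by
    have : (((g : ℤ) * (z₁ * z₂ * z₃ * w + w * (z₂ * z₃ + z₁ * z₃ + z₁ * z₂) + 2 * (z₁ * z₂ * z₃)) : ℤ) : ℚ) =
        ((162 * (z₁ * z₂ * z₃ * w) : ℤ) : ℚ) := by push_cast; linear_combination heq
    exact_mod_cast this
  have h360 := hrow (by rw [← hI]; exact Int.mul_emod_left _ _)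
  rw [← hI] at h360
  have := mul_right_cancel₀ hne h360
  exact_mod_cast this

/-- Four classes of elements of order three are impossible. -/
theorem not_four_classes {u₀ u₁ u₂ u₃ : ι → ℤ}
    (h0 : u₀ o = 1) (h1 : u₁ o = 1) (h2 : u₂ o = 1) (h3 : u₃ o = 1) (hd0 : d o = 1)
    (hd : ∀ χ, χ ≠ o → 2 ≤ d χ)
    (m01 : ∀ χ, u₀ χ % 3 = u₁ χ % 3) (m02 : ∀ χ, u₀ χ % 3 = u₂ χ % 3) (m03 : ∀ χ, u₀ χ % 3 = u₃ χ % 3)
    (m12 : ∀ χ, u₁ χ % 3 = u₂ χ % 3) (m13 : ∀ χ, u₁ χ % 3 = u₃ χ % 3) (m23 : ∀ χ, u₂ χ % 3 = u₃ χ % 3)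
    (n0 : ∑ χ, u₀ χ * u₀ χ = 9) (n1 : ∑ χ, u₁ χ * u₁ χ = 9) (n2 : ∑ χ, u₂ χ * u₂ χ = 9) (n3 : ∑ χ, u₃ χ * u₃ χ = 9)
    (p01 : ∑ χ, u₀ χ * u₁ χ = 0) (p02 : ∑ χ, u₀ χ * u₂ χ = 0) (p03 : ∑ χ, u₀ χ * u₃ χ = 0)
    (p12 : ∑ χ, u₁ χ * u₂ χ = 0) (p13 : ∑ χ, u₁ χ * u₃ χ = 0) (p23 : ∑ χ, u₂ χ * u₃ χ = 0)
    (d0 : ∑ χ, d χ * u₀ χ = 0) (d1 : ∑ χ, d χ * u₁ χ = 0) (d2 : ∑ χ, d χ * u₂ χ = 0) (d3 : ∑ χ, d χ * u₃ χ = 0)
    (heq : ∑ χ, ((u₀ χ * u₁ χ * u₀ χ : ℤ) : ℚ) / (d χ : ℚ) = 0) : False := by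
  classical
  obtain ⟨A₁, B, P, s1⟩ := exists_pairShape h0 h1 m01 n0 n1 p01
  obtain ⟨A₂, B₂, P₂, s2⟩ := exists_pairShape h0 h2 m02 n0 n2 p02
  obtain ⟨A₃, B₃, P₃, s3⟩ := exists_pairShape h0 h3 m03 n0 n3 p03
  obtain ⟨C, D, Q, s12⟩ := exists_pairShape h1 h2 m12 n1 n2 p12
  obtain ⟨C', D', Q', s13⟩ := exists_pairShape h1 h3 m13 n1 n3 p13
  obtain ⟨C'', D'', Q'', s23⟩ := exists_pairShape h2 h3 m23 n2 n3 p23
  have two : ∀ {a b : ι} {R : Finset ι} {x y : ι → ℤ}, PairShape o x y a b R → ∀ χ, (x χ = 2 ∨ x χ = -2) →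
      χ ≠ o → χ = b := by
    intro a b R x y s χ hx hχ
    by_contra hb
    rcases eq_or_ne χ a with e | e
    · subst e; have := s.uA; omega
    · have := s.pm χ ((s.hP χ).2 ⟨hχ, e, hb, by omega⟩); omega
  have twov : ∀ {a b : ι} {R : Finset ι} {x y : ι → ℤ}, PairShape o x y a b R → ∀ χ, (y χ = 2 ∨ y χ = -2) →
      χ ≠ o → χ = a := by
    intro a b R x y s χ hy hχ
    by_contra ha
    rcases eq_or_ne χ b with e | e
    · subst e; have := s.vB; omega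
    · have h := s.same χ ha e
      by_cases hx : x χ = 0
      · omega
      · have := s.pm χ ((s.hP χ).2 ⟨hχ, ha, e, hx⟩); omega
  have hB2 : B₂ = B := two s1 B₂ (by have := s2.uB; have := s2.vB; omega) s2.hBo
  have hB3 : B₃ = B := two s1 B₃ (by have := s3.uB; have := s3.vB; omega) s3.hBo
  have h12 : A₁ ≠ A₂ := fun e => by
    have e1 : A₂ = D := two s12 A₂ (by have := s1.vA; have := s1.uA; rw [e] at *; omega) s2.hAo
    have e2 : A₂ = C := twov s12 A₂ (by have := s2.vA; have := s2.uA; omega) s2.hAo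
    exact s12.hAB (e2.symm.trans e1)
  have h13 : A₁ ≠ A₃ := fun e => by
    have e1 : A₃ = D' := two s13 A₃ (by have := s1.vA; have := s1.uA; rw [e] at *; omega) s3.hAo
    have e2 : A₃ = C' := twov s13 A₃ (by have := s3.vA; have := s3.uA; omega) s3.hAo
    exact s13.hAB (e2.symm.trans e1)
  have h23 : A₂ ≠ A₃ := fun e => by
    have e1 : A₃ = D'' := two s23 A₃ (by have := s2.vA; have := s2.uA; rw [e] at *; omega) s3.hAo
    have e2 : A₃ = C'' := twov s23 A₃ (by have := s3.vA; have := s3.uA; omega) s3.hAo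
    exact s23.hAB (e2.symm.trans e1)
  have hP2 : A₂ ∈ P := (s1.hP A₂).2 ⟨s2.hAo, h12.symm, fun e => s2.hAB (e.trans hB2.symm),
    by have := s2.uA; omega⟩
  have hP3 : A₃ ∈ P := (s1.hP A₃).2 ⟨s3.hAo, h13.symm, fun e => s3.hAB (e.trans hB3.symm),
    by have := s3.uA; omega⟩
  obtain ⟨Y, hY⟩ : ∃ Y, (P.erase A₂).erase A₃ = {Y} := Finset.card_eq_one.1 (by
    rw [Finset.card_erase_of_mem (Finset.mem_erase.2 ⟨h23.symm, hP3⟩), Finset.card_erase_of_mem hP2, s1.cardP])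
  have hsumP : ∀ {M : Type} [AddCommMonoid M] (f : ι → M), ∑ χ ∈ P, f χ = f A₂ + (f A₃ + f Y) := by
    intro M _ f
    rw [← Finset.add_sum_erase _ _ hP2, ← Finset.add_sum_erase _ _ (Finset.mem_erase.2 ⟨h23.symm, hP3⟩), hY,
      Finset.sum_singleton]
  have hYP : Y ∈ P := Finset.mem_of_mem_erase (Finset.mem_of_mem_erase
    (by rw [hY]; exact Finset.mem_singleton_self Y : Y ∈ (P.erase A₂).erase A₃))
  obtain ⟨e1, f1⟩ := s1.degree h0 hd0 d0 d1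
  obtain ⟨e2, -⟩ := s2.degree h0 hd0 d0 d2
  obtain ⟨e3, -⟩ := s3.degree h0 hd0 d0 d3
  have hBB : u₁ B = u₂ B ∧ u₁ B = u₃ B := by
    have := s1.uB
    have q2 := s2.uB
    have q3 := s3.uB
    rw [hB2] at q2
    rw [hB3] at q3
    omega
  rw [hB2, ← hBB.1] at e2
  rw [hB3, ← hBB.2] at e3
  rw [s1.weighted h0 hd0 e1, hsumP] at heq
  rw [hsumP] at f1
  have hz : 2 ≤ d Y * u₀ Y ∨ d Y * u₀ Y ≤ -2 := by
    have := hd Y ((s1.hP Y).1 hYP).1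
    rcases s1.pm Y hYP with e | e <;> rw [e] <;> omega
  have hw : 2 ≤ d A₁ * u₀ A₁ ∨ d A₁ * u₀ A₁ ≤ -2 := by
    have := hd A₁ s1.hAo
    rcases s1.uA with e | e <;> rw [e] <;> omega
  rw [e2.trans e1.symm, e3.trans e1.symm] at heq f1
  generalize d A₁ * u₀ A₁ = w at *
  generalize d Y * u₀ Y = z at *
  have hzw : z = -1 - w := by omega
  subst hzw
  have q1 : (w : ℚ) ≠ 0 := by exact_mod_cast (show w ≠ 0 by omega)
  have q2 : ((-1 - w : ℤ) : ℚ) ≠ 0 := by exact_mod_cast (show -1 - w ≠ 0 by omega)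
  field_simp at heq
  push_cast at heq
  have h4 : ((w + 2) ^ 2 : ℤ) = 0 := by
    have : (((w + 2) ^ 2 : ℤ) : ℚ) = 0 := by push_cast; linear_combination -heq
    exact_mod_cast this
  have : w + 2 = 0 := pow_eq_zero_iff two_ne_zero |>.1 h4
  omega

end Cfsg.Lib.Recog.NineSC
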