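import Mathlib

/-!
# An elementary Sylow three-subgroup of order nine whose normaliser contains the centralisers of its nontrivial elements
-/

set_option autoImplicit false
set_option linter.style.haveILetI false

namespace Cfsg.Lib.Recog.NineSC

open Subgroup

universe u

/-- An abelian elementary Sylow `3`-subgroup of order nine whose normaliser contains the centralisers
of its nontrivial elements. -/
structure Loose (G : Type u) [Group G] where
  /-- The Sylow subgroup. -/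
  S : Sylow 3 G
  card_S : Nat.card ↥(S : Subgroup G) = 9
  cube : ∀ s ∈ (S : Subgroup G), s ^ 3 = 1
  comm : ∀ {a b : G}, a ∈ (S : Subgroup G) → b ∈ (S : Subgroup G) → a * b = b * a
  cent_le : ∀ s ∈ (S : Subgroup G), s ≠ 1 →
    Subgroup.centralizer ({s} : Set G) ≤ Subgroup.normalizer ((S : Subgroup G) : Set G)

variable {G : Type u} [Group G] [Finite G] (X : Loose G)

/-- The normaliser. -/
abbrev Loose.N : Subgroup G := Subgroup.normalizer ((X.S : Subgroup G) : Set G)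

theorem Loose.exists_conj_mem {e : G} (he : e ^ 3 = 1) : ∃ g : G, g * e * g⁻¹ ∈ (X.S : Subgroup G) := by
  haveI : Fact (Nat.Prime 3) := ⟨Nat.prime_three⟩
  have hp : IsPGroup 3 (zpowers e) := fun ⟨y, hy⟩ => ⟨1, Subtype.ext (by
    obtain ⟨i, rfl⟩ := hy
    simp only [pow_one, Subgroup.coe_pow, Subgroup.coe_one]
    rw [← zpow_natCast, ← zpow_mul, mul_comm, zpow_mul, zpow_natCast, he, one_zpow])⟩
  obtain ⟨P, hP⟩ := hp.exists_le_sylow
  obtain ⟨g, hg⟩ := MulAction.exists_smul_eq G P X.S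
  refine ⟨g, ?_⟩
  rw [← hg, Sylow.coe_subgroup_smul, mem_pointwise_smul_iff_inv_smul_mem]
  simpa [MulAut.smul_def, mul_assoc] using hP (mem_zpowers e)

theorem Loose.mem_of_N {x : G} (hx : x ∈ X.N) (h3 : x ^ 3 = 1) : x ∈ (X.S : Subgroup G) := by
  haveI : Fact (Nat.Prime 3) := ⟨Nat.prime_three⟩
  have hp : IsPGroup 3 (zpowers x) := fun ⟨y, hy⟩ => ⟨1, Subtype.ext (by
    obtain ⟨i, rfl⟩ := hy
    simp only [pow_one, Subgroup.coe_pow, Subgroup.coe_one]
    rw [← zpow_natCast, ← zpow_mul, mul_comm, zpow_mul, zpow_natCast, h3, one_zpow])⟩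
  have : x ∈ zpowers x ⊓ X.N := ⟨mem_zpowers x, hx⟩
  have h2 : x ∈ zpowers x ⊓ normalizer (X.S : Set G) := this
  rw [hp.inf_normalizer_sylow X.S] at h2
  exact h2.2

theorem Loose.mem_of_cube {s x : G} (hs : s ∈ (X.S : Subgroup G)) (hs1 : s ≠ 1) (hx : x * s = s * x)
    (h3 : x ^ 3 = 1) : x ∈ (X.S : Subgroup G) :=
  X.mem_of_N (X.cent_le s hs hs1 (mem_centralizer_singleton_iff.2 hx)) h3

theorem Loose.conj_mem_N {s g : G} (hs : s ∈ (X.S : Subgroup G)) (hs1 : s ≠ 1)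
    (hg : g * s * g⁻¹ ∈ (X.S : Subgroup G)) : g ∈ X.N := by
  have h1 : g * s * g⁻¹ ≠ 1 := fun e => hs1 (by simpa using e)
  refine mem_normalizer_iff.2 fun x => ⟨fun hx => X.mem_of_cube hg h1 ?_ ?_, fun hx => X.mem_of_cube hs hs1 ?_ ?_⟩
  · rw [conj_mul, conj_mul, X.comm hx hs]
  · rw [conj_pow, X.cube x hx]; group
  · have h2 := X.comm hx hg
    rw [conj_mul, conj_mul] at h2
    exact mul_left_cancel (mul_right_cancel h2)
  · have h2 := X.cube _ hx
    rwa [conj_pow, conj_eq_one_iff] at h2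

include X in
/-- Three elements of order three with `p * q = r` commute unless they are conjugate. -/
theorem Loose.comm_of_product {p q : G} (hp : p ^ 3 = 1) (hq : q ^ 3 = 1) (hr : (p * q) ^ 3 = 1)
    (hne : ¬ IsConj p q ∨ ¬ IsConj p⁻¹ (p * q)) : p * q = q * p := by
  classical
  haveI : Fact (Nat.Prime 3) := ⟨Nat.prime_three⟩
  set w0 := p⁻¹ * q with hw0
  set w1 := p * w0 * p⁻¹ with hw1
  set w2 := p * w1 * p⁻¹ with hw2
  have e1 : w1 = q * p⁻¹ := by rw [hw1, hw0]; group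
  have hpp : p * p = p⁻¹ := eq_inv_of_mul_eq_one_left (by rw [← hp]; simp [pow_succ, mul_assoc])
  have hqq : q * q = q⁻¹ := eq_inv_of_mul_eq_one_left (by rw [← hq]; simp [pow_succ, mul_assoc])
  have hpi : p⁻¹ * p⁻¹ = p := by rw [← mul_inv_rev, hpp, inv_inv]
  have e2 : w2 = p * q * p := by
    rw [hw2, e1, show p * (q * p⁻¹) * p⁻¹ = p * q * (p⁻¹ * p⁻¹) by group, hpi]
  have hqpq : q * p * q * p * q = p⁻¹ := by
    refine eq_inv_of_mul_eq_one_left ?_
    calc q * p * q * p * q * p = p⁻¹ * (p * q) ^ 3 * p := by simp [pow_succ, mul_assoc]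
      _ = 1 := by rw [hr]; simp
  have r1 : w1 * w2 = w0⁻¹ := by
    rw [e1, e2, hw0, show q * p⁻¹ * (p * q * p) = q * q * p by group, hqq]; group
  have r2 : w0 * w2 * w1 = 1 := by
    rw [e1, e2, hw0, show p⁻¹ * q * (p * q * p) * (q * p⁻¹) = p⁻¹ * (q * p * q * p * q) * p⁻¹ by group, hqpq,
      hpi, mul_inv_cancel]
  have hc : w0 * w1 = w1 * w0 := by
    have a1 : w2 = w1⁻¹ * w0⁻¹ := by rw [← r1]; group
    have a2 : w2 = w0⁻¹ * w1⁻¹ := by
      have := eq_inv_of_mul_eq_one_left r2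
      rw [← this]; group
    have a3 := congrArg (fun z => z⁻¹) (a1.symm.trans a2)
    simp only [mul_inv_rev, inv_inv] at a3
    exact a3
  set V := Subgroup.closure ({w0, w1} : Set G) with hV
  haveI : IsMulCommutative V := Subgroup.isMulCommutative_closure (by
    intro x hx y hy
    simp only [Set.mem_insert_iff, Set.mem_singleton_iff] at hx hy
    rcases hx with rfl | rfl <;> rcases hy with rfl | rfl <;> first | rfl | exact hc | exact hc.symm)
  have hcomm : ∀ x ∈ V, ∀ y ∈ V, x * y = y * x := fun x hx y hy =>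
    congrArg Subtype.val (mul_comm' (⟨x, hx⟩ : V) ⟨y, hy⟩)
  have m0 : w0 ∈ V := subset_closure (by simp)
  have m1 : w1 ∈ V := subset_closure (by simp)
  have hpV : ∀ v ∈ V, p * v * p⁻¹ ∈ V := by
    intro v hv
    have hle : V ≤ V.comap (MulAut.conj p).toMonoidHom := by
      rw [hV, closure_le]
      intro z hz
      simp only [Set.mem_insert_iff, Set.mem_singleton_iff] at hz
      show p * z * p⁻¹ ∈ V
      rcases hz with rfl | rfl
      · exact m1
      · rw [show p * w1 * p⁻¹ = w1⁻¹ * w0⁻¹ by rw [← hw2, ← r1]; group]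
        exact mul_mem (inv_mem m1) (inv_mem m0)
    exact hle hv
  have hpV' : ∀ v ∈ V, p⁻¹ * v * p ∈ V := fun v hv => by
    have h := hpV _ (hpV v hv)
    rwa [show p * (p * v * p⁻¹) * p⁻¹ = (p * p) * v * (p⁻¹ * p⁻¹) by group, hpp, hpi] at h
  by_cases h3 : 3 ∣ Nat.card V
  · obtain ⟨⟨e, heV⟩, heo⟩ := exists_prime_orderOf_dvd_card' 3 h3
    rw [orderOf_mk] at heo
    have he : e ^ 3 = 1 := by rw [← heo]; exact pow_orderOf_eq_one e
    have he1 : e ≠ 1 := fun h => by rw [h, orderOf_one] at heo; omega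
    obtain ⟨g, hg⟩ := X.exists_conj_mem he
    have hg1 : g * e * g⁻¹ ≠ 1 := fun h => he1 (by simpa using h)
    have h1 : g * (p * e * p⁻¹) * g⁻¹ ∈ (X.S : Subgroup G) :=
      X.mem_of_cube hg hg1 (by rw [conj_mul, conj_mul, hcomm _ (hpV e heV) e heV])
        (by rw [conj_pow, conj_pow, he]; group)
    rw [show g * (p * e * p⁻¹) * g⁻¹ = (g * p * g⁻¹) * (g * e * g⁻¹) * (g * p * g⁻¹)⁻¹ by group] at h1
    have h2 := X.mem_of_N (X.conj_mem_N hg hg1 h1) (by rw [conj_pow, hp]; group)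
    have hpe : p * e = e * p := by
      have h4 := X.comm h2 hg
      rw [conj_mul, conj_mul] at h4
      exact mul_left_cancel (mul_right_cancel h4)
    have hqe : q * e = e * q := by
      rw [show q = p * w0 by rw [hw0]; group, mul_assoc, hcomm w0 m0 e heV, ← mul_assoc, hpe, mul_assoc]
    have h5 := X.mem_of_cube hg hg1 (x := g * q * g⁻¹) (by rw [conj_mul, conj_mul, hqe])
      (by rw [conj_pow, hq]; group)
    have h6 := X.comm h2 h5
    rw [conj_mul, conj_mul] at h6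
    exact mul_left_cancel (mul_right_cancel h6)
  · exfalso
    have hcop : (Nat.card V).Coprime 3 :=
      (((Nat.prime_three).coprime_iff_not_dvd).2 h3).symm
    have key : ∀ x : G, (∀ v ∈ V, x * v * x⁻¹ ∈ V) → ∀ v₀ ∈ V, x * v₀ * x⁻¹ * v₀⁻¹ = w0 ^ 3 →
        ∃ v : G, v * x⁻¹ * v⁻¹ = x⁻¹ * w0 := by
      intro x hx v₀ hv₀ h
      obtain ⟨⟨z, hzV⟩, hz⟩ := (powCoprime hcop).surjective ⟨v₀, hv₀⟩
      have hz3 : z ^ 3 = v₀ := congrArg Subtype.val hz
      have hcm : Commute (x * z * x⁻¹) z⁻¹ := hcomm _ (hx z hzV) _ (inv_mem hzV)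
      have h2 : (⟨x * z * x⁻¹ * z⁻¹, mul_mem (hx z hzV) (inv_mem hzV)⟩ : V) ^ 3 = ⟨w0, m0⟩ ^ 3 :=
        Subtype.ext (by
          show (x * z * x⁻¹ * z⁻¹) ^ 3 = w0 ^ 3
          rw [hcm.mul_pow, conj_pow, inv_pow, hz3, h])
      have h4 : x * z * x⁻¹ * z⁻¹ = w0 := congrArg Subtype.val ((powCoprime hcop).injective h2)
      exact ⟨z, by rw [← h4]; group⟩
    have c02 : w0 * w2 = w2 * w0 := hcomm _ m0 _ (hpV _ m1)
    have c12 : w1 * w2 = w2 * w1 := hcomm _ m1 _ (hpV _ m1)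
    have hr1j : w2⁻¹ * w1⁻¹ = w0 := by rw [← mul_inv_rev, r1, inv_inv]
    have hr1i : w1⁻¹ * w2⁻¹ = w0 := by rw [hcomm _ (inv_mem m1) _ (inv_mem (hpV _ m1)), hr1j]
    have hp2 : p * w2 * p⁻¹ = w0 := by
      have hp' : p * p * p = 1 := by rw [← hp, pow_succ, pow_two]
      rw [hw2, hw1, show p * (p * (p * w0 * p⁻¹) * p⁻¹) * p⁻¹ = (p * p * p) * w0 * (p * p * p)⁻¹ by group, hp']; group
    rcases hne with h | h
    · obtain ⟨v, hv⟩ := key p⁻¹ (fun v hv => by simpa using hpV' v hv) (w2 * (w1 * w1))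
        (mul_mem (hpV _ m1) (mul_mem m1 m1)) (by
          rw [inv_inv, show p⁻¹ * (w2 * (w1 * w1)) * p = (p⁻¹ * w2 * p) * ((p⁻¹ * w1 * p) * (p⁻¹ * w1 * p)) by group,
            show p⁻¹ * w2 * p = w1 by rw [hw2]; group, show p⁻¹ * w1 * p = w0 by rw [hw1]; group]
          calc w1 * (w0 * w0) * (w2 * (w1 * w1))⁻¹ = w1 * (w0 * w0) * (w1⁻¹ * (w1⁻¹ * w2⁻¹)) := by group
            _ = w1 * (w0 * w0) * (w1⁻¹ * w0) := by rw [hr1i]
            _ = (w0 * w0) * w1 * (w1⁻¹ * w0) := by rw [hcomm _ m1 _ (mul_mem m0 m0)]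
            _ = w0 ^ 3 := by rw [pow_succ, pow_two]; group)
      rw [inv_inv] at hv
      exact h (isConj_iff.2 ⟨v, by rw [hv, hw0]; group⟩)
    · obtain ⟨v, hv⟩ := key p hpV (w1 * (w2 * w2)) (mul_mem m1 (mul_mem (hpV _ m1) (hpV _ m1))) (by
          rw [show p * (w1 * (w2 * w2)) * p⁻¹ = (p * w1 * p⁻¹) * ((p * w2 * p⁻¹) * (p * w2 * p⁻¹)) by group,
            ← hw2, hp2]
          calc w2 * (w0 * w0) * (w1 * (w2 * w2))⁻¹ = w2 * (w0 * w0) * (w2⁻¹ * (w2⁻¹ * w1⁻¹)) := by group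
            _ = w2 * (w0 * w0) * (w2⁻¹ * w0) := by
              rw [hr1j]
            _ = (w0 * w0) * w2 * (w2⁻¹ * w0) := by rw [hcomm _ (hpV _ m1) _ (mul_mem m0 m0)]
            _ = w0 ^ 3 := by rw [pow_succ, pow_two]; group)
      refine h (isConj_iff.2 ⟨v, ?_⟩)
      rw [hv, hw0, ← mul_assoc, hpi]

theorem Loose.exists_basis {a : G} (ha : a ∈ (X.S : Subgroup G)) : ∃ e ∈ (X.S : Subgroup G), e ∉ zpowers a := by
  by_contra h
  push Not at h
  have hle := card_dvd_of_le (show (X.S : Subgroup G) ≤ zpowers a from h)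
  rw [X.card_S, Nat.card_zpowers] at hle
  have := Nat.le_of_dvd (by norm_num) (orderOf_dvd_of_pow_eq_one (X.cube a ha))
  have := Nat.le_of_dvd (orderOf_pos a) hle
  omega

/-- The nine elements in terms of a basis, as a finite set. -/
theorem Loose.listing [DecidableEq G] [Fintype G] [DecidablePred (· ∈ (X.S : Subgroup G))] {a e : G}
    (ha : a ∈ (X.S : Subgroup G)) (ha1 : a ≠ 1) (he : e ∈ (X.S : Subgroup G)) (hea : e ∉ zpowers a) :
    (Finset.univ.filter fun x => x ∈ (X.S : Subgroup G)) =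
      {1, a, a⁻¹, e, e⁻¹, a * e, (a * e)⁻¹, a * e⁻¹, (a * e⁻¹)⁻¹} ∧
    ({1, a, a⁻¹, e, e⁻¹, a * e, (a * e)⁻¹, a * e⁻¹, (a * e⁻¹)⁻¹} : Finset G).card = 9 := by
  have key : ∀ x ∈ (X.S : Subgroup G), x = x⁻¹ → x = 1 := fun x hx h => by
    have h2 : x * x = 1 := by nth_rewrite 1 [h]; exact inv_mul_cancel x
    have h3 := X.cube x hx
    rwa [pow_succ, pow_two, h2, one_mul] at h3
  have haa : a * a = a⁻¹ := eq_inv_of_mul_eq_one_left (by rw [← X.cube a ha]; simp [pow_succ, mul_assoc])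
  have hee : e * e = e⁻¹ := eq_inv_of_mul_eq_one_left (by rw [← X.cube e he]; simp [pow_succ, mul_assoc])
  have hc : ({1, a, a⁻¹, e, e⁻¹, a * e, (a * e)⁻¹, a * e⁻¹, (a * e⁻¹)⁻¹} : Finset G).card = 9 := by
    have hcm := X.comm ha he
    let f : Fin 3 × Fin 3 → G := fun ij => a ^ (ij.1 : ℕ) * e ^ (ij.2 : ℕ)
    have hf : Function.Injective f := by
      rintro ⟨i, j⟩ ⟨i', j'⟩ h
      have hj : j = j' := by
        by_contra hne
        have h1 : (a ^ (i' : ℕ))⁻¹ * a ^ (i : ℕ) = e ^ (j' : ℕ) * (e ^ (j : ℕ))⁻¹ := by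
          rw [eq_mul_inv_iff_mul_eq, mul_assoc, show a ^ (i : ℕ) * e ^ (j : ℕ) = a ^ (i' : ℕ) * e ^ (j' : ℕ) from h]
          group
        have h2 : e ^ (j' : ℕ) * (e ^ (j : ℕ))⁻¹ ∈ zpowers a :=
          h1 ▸ mul_mem (inv_mem (pow_mem (mem_zpowers a) _)) (pow_mem (mem_zpowers a) _)
        fin_cases j <;> fin_cases j' <;> first
          | exact hne rfl
          | exact hea (by simpa [pow_two, hee] using h2)
          | exact hea (by simpa [pow_two, hee, ← mul_inv_rev] using h2)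
      subst hj
      have h1 : a ^ (i : ℕ) = a ^ (i' : ℕ) := mul_right_cancel h
      have ho : orderOf a = 3 := orderOf_eq_prime (hp := ⟨Nat.prime_three⟩) (X.cube a ha) ha1
      have := pow_injOn_Iio_orderOf (x := a) (by rw [ho]; exact i.isLt) (by rw [ho]; exact i'.isLt) h1
      exact Prod.ext (Fin.ext this) rfl
    have himg : (Finset.univ.image f) = {1, a, a⁻¹, e, e⁻¹, a * e, (a * e)⁻¹, a * e⁻¹, (a * e⁻¹)⁻¹} := by
      have hu : (Finset.univ : Finset (Fin 3 × Fin 3)) =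
          {(0,0),(1,0),(2,0),(0,1),(0,2),(1,1),(2,2),(1,2),(2,1)} := by decide
      rw [hu]
      simp only [Finset.image_insert, Finset.image_singleton, f, Fin.val_zero, Fin.val_one, Fin.val_two, pow_zero,
        pow_one, pow_two, one_mul, mul_one, haa, hee]
      have r1 : (a * e)⁻¹ = a⁻¹ * e⁻¹ := by rw [hcm, mul_inv_rev]
      have r2 : (a * e⁻¹)⁻¹ = a⁻¹ * e := by
        rw [X.comm ha (inv_mem he), mul_inv_rev, inv_inv]
      rw [r1, r2]
    rw [← himg, Finset.card_image_of_injective _ hf]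
    rfl
  refine ⟨(Finset.eq_of_subset_of_card_le ?_ ?_).symm, hc⟩
  · intro x hx
    simp only [Finset.mem_insert, Finset.mem_singleton] at hx
    refine Finset.mem_filter.2 ⟨Finset.mem_univ _, ?_⟩
    rcases hx with rfl | rfl | rfl | rfl | rfl | rfl | rfl | rfl | rfl <;>
      first
        | exact one_mem _ | exact ha | exact inv_mem ha | exact he | exact inv_mem he | exact mul_mem ha he
        | exact inv_mem (mul_mem ha he) | exact mul_mem ha (inv_mem he) | exact inv_mem (mul_mem ha (inv_mem he))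
  · rw [hc, ← Fintype.card_subtype, ← Nat.card_eq_fintype_card]
    exact X.card_S.le

end Cfsg.Lib.Recog.NineSC
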