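import Cfsg.Agent.Lib.Recog.NineSC.Loose

/-!
# A self-centralising Sylow subgroup of order nine with dihedral action of order eight
-/

set_option autoImplicit false
set_option linter.style.haveILetI false

namespace Cfsg.Lib.Recog.NineSC

open Subgroup

universe u

theorem dihedral_words : ∀ x y z : DihedralGroup 4, x * y ≠ y * x →
    z = 1 ∨ z = x ∨ z = y ∨ z = x * x ∨ z = y * y ∨ z = x * y ∨ z = y * x ∨ z = x * x * x ∨ z = y * y * y ∨
      z = x * x * y ∨ z = y * y * x ∨ z = x * y * x ∨ z = y * x * y ∨ z = x * y * x * y := by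
  decide +kernel

theorem dihedral_facts : (∀ d : DihedralGroup 4, d ^ 4 = 1) ∧
    ((DihedralGroup.r 1 : DihedralGroup 4) * DihedralGroup.r 1 ≠ 1) ∧
    ((DihedralGroup.sr 0 : DihedralGroup 4) ≠ 1) ∧
    ((DihedralGroup.sr 0 : DihedralGroup 4) * DihedralGroup.sr 0 = 1) ∧
    ((DihedralGroup.sr 0 : DihedralGroup 4) * (DihedralGroup.r 1 * DihedralGroup.r 1) ≠ 1) ∧
    ((DihedralGroup.r 1 : DihedralGroup 4) * DihedralGroup.r 1 * (DihedralGroup.r 1 * DihedralGroup.r 1) = 1) ∧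
    ((DihedralGroup.r 1 : DihedralGroup 4) * DihedralGroup.sr 0 ≠ DihedralGroup.sr 0 * DihedralGroup.r 1) := by
  decide +kernel

/-- The hypotheses, with the facts about the dihedral quotient that are used. -/
structure SixHyp (G : Type u) [Group G] where
  /-- The Sylow subgroup. -/
  S : Sylow 3 G
  card_S : Nat.card ↥(S : Subgroup G) = 9
  cent_S : Subgroup.centralizer ((S : Subgroup G) : Set G) = (S : Subgroup G)
  cent_le : ∀ s ∈ (S : Subgroup G), s ≠ 1 →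
    Subgroup.centralizer ({s} : Set G) ≤ Subgroup.normalizer ((S : Subgroup G) : Set G)
  card_N : Nat.card ↥(Subgroup.normalizer ((S : Subgroup G) : Set G)) = 72
  four : ∀ n ∈ Subgroup.normalizer ((S : Subgroup G) : Set G), n * n * (n * n) ∈ (S : Subgroup G)
  rot : ∃ n ∈ Subgroup.normalizer ((S : Subgroup G) : Set G), n * n ∉ (S : Subgroup G)
  noncomm : ∃ n ∈ Subgroup.normalizer ((S : Subgroup G) : Set G),
    ∃ m ∈ Subgroup.normalizer ((S : Subgroup G) : Set G), n * m * n⁻¹ * m⁻¹ ∉ (S : Subgroup G)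
  pair : ∃ x ∈ Subgroup.normalizer ((S : Subgroup G) : Set G),
    ∃ y ∈ Subgroup.normalizer ((S : Subgroup G) : Set G), x ∉ (S : Subgroup G) ∧ x * x ∈ (S : Subgroup G) ∧
      y ∉ (S : Subgroup G) ∧ y * y ∈ (S : Subgroup G) ∧ x * y ∉ (S : Subgroup G)
  two_gen : ∀ H : Subgroup G, (S : Subgroup G) ≤ H →
    H ≤ Subgroup.normalizer ((S : Subgroup G) : Set G) →
    (∃ h ∈ H, ∃ k ∈ H, h * k * h⁻¹ * k⁻¹ ∉ (S : Subgroup G)) →
    Subgroup.normalizer ((S : Subgroup G) : Set G) ≤ H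

/-- The facts follow from an isomorphism of the quotient with the dihedral group of order eight. -/
theorem exists_sixHyp {G : Type u} [Group G] [Finite G] (P : Sylow 3 G) (S : Subgroup G) (hSP : S = P)
    (hcard : Nat.card S = 9) (hC : Subgroup.centralizer (S : Set G) = S)
    (eN : Subgroup.normalizer (S : Set G) ⧸ S.subgroupOf (Subgroup.normalizer (S : Set G)) ≃* DihedralGroup 4)
    (hcent : ∀ x ∈ S, x ≠ 1 → Subgroup.centralizer ({x} : Set G) ≤ Subgroup.normalizer (S : Set G)) :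
    ∃ X : SixHyp G, X.S = P := by
  subst hSP
  set N := Subgroup.normalizer ((P : Subgroup G) : Set G)
  let f : N →* DihedralGroup 4 :=
    eN.toMonoidHom.comp (QuotientGroup.mk' ((P : Subgroup G).subgroupOf N))
  have hf : ∀ n : N, f n = 1 ↔ (n : G) ∈ (P : Subgroup G) := fun n => by
    show eN (QuotientGroup.mk n) = 1 ↔ _
    rw [map_eq_one_iff eN eN.injective, QuotientGroup.eq_one_iff, Subgroup.mem_subgroupOf]
  have hsurj : ∀ d, ∃ n : N, f n = d := fun d => by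
    obtain ⟨n, hn⟩ := QuotientGroup.mk_surjective (eN.symm d)
    exact ⟨n, by show eN (QuotientGroup.mk n) = d; rw [hn, eN.apply_symm_apply]⟩
  obtain ⟨h4, hrr, hs1, hss, hsz, hzz, hrs⟩ := dihedral_facts
  obtain ⟨ρ, hρ⟩ := hsurj (DihedralGroup.r 1)
  obtain ⟨σ, hσ⟩ := hsurj (DihedralGroup.sr 0)
  refine ⟨⟨P, hcard, hC, hcent, ?_, ?_, ⟨ρ, ρ.2, ?_⟩, ⟨ρ, ρ.2, σ, σ.2, ?_⟩,
    ⟨σ, σ.2, (ρ * ρ : N), (ρ * ρ : N).2, ?_, ?_, ?_, ?_, ?_⟩, ?_⟩, rfl⟩
  · have h := ((P : Subgroup G).subgroupOf N).card_eq_card_quotient_mul_card_subgroup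
    rw [Nat.card_congr eN.toEquiv, Nat.card_congr (Subgroup.subgroupOfEquivOfLe Subgroup.le_normalizer).toEquiv,
      hcard, DihedralGroup.nat_card] at h
    exact h
  · intro n hn
    refine (hf (⟨n, hn⟩ * ⟨n, hn⟩ * (⟨n, hn⟩ * ⟨n, hn⟩))).1 ?_
    rw [map_mul, map_mul, ← pow_two, ← pow_two, ← pow_mul]
    exact h4 _
  · intro h
    exact hrr (by rw [← hρ, ← map_mul]; exact (hf (ρ * ρ)).2 h)
  · intro h
    have h1 := (hf (ρ * σ * ρ⁻¹ * σ⁻¹)).2 h
    rw [map_mul, map_mul, map_mul, map_inv, map_inv, hρ, hσ, mul_inv_eq_one, mul_inv_eq_iff_eq_mul] at h1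
    exact hrs h1
  · exact fun h => hs1 (hσ ▸ (hf σ).2 h)
  · exact (hf (σ * σ)).1 (by rw [map_mul, hσ, hss])
  · exact fun h => hrr (by rw [← hρ, ← map_mul]; exact (hf (ρ * ρ)).2 h)
  · exact (hf (ρ * ρ * (ρ * ρ))).1 (by rw [map_mul, map_mul, hρ, hzz])
  · exact fun h => hsz (by rw [← hρ, ← hσ, ← map_mul, ← map_mul]; exact (hf (σ * (ρ * ρ))).2 h)
  · intro H hSH hHN hnc z hz
    obtain ⟨h, hh, k, hk, hhk⟩ := hnc
    have hxy : f ⟨h, hHN hh⟩ * f ⟨k, hHN hk⟩ ≠ f ⟨k, hHN hk⟩ * f ⟨h, hHN hh⟩ := fun e => hhk ((hf (⟨h, hHN hh⟩ * ⟨k, hHN hk⟩ * ⟨h, hHN hh⟩⁻¹ * ⟨k, hHN hk⟩⁻¹)).1 (by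
      rw [map_mul, map_mul, map_mul, map_inv, map_inv, e]; group))
    have key : ∀ w : N, (w : G) ∈ H → f ⟨z, hz⟩ = f w → z ∈ H := by
      intro w hw he
      have h1 := (hf (⟨z, hz⟩ * w⁻¹)).1 (by rw [map_mul, map_inv, he, mul_inv_cancel])
      have h2 := mul_mem (hSH h1) hw
      simpa using h2
    rcases dihedral_words _ _ (f ⟨z, hz⟩) hxy with e | e | e | e | e | e | e | e | e | e | e | e | e | e
    · exact key 1 (one_mem _) (by rw [e, map_one])
    all_goals ((try simp only [← map_mul] at e); refine key _ ?_ e)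
    all_goals try simp only [Subgroup.coe_mul]
    all_goals repeat' first
      | exact hh
      | exact hk
      | apply mul_mem

end Cfsg.Lib.Recog.NineSC
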