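import Cfsg.Agent.Lib.Recog.NineSC.SixHyp

/-!
# Reduction to the simple normal closure of the Sylow subgroup
-/

set_option autoImplicit false
set_option linter.style.haveILetI false
set_option linter.unusedSectionVars false

namespace Cfsg.Lib.Recog.NineSC

open Subgroup

universe u

variable {G : Type u} [Group G] [Finite G] (X : SixHyp G)

/-- The normaliser. -/
abbrev SixHyp.N : Subgroup G := Subgroup.normalizer ((X.S : Subgroup G) : Set G)

theorem SixHyp.comm {a b : G} (ha : a ∈ (X.S : Subgroup G)) (hb : b ∈ (X.S : Subgroup G)) : a * b = b * a := by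
  haveI : Fact (Nat.Prime 3) := ⟨Nat.prime_three⟩
  haveI : IsMulCommutative ↥(X.S : Subgroup G) :=
    IsPGroup.isMulCommutative_of_card_eq_prime_sq (p := 3) (by rw [X.card_S]; norm_num)
  exact congrArg Subtype.val (mul_comm' (⟨a, ha⟩ : ↥(X.S : Subgroup G)) ⟨b, hb⟩)

theorem SixHyp.conj_mem {n s : G} (hn : n ∈ X.N) (hs : s ∈ (X.S : Subgroup G)) :
    n * s * n⁻¹ ∈ (X.S : Subgroup G) := (mem_normalizer_iff.1 hn s).1 hs

theorem SixHyp.mem_of_centralizes {x : G} (h : ∀ s ∈ (X.S : Subgroup G), x * s * x⁻¹ = s) :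
    x ∈ (X.S : Subgroup G) := by
  rw [← X.cent_S]
  exact mem_centralizer_iff.2 fun s hs => (mul_inv_eq_iff_eq_mul.1 (h s hs)).symm

theorem SixHyp.cube (s : G) (hs : s ∈ (X.S : Subgroup G)) : s ^ 3 = 1 := by
  by_contra h
  have hd : orderOf s ∣ 3 ^ 2 := by
    have := orderOf_dvd_natCard (⟨s, hs⟩ : ↥(X.S : Subgroup G))
    rwa [orderOf_mk, X.card_S] at this
  obtain ⟨i, hi, hi'⟩ := (Nat.dvd_prime_pow Nat.prime_three).1 hd
  have h9 : orderOf s = 9 := by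
    interval_cases i <;> rw [hi'] <;> norm_num at hi' ⊢
    · exact h (by rw [hi', one_pow])
    · exact h (by rw [← hi']; exact pow_orderOf_eq_one s)
  have hS : Subgroup.zpowers s = (X.S : Subgroup G) :=
    eq_of_le_of_card_ge (zpowers_le.2 hs) (by rw [Nat.card_zpowers, h9, X.card_S])
  obtain ⟨n, hn, m, hm, hnm⟩ := X.noncomm
  refine hnm (X.mem_of_centralizes fun t ht => ?_)
  obtain ⟨i, hi1⟩ := mem_zpowers_iff.1 (hS ▸ X.conj_mem hn hs)
  obtain ⟨j, hj1⟩ := mem_zpowers_iff.1 (hS ▸ X.conj_mem hm hs)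
  obtain ⟨k, rfl⟩ := mem_zpowers_iff.1 (hS ▸ ht)
  have hc : n * m * s * (n * m)⁻¹ = m * n * s * (m * n)⁻¹ := by
    calc n * m * s * (n * m)⁻¹ = n * (m * s * m⁻¹) * n⁻¹ := by group
      _ = (n * s * n⁻¹) ^ j := by rw [← hj1, conj_zpow]
      _ = (m * s * m⁻¹) ^ i := by rw [← hi1, ← hj1, ← zpow_mul, ← zpow_mul, mul_comm]
      _ = m * (n * s * n⁻¹) * m⁻¹ := by rw [← hi1, conj_zpow]
      _ = m * n * s * (m * n)⁻¹ := by group
  have h2 : n * m * n⁻¹ * m⁻¹ * s * (n * m * n⁻¹ * m⁻¹)⁻¹ = s := by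
    have hc' : (m * n) * s * (m * n)⁻¹ = n * m * s * (n * m)⁻¹ := hc.symm
    have e : ∀ y : G, (n * m * n⁻¹ * m⁻¹) * ((m * n) * y * (m * n)⁻¹) * (n * m * n⁻¹ * m⁻¹)⁻¹ =
        (n * m) * y * (n * m)⁻¹ := fun y => by group
    have h3 := e s
    rw [hc'] at h3
    -- the image of `s` under the product generates `S`
    obtain ⟨l, hl⟩ := mem_zpowers_iff.1
      (show s ∈ Subgroup.zpowers ((n * m) * s * (n * m)⁻¹) from by
        have hx := X.conj_mem (mul_mem hn hm) hs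
        have : Subgroup.zpowers ((n * m) * s * (n * m)⁻¹) = (X.S : Subgroup G) :=
          eq_of_le_of_card_ge (zpowers_le.2 hx) (by
            rw [Nat.card_zpowers, X.card_S, show (n * m) * s * (n * m)⁻¹ = MulAut.conj (n * m) s from rfl,
              MulEquiv.orderOf_eq, h9])
        rw [this]; exact hs)
    conv_lhs => rw [← hl]
    rw [← conj_zpow, h3, hl]
  rw [← conj_zpow, h2]

/-- The data as a `Loose` setting. -/
def SixHyp.toLoose : Loose G := ⟨X.S, X.card_S, X.cube, fun {_ _} ha hb => X.comm ha hb, X.cent_le⟩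

theorem SixHyp.mem_of_N {x : G} (hx : x ∈ X.N) (h3 : x ^ 3 = 1) : x ∈ (X.S : Subgroup G) :=
  X.toLoose.mem_of_N hx h3

theorem cube_cases {a : G} (ha : a ^ 3 = 1) {x : G} (hx : x ∈ zpowers a) : x = 1 ∨ x = a ∨ x = a⁻¹ := by
  obtain ⟨i, rfl⟩ := mem_zpowers_iff.1 hx
  have hz : a ^ i = a ^ (i % 3) := by
    conv_lhs => rw [← Int.emod_add_mul_ediv i 3, zpow_add, zpow_mul]
    rw [show a ^ (3 : ℤ) = 1 from by exact_mod_cast ha, one_zpow, mul_one]
  rcases (show i % 3 = 0 ∨ i % 3 = 1 ∨ i % 3 = 2 by omega) with h | h | h <;> rw [hz, h]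
  · exact Or.inl (zpow_zero a)
  · exact Or.inr (Or.inl (zpow_one a))
  · exact Or.inr (Or.inr (eq_inv_of_mul_eq_one_left (by rw [← zpow_add_one]; exact_mod_cast ha)))

theorem SixHyp.decompose {a e : G} (ha : a ∈ (X.S : Subgroup G)) (ha1 : a ≠ 1) (he : e ∈ (X.S : Subgroup G))
    (hea : e ∉ zpowers a) {x : G} (hx : x ∈ (X.S : Subgroup G)) :
    x ∈ zpowers a ∨ ∃ j : ℤ, x = e * a ^ j ∨ x = e⁻¹ * a ^ j := by
  classical
  haveI := Fintype.ofFinite G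
  have hl := (X.toLoose.listing ha ha1 he hea).1
  have h : x ∈ Finset.univ.filter fun y => y ∈ (X.toLoose.S : Subgroup G) :=
    Finset.mem_filter.2 ⟨Finset.mem_univ _, hx⟩
  rw [hl] at h
  simp only [Finset.mem_insert, Finset.mem_singleton] at h
  rcases h with rfl | rfl | rfl | rfl | rfl | rfl | rfl | rfl | rfl
  · exact Or.inl (one_mem _)
  · exact Or.inl (mem_zpowers _)
  · exact Or.inl (inv_mem (mem_zpowers _))
  · exact Or.inr ⟨0, Or.inl (by simp)⟩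
  · exact Or.inr ⟨0, Or.inr (by simp)⟩
  · exact Or.inr ⟨1, Or.inl (by rw [zpow_one, X.comm ha he])⟩
  · exact Or.inr ⟨-1, Or.inr (by rw [zpow_neg_one, mul_inv_rev])⟩
  · exact Or.inr ⟨1, Or.inr (by rw [zpow_one, X.comm ha (inv_mem he)])⟩
  · exact Or.inr ⟨-1, Or.inl (by rw [zpow_neg_one, mul_inv_rev, inv_inv])⟩

/-- An element fixing `a` and fixing `e` modulo `⟨a⟩` fixes `e` when its square does. -/
theorem SixHyp.fixes {a e x : G} {j : ℤ} (ha : a ∈ (X.S : Subgroup G)) (hxa : x * a * x⁻¹ = a)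
    (hxe : x * e * x⁻¹ = e * a ^ j) (hxx : x * x * e * (x * x)⁻¹ = e) : x * e * x⁻¹ = e := by
  have hxj : x * a ^ j * x⁻¹ = a ^ j := by rw [← conj_zpow, hxa]
  have h : x * x * e * (x * x)⁻¹ = e * a ^ j * a ^ j := by
    calc x * x * e * (x * x)⁻¹ = x * (x * e * x⁻¹) * x⁻¹ := by group
      _ = x * (e * a ^ j) * x⁻¹ := by rw [hxe]
      _ = (x * e * x⁻¹) * (x * a ^ j * x⁻¹) := by group
      _ = e * a ^ j * a ^ j := by rw [hxe, hxj]
  rw [hxx, mul_assoc] at h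
  have h2 : a ^ j * a ^ j = 1 := mul_eq_left.1 h.symm
  have h3 := X.cube _ (zpow_mem ha j)
  rw [pow_succ, pow_two, h2, one_mul] at h3
  rw [hxe, h3, mul_one]

/-- No line of `S` is invariant under the normaliser. -/
theorem SixHyp.exists_moved {a : G} (ha : a ∈ (X.S : Subgroup G)) (ha1 : a ≠ 1) :
    ∃ n ∈ X.N, n * a * n⁻¹ ∉ zpowers a := by
  by_contra hcon
  push Not at hcon
  have hk : ∀ n ∈ X.N, n * a * n⁻¹ = a ∨ n * a * n⁻¹ = a⁻¹ := fun n hn => by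
    rcases cube_cases (X.cube a ha) (hcon n hn) with h | h | h
    · exact absurd (conj_eq_one_iff.1 h) ha1
    · exact Or.inl h
    · exact Or.inr h
  obtain ⟨e, he, hea⟩ := X.toLoose.exists_basis ha
  obtain ⟨n, hn, hnn⟩ := X.rot
  have hsq : ∀ m ∈ X.N, m * m * a * (m * m)⁻¹ = a := fun m hm => by
    rw [show m * m * a * (m * m)⁻¹ = m * (m * a * m⁻¹) * m⁻¹ by group]
    rcases hk m hm with h | h
    · rw [h, h]
    · rw [h, ← conj_inv, h, inv_inv]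
  have hfix : n * n * e * (n * n)⁻¹ = e := by
    obtain ⟨j, hj⟩ : ∃ j : ℤ, n * n * e * (n * n)⁻¹ = e * a ^ j := by
      have hpow : ∀ i : ℤ, ∃ k : ℤ, n * a ^ i * n⁻¹ = a ^ k := fun i => by
        rcases hk n hn with h | h <;> rw [← conj_zpow, h]
        · exact ⟨i, rfl⟩
        · exact ⟨-i, by rw [inv_zpow, zpow_neg]⟩
      rcases X.decompose ha ha1 he hea (X.conj_mem hn he) with h | ⟨i, h | h⟩
      · exfalso
        refine hea ?_
        have hmem : n⁻¹ * (n * e * n⁻¹) * n⁻¹⁻¹ ∈ zpowers a := by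
          obtain ⟨l, hl⟩ := mem_zpowers_iff.1 h
          rw [← hl, ← conj_zpow]
          exact zpow_mem (hcon n⁻¹ (inv_mem hn)) l
        simpa [mul_assoc] using hmem
      · obtain ⟨k, hk'⟩ := hpow i
        refine ⟨i + k, ?_⟩
        rw [zpow_add, ← mul_assoc]
        calc n * n * e * (n * n)⁻¹ = n * (n * e * n⁻¹) * n⁻¹ := by group
          _ = n * (e * a ^ i) * n⁻¹ := by rw [h]
          _ = (n * e * n⁻¹) * (n * a ^ i * n⁻¹) := by group
          _ = e * a ^ i * a ^ k := by rw [h, hk']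
      · obtain ⟨k, hk'⟩ := hpow i
        refine ⟨-i + k, ?_⟩
        rw [zpow_add, ← mul_assoc]
        calc n * n * e * (n * n)⁻¹ = n * (n * e * n⁻¹) * n⁻¹ := by group
          _ = n * (e⁻¹ * a ^ i) * n⁻¹ := by rw [h]
          _ = (n * e * n⁻¹)⁻¹ * (n * a ^ i * n⁻¹) := by group
          _ = e * a ^ (-i) * a ^ k := by
            rw [h, hk', mul_inv_rev, inv_inv, ← zpow_neg, X.comm (zpow_mem ha _) he]
    refine X.fixes ha (hsq n hn) hj ?_
    have h4 := X.four n hn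
    exact mul_inv_eq_iff_eq_mul.2 (X.comm h4 he)
  refine hnn (X.mem_of_centralizes fun s hs => ?_)
  have haj : ∀ j : ℤ, n * n * a ^ j * (n * n)⁻¹ = a ^ j := fun j => by rw [← conj_zpow, hsq n hn]
  rcases X.decompose ha ha1 he hea hs with h | ⟨j, rfl | rfl⟩
  · obtain ⟨j, rfl⟩ := mem_zpowers_iff.1 h
    exact haj j
  · rw [← conj_mul, hfix, haj]
  · rw [← conj_mul, haj, ← conj_inv, hfix]

/-- A subgroup of order prime to three normalised by `S` is trivial. -/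
theorem SixHyp.eq_bot_of_invariant (K : Subgroup G) (hK : ∀ s ∈ (X.S : Subgroup G), ∀ k ∈ K, s * k * s⁻¹ ∈ K)
    (h3 : ¬ 3 ∣ Nat.card K) : K = ⊥ := by
  have hKS : ∀ k ∈ K, k ∈ (X.S : Subgroup G) → k = 1 := fun k hk hkS => by
    have h1 : orderOf k ∣ 3 := orderOf_dvd_of_pow_eq_one (X.cube k hkS)
    have h2 := orderOf_dvd_natCard (⟨k, hk⟩ : K)
    rw [orderOf_mk] at h2
    rcases (Nat.dvd_prime Nat.prime_three).1 h1 with h | h
    · exact orderOf_eq_one_iff.1 h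
    · exact absurd (h ▸ h2) h3
  have hfree : ∀ s ∈ (X.S : Subgroup G), s ≠ 1 → ∀ k ∈ K, s * k * s⁻¹ = k → k = 1 := by
    intro s hs hs1 k hk hsk
    have hkN : k ∈ X.N := X.cent_le s hs hs1 (mem_centralizer_singleton_iff.2 (mul_inv_eq_iff_eq_mul.1 hsk).symm)
    refine hKS k hk (X.mem_of_centralizes fun t ht => ?_)
    have h1 : k * t * k⁻¹ * t⁻¹ ∈ K := by
      rw [show k * t * k⁻¹ * t⁻¹ = k * (t * k⁻¹ * t⁻¹) by group]
      exact mul_mem hk (hK t ht _ (inv_mem hk))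
    exact mul_inv_eq_one.1 (hKS _ h1 (mul_mem (X.conj_mem hkN ht) (inv_mem ht)))
  rw [eq_bot_iff]
  intro y hy
  rw [mem_bot]
  have norm : ∀ s ∈ (X.S : Subgroup G), s ≠ 1 → y * (s * y * s⁻¹) * (s⁻¹ * y * s⁻¹⁻¹) = 1 := by
    intro s hs hs1
    let f : K → K := fun k => ⟨(k : G)⁻¹ * (s * k * s⁻¹), mul_mem (inv_mem k.2) (hK s hs k k.2)⟩
    have hf : Function.Injective f := by
      intro k k' h
      have h' : (k : G)⁻¹ * (s * k * s⁻¹) = (k' : G)⁻¹ * (s * k' * s⁻¹) := congrArg Subtype.val h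
      refine Subtype.ext (mul_inv_eq_one.1 (hfree s hs hs1 _ (mul_mem k.2 (inv_mem k'.2)) ?_))
      calc s * ((k : G) * (k' : G)⁻¹) * s⁻¹ = (k : G) * ((k : G)⁻¹ * (s * k * s⁻¹)) * (s * k' * s⁻¹)⁻¹ := by group
        _ = (k : G) * ((k' : G)⁻¹ * (s * k' * s⁻¹)) * (s * k' * s⁻¹)⁻¹ := by rw [h']
        _ = (k : G) * (k' : G)⁻¹ := by group
    obtain ⟨⟨k, hk⟩, hk'⟩ := (Finite.injective_iff_surjective.1 hf) ⟨y, hy⟩
    have hy' : k⁻¹ * (s * k * s⁻¹) = y := congrArg Subtype.val hk'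
    have hs3 : s * s = s⁻¹ := eq_inv_of_mul_eq_one_left (by rw [← X.cube s hs]; simp [pow_succ, mul_assoc])
    rw [← hy', show k⁻¹ * (s * k * s⁻¹) * (s * (k⁻¹ * (s * k * s⁻¹)) * s⁻¹) *
      (s⁻¹ * (k⁻¹ * (s * k * s⁻¹)) * s⁻¹⁻¹) = k⁻¹ * ((s * s) * k * (s * s)⁻¹ * (s⁻¹ * k⁻¹ * s⁻¹⁻¹)) * k by group, hs3]
    group
  have comm₁ : ∀ s ∈ (X.S : Subgroup G), (s * y * s⁻¹) * y = y * (s * y * s⁻¹) := by
    intro s hs
    by_cases hs1 : s = 1
    · simp [hs1]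
    have h1 := norm s hs hs1
    have h2 := norm s⁻¹ (inv_mem hs) (inv_ne_one.2 hs1)
    rw [inv_inv] at h1 h2
    have h3 : (s * y * s⁻¹) * (s⁻¹ * y * s) = (s⁻¹ * y * s) * (s * y * s⁻¹) :=
      mul_left_cancel ((mul_assoc _ _ _).symm.trans (h1.trans (h2.symm.trans (mul_assoc _ _ _))))
    have hs3 : s * s = s⁻¹ := eq_inv_of_mul_eq_one_left (by rw [← X.cube s hs]; simp [pow_succ, mul_assoc])
    have h4 : s⁻¹ * y * s * y = y * (s⁻¹ * y * s) := by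
      calc s⁻¹ * y * s * y = (s * s) * y * (s * s)⁻¹ * y := by rw [hs3, inv_inv]
        _ = s * ((s * y * s⁻¹) * (s⁻¹ * y * s)) * s⁻¹ := by group
        _ = s * ((s⁻¹ * y * s) * (s * y * s⁻¹)) * s⁻¹ := by rw [h3]
        _ = y * ((s * s) * y * (s * s)⁻¹) := by group
        _ = y * (s⁻¹ * y * s) := by rw [hs3, inv_inv]
    calc (s * y * s⁻¹) * y = (s * y * s⁻¹) * y := rfl
      _ = y * (s * y * s⁻¹) := by
        have h6 : s * ((s⁻¹ * y * s) * y) * s⁻¹ = s * (y * (s⁻¹ * y * s)) * s⁻¹ := by rw [h4]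
        rw [show s * ((s⁻¹ * y * s) * y) * s⁻¹ = y * (s * y * s⁻¹) by group,
          show s * (y * (s⁻¹ * y * s)) * s⁻¹ = (s * y * s⁻¹) * y by group] at h6
        exact h6.symm
  set V := Subgroup.closure ((fun s => s * y * s⁻¹) '' ((X.S : Subgroup G) : Set G)) with hV
  haveI : IsMulCommutative V := Subgroup.isMulCommutative_closure (by
    rintro _ ⟨s, hs, rfl⟩ _ ⟨t, ht, rfl⟩
    have h := congrArg (fun z => t * z * t⁻¹) (comm₁ (t⁻¹ * s) (mul_mem (inv_mem ht) hs))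
    calc s * y * s⁻¹ * (t * y * t⁻¹) = t * ((t⁻¹ * s) * y * (t⁻¹ * s)⁻¹ * y) * t⁻¹ := by group
      _ = t * (y * ((t⁻¹ * s) * y * (t⁻¹ * s)⁻¹)) * t⁻¹ := h
      _ = t * y * t⁻¹ * (s * y * s⁻¹) := by group)
  let c : ↥(X.S : Subgroup G) → V := fun s => ⟨(s : G) * y * (s : G)⁻¹, subset_closure ⟨s, s.2, rfl⟩⟩
  letI : CommGroup V := { (inferInstance : Group V) with mul_comm := mul_comm' }
  have hn : ∀ s : ↥(X.S : Subgroup G), (s : G) ≠ 1 → ∀ t : ↥(X.S : Subgroup G),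
      c t * c (t * s) * c (t * s⁻¹) = 1 := by
    intro s hs t
    refine Subtype.ext ?_
    show (t : G) * y * (t : G)⁻¹ * ((t * s : ↥(X.S : Subgroup G)) * y * ((t * s : ↥(X.S : Subgroup G)) : G)⁻¹) *
      ((t * s⁻¹ : ↥(X.S : Subgroup G)) * y * ((t * s⁻¹ : ↥(X.S : Subgroup G)) : G)⁻¹) = 1
    simp only [Subgroup.coe_mul, Subgroup.coe_inv]
    calc _ = (t : G) * (y * ((s : G) * y * (s : G)⁻¹) * ((s : G)⁻¹ * y * (s : G)⁻¹⁻¹)) * (t : G)⁻¹ := by group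
      _ = 1 := by rw [norm s s.2 hs]; group
  obtain ⟨⟨a, ha⟩, ha1⟩ : ∃ a : ↥(X.S : Subgroup G), a ≠ 1 := by
    haveI : Nontrivial ↥(X.S : Subgroup G) := Finite.one_lt_card_iff_nontrivial.1 (by rw [X.card_S]; norm_num)
    exact exists_ne 1
  obtain ⟨e, he, hea⟩ := X.toLoose.exists_basis ha
  set A : ↥(X.S : Subgroup G) := ⟨a, ha⟩ with hA
  set B : ↥(X.S : Subgroup G) := ⟨e, he⟩ with hB
  letI : CommGroup ↥(X.S : Subgroup G) :=
    { (inferInstance : Group ↥(X.S : Subgroup G)) with mul_comm := fun x z => Subtype.ext (X.comm x.2 z.2) }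
  have hA1 : (A : G) ≠ 1 := fun h => ha1 (Subtype.ext h)
  have hB1 : (B : G) ≠ 1 := fun h => hea (by rw [show e = 1 from h]; exact one_mem _)
  have hAB : ((A * B : ↥(X.S : Subgroup G)) : G) ≠ 1 := fun h => hea (by
    rw [show e = a⁻¹ from eq_inv_of_mul_eq_one_right h]; exact inv_mem (mem_zpowers _))
  have hAB' : ((A * B⁻¹ : ↥(X.S : Subgroup G)) : G) ≠ 1 := fun h => hea (by
    rw [show e = a from (mul_inv_eq_one.1 (show a * e⁻¹ = 1 from h)).symm]; exact mem_zpowers _)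
  have n1 := hn A hA1 1
  have n2 := hn A hA1 B
  have n3 := hn A hA1 B⁻¹
  have m2 := hn B hB1 1
  have m3 := hn _ hAB 1
  have m4 := hn _ hAB' 1
  simp only [one_mul, mul_inv_rev, inv_inv] at n1 n2 n3 m2 m3 m4
  simp only [mul_comm B, mul_comm B⁻¹] at n2 n3 m3 m4
  have h3' : c 1 ^ 3 = 1 := by
    have hprod : (c 1 * c A * c A⁻¹) * (c B * c (A * B) * c (A⁻¹ * B)) * (c B⁻¹ * c (A * B⁻¹) * c (A⁻¹ * B⁻¹)) = 1 := by
      rw [n1, n2, n3, one_mul, one_mul]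
    have h4 : (c 1 * c A * c A⁻¹) * (c 1 * c B * c B⁻¹) * (c 1 * c (A * B) * c (A⁻¹ * B⁻¹)) *
        (c 1 * c (A * B⁻¹) * c (A⁻¹ * B)) = 1 := by rw [n1, m2, m3, m4, one_mul, one_mul, one_mul]
    calc c 1 ^ 3 = c 1 ^ 3 * ((c 1 * c A * c A⁻¹) * (c B * c (A * B) * c (A⁻¹ * B)) *
          (c B⁻¹ * c (A * B⁻¹) * c (A⁻¹ * B⁻¹))) := by rw [hprod, mul_one]
      _ = (c 1 * c A * c A⁻¹) * (c 1 * c B * c B⁻¹) * (c 1 * c (A * B) * c (A⁻¹ * B⁻¹)) *
          (c 1 * c (A * B⁻¹) * c (A⁻¹ * B)) := by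
            rw [pow_succ, pow_two]; ac_rfl
      _ = 1 := h4
  have hy3 : y ^ 3 = 1 := by
    have := congrArg Subtype.val h3'
    simpa [c] using this
  have h1 : orderOf y ∣ 3 := orderOf_dvd_of_pow_eq_one hy3
  have h2 := orderOf_dvd_natCard (⟨y, hy⟩ : K)
  rw [orderOf_mk] at h2
  rcases (Nat.dvd_prime Nat.prime_three).1 h1 with h | h
  · exact orderOf_eq_one_iff.1 h
  · exact absurd (h ▸ h2) h3

/-- The normal closure of `S`. -/
abbrev SixHyp.M : Subgroup G := Subgroup.normalClosure ((X.S : Subgroup G) : Set G)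

theorem SixHyp.le_M : (X.S : Subgroup G) ≤ X.M := Subgroup.le_normalClosure

theorem SixHyp.exists_M_N (g : G) : ∃ m ∈ X.M, ∃ n ∈ X.N, g = m * n := by
  haveI : Fact (Nat.Prime 3) := ⟨Nat.prime_three⟩
  have h : X.N ⊔ X.M = ⊤ := Sylow.normalizer_sup_eq_top' X.S X.le_M
  have hg : g ∈ ((X.M ⊔ X.N : Subgroup G) : Set G) := by rw [sup_comm, h]; trivial
  rw [normal_mul] at hg
  obtain ⟨m, hm, n, hn, rfl⟩ := hg
  exact ⟨m, hm, n, hn, rfl⟩

theorem SixHyp.exists_conj_M {x : G} (hx : x ^ 3 = 1) : ∃ m ∈ X.M, m * x * m⁻¹ ∈ (X.S : Subgroup G) := by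
  obtain ⟨g, hg⟩ := X.toLoose.exists_conj_mem hx
  obtain ⟨m, hm, n, hn, he⟩ := X.exists_M_N g⁻¹
  refine ⟨m⁻¹, inv_mem hm, ?_⟩
  have := X.conj_mem hn (show g * x * g⁻¹ ∈ (X.S : Subgroup G) from hg)
  rwa [show g = n⁻¹ * m⁻¹ by rw [← inv_inv g, he, mul_inv_rev],
    show n * (n⁻¹ * m⁻¹ * x * (n⁻¹ * m⁻¹)⁻¹) * n⁻¹ = m⁻¹ * x * m⁻¹⁻¹ by group] at this

/-- A subgroup normalised by `M` meeting `S` trivially is trivial. -/
theorem SixHyp.eq_bot_of_meet {T : Subgroup G} (hTn : ∀ m ∈ X.M, ∀ t ∈ T, m * t * m⁻¹ ∈ T)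
    (hTS : ∀ t ∈ T, t ∈ (X.S : Subgroup G) → t = 1) : T = ⊥ := by
  haveI : Fact (Nat.Prime 3) := ⟨Nat.prime_three⟩
  refine X.eq_bot_of_invariant T (fun s hs => hTn s (X.le_M hs)) fun h => ?_
  obtain ⟨⟨x, hxT⟩, hxo⟩ := exists_prime_orderOf_dvd_card' 3 h
  rw [orderOf_mk] at hxo
  obtain ⟨m, hm, hmx⟩ := X.exists_conj_M (x := x) (by rw [← hxo]; exact pow_orderOf_eq_one x)
  have := hTS _ (hTn m hm x hxT) hmx
  rw [conj_eq_one_iff] at this
  rw [this, orderOf_one] at hxo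
  omega

/-- A subgroup normalised by `M` is trivial or contains `M`, unless `S` is normal. -/
theorem SixHyp.dichotomy (hnn : ¬ (X.S : Subgroup G).Normal) {T : Subgroup G}
    (hT : T ≤ X.M) (hTn : ∀ m ∈ X.M, ∀ t ∈ T, m * t * m⁻¹ ∈ T) : T = ⊥ ∨ X.M ≤ T := by
  by_cases hS : (X.S : Subgroup G) ≤ T
  · refine Or.inr ((Subgroup.closure_le _).2 ?_)
    intro x hx
    obtain ⟨s, hs, hsx⟩ := Group.mem_conjugatesOfSet_iff.1 hx
    obtain ⟨g, rfl⟩ := isConj_iff.1 hsx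
    obtain ⟨m, hm, n, hn, rfl⟩ := X.exists_M_N g
    rw [show m * n * s * (m * n)⁻¹ = m * (n * s * n⁻¹) * m⁻¹ by group]
    exact hTn m hm _ (hS (X.conj_mem hn hs))
  by_cases hTS : ∀ t ∈ T, t ∈ (X.S : Subgroup G) → t = 1
  · exact Or.inl (X.eq_bot_of_meet hTn hTS)
  exfalso
  push Not at hTS
  obtain ⟨a, haT, ha, ha1⟩ := hTS
  have hline : ∀ t ∈ T, t ∈ (X.S : Subgroup G) → t ∈ zpowers a := by
    intro t ht hts
    by_contra hta
    refine hS fun x hx => ?_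
    rcases X.decompose ha ha1 hts hta hx with h | ⟨j, rfl | rfl⟩
    · exact zpowers_le.2 haT h
    · exact mul_mem ht (zpow_mem haT j)
    · exact mul_mem (inv_mem ht) (zpow_mem haT j)
  obtain ⟨n, hn, hna⟩ := X.exists_moved ha ha1
  set e := n * a * n⁻¹ with hedef
  have he : e ∈ (X.S : Subgroup G) := X.conj_mem hn ha
  have he1 : e ≠ 1 := fun h => ha1 (conj_eq_one_iff.1 h)
  set T' : Subgroup G := T.map (MulAut.conj n).toMonoidHom with hT'
  have hM : X.M.Normal := Subgroup.normalClosure_normal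
  have hT'n : ∀ m ∈ X.M, ∀ t ∈ T', m * t * m⁻¹ ∈ T' := by
    rintro m hm _ ⟨t, ht, rfl⟩
    refine ⟨(n⁻¹ * m * n) * t * (n⁻¹ * m * n)⁻¹, hTn _ (by simpa using hM.conj_mem m hm n⁻¹) t ht, ?_⟩
    show n * ((n⁻¹ * m * n) * t * (n⁻¹ * m * n)⁻¹) * n⁻¹ = m * (n * t * n⁻¹) * m⁻¹
    group
  have hline' : ∀ t ∈ T', t ∈ (X.S : Subgroup G) → t ∈ zpowers e := by
    rintro _ ⟨t, ht, rfl⟩ hts
    change n * t * n⁻¹ ∈ (X.S : Subgroup G) at hts
    obtain ⟨j, rfl⟩ := mem_zpowers_iff.1 (hline t ht ((mem_normalizer_iff.1 hn t).2 hts))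
    show n * a ^ j * n⁻¹ ∈ zpowers e
    rw [← conj_zpow]
    exact zpow_mem (mem_zpowers _) j
  have heT : e ∈ T' := ⟨a, haT, rfl⟩
  have hinf : T ⊓ T' = ⊥ := X.eq_bot_of_meet (fun m hm t ht => ⟨hTn m hm t ht.1, hT'n m hm t ht.2⟩) (by
    rintro t ⟨ht, ht'⟩ hts
    rcases cube_cases (X.cube a ha) (hline t ht hts) with h | h | h
    · exact h
    · exact absurd (hline' t ht' hts) (by
        rw [h]; intro hh
        rcases cube_cases (X.cube e he) hh with k | k | k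
        · exact ha1 k
        · exact hna (k ▸ mem_zpowers _)
        · exact hna (by rw [show e = a⁻¹ by rw [k, inv_inv]]; exact inv_mem (mem_zpowers _)))
    · exact absurd (hline' t ht' hts) (by
        rw [h]; intro hh
        rcases cube_cases (X.cube e he) hh with k | k | k
        · exact ha1 (inv_eq_one.1 k)
        · exact hna (k ▸ inv_mem (mem_zpowers _))
        · exact hna (by rw [← inv_inj.1 k]; exact mem_zpowers _)))
  have hT'M : T' ≤ X.M := by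
    rintro _ ⟨t, ht, rfl⟩
    exact hM.conj_mem t (hT ht) n
  have hcomm : ∀ t ∈ T, ∀ t' ∈ T', t * t' = t' * t := by
    intro t ht t' ht'
    have h : t * t' * t⁻¹ * t'⁻¹ ∈ T ⊓ T' := mem_inf.2 ⟨by
      rw [show t * t' * t⁻¹ * t'⁻¹ = t * (t' * t⁻¹ * t'⁻¹) by group]
      exact mul_mem ht (hTn t' (hT'M ht') _ (inv_mem ht)),
      mul_mem (hT'n t (hT ht) t' ht') (inv_mem ht')⟩
    rw [hinf, mem_bot] at h
    exact commutatorElement_eq_one_iff_mul_comm.1 h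
  have hTN : ∀ t ∈ T, t ∈ X.N := fun t ht =>
    X.cent_le e he he1 (mem_centralizer_singleton_iff.2 (hcomm t ht e heT))
  have hT'N : ∀ t ∈ T', t ∈ X.N := fun t ht =>
    X.cent_le a ha ha1 (mem_centralizer_singleton_iff.2 (hcomm a haT t ht).symm)
  have key : ∀ m ∈ X.M, ∀ s ∈ (X.S : Subgroup G), m * s * m⁻¹ ∈ (X.S : Subgroup G) := by
    intro m hm s hs
    have hpw : ∀ z : G, z ∈ (X.S : Subgroup G) → (m * z * m⁻¹) ^ 3 = 1 := fun z hz => by
      rw [conj_pow, X.cube z hz]; group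
    have h1 : m * a * m⁻¹ ∈ (X.S : Subgroup G) := X.mem_of_N (hTN _ (hTn m hm a haT)) (hpw a ha)
    have h2 : m * e * m⁻¹ ∈ (X.S : Subgroup G) := X.mem_of_N (hT'N _ (hT'n m hm e heT)) (hpw e he)
    rcases X.decompose ha ha1 he hna hs with h | ⟨j, rfl | rfl⟩
    · obtain ⟨j, rfl⟩ := mem_zpowers_iff.1 h
      rw [← conj_zpow]; exact zpow_mem h1 j
    · rw [← conj_mul, ← conj_zpow]; exact mul_mem h2 (zpow_mem h1 j)
    · rw [← conj_mul, ← conj_zpow, ← conj_inv]; exact mul_mem (inv_mem h2) (zpow_mem h1 j)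
  refine hnn ⟨fun s hs g => ?_⟩
  obtain ⟨m, hm, k, hk, rfl⟩ := X.exists_M_N g
  rw [show m * k * s * (m * k)⁻¹ = m * (k * s * k⁻¹) * m⁻¹ by group]
  exact key m hm _ (X.conj_mem hk hs)

theorem SixHyp.simple (hnn : ¬ (X.S : Subgroup G).Normal) : IsSimpleGroup X.M := by
  obtain ⟨⟨a, ha⟩, ha1⟩ : ∃ a : ↥(X.S : Subgroup G), a ≠ 1 := by
    haveI : Nontrivial ↥(X.S : Subgroup G) := Finite.one_lt_card_iff_nontrivial.1 (by rw [X.card_S]; norm_num)
    exact exists_ne 1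
  haveI : Nontrivial X.M := ⟨⟨⟨a, X.le_M ha⟩, 1, fun h => ha1 (Subtype.ext (congrArg (fun z : X.M => (z : G)) h))⟩⟩
  refine ⟨fun H hH => ?_⟩
  have hTn : ∀ m ∈ X.M, ∀ t ∈ H.map X.M.subtype, m * t * m⁻¹ ∈ H.map X.M.subtype := by
    rintro m hm _ ⟨t, ht, rfl⟩
    exact ⟨⟨m, hm⟩ * t * ⟨m, hm⟩⁻¹, hH.conj_mem t ht _, rfl⟩
  rcases X.dichotomy hnn (Subgroup.map_subtype_le H) hTn with h | h
  · exact Or.inl ((Subgroup.map_eq_bot_iff_of_injective H X.M.subtype_injective).1 h)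
  · refine Or.inr (eq_top_iff.2 fun x _ => ?_)
    obtain ⟨t, ht, he⟩ := h x.2
    exact (Subtype.ext he : t = x) ▸ ht

end Cfsg.Lib.Recog.NineSC
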